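/-
Rank-one pushing up, part 1: a frame (the quotient onto `PSL₂`, chosen compatibly with the conjugating
element) and the algebraic lemma on additive maps compatible with inversion.
-/
import Cfsg.Agent.Lib.PushUp.Torus
import Cfsg.Agent.Lib.PushUp.Natural
import Cfsg.Agent.Lib.FGBasics.Sylow

set_option autoImplicit false

namespace Cfsg.Agent.PushUp2

open Subgroup PushUp

/-- An additive map from a finite field, compatible with inversion, is multiplicative. -/
theorem map_mul_of_inv {F R : Type*} [Field F] [Finite F] [Ring R] (A B : F →+ R) (h1 : A 1 = 1)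
    (hl : ∀ c ≠ 0, A c * B c⁻¹ = 1) (hr : ∀ c ≠ 0, B c⁻¹ * A c = 1) (c d : F) :
    A (c * d) = A c * A d := by
  have hB1 : B 1 = 1 := by simpa [h1] using hl 1 one_ne_zero
  have key : ∀ x y : F, x ≠ 0 → y ≠ 0 → A (x * x / y) = A x * B y⁻¹ * A x := by
    intro x y hx hy
    by_cases hs : x + y = 0
    · have e : y = -x := eq_neg_of_add_eq_zero_right hs
      subst e
      rw [div_neg, mul_div_assoc, div_self hx, mul_one, map_neg, inv_neg, map_neg, mul_neg, neg_mul,
        hl x hx, one_mul]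
    set z := x * x / y + x with hz
    have hzz : z = x * (x + y) / y := by rw [hz]; field_simp
    have hz0 : z ≠ 0 := by rw [hzz]; exact div_ne_zero (mul_ne_zero hx hs) hy
    have hsum : z⁻¹ = x⁻¹ - (x + y)⁻¹ := by rw [hzz]; field_simp; ring
    have hB : B z⁻¹ = B x⁻¹ * A y * B (x + y)⁻¹ := by
      rw [hsum, map_sub]
      have e : A y = A (x + y) - A x := by rw [map_add]; abel
      rw [e, mul_sub, sub_mul, mul_assoc, hl _ hs, mul_one, hr x hx, one_mul]
    have hinv : B z⁻¹ * (A (x + y) * B y⁻¹ * A x) = 1 := by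
      rw [hB, mul_assoc (B x⁻¹ * A y), ← mul_assoc (B (x + y)⁻¹), ← mul_assoc (B (x + y)⁻¹), hr _ hs,
        one_mul, mul_assoc (B x⁻¹), ← mul_assoc (A y), hl y hy, one_mul, hr x hx]
    have hAz : A z = A (x + y) * B y⁻¹ * A x := by
      calc A z = A z * (B z⁻¹ * (A (x + y) * B y⁻¹ * A x)) := by rw [hinv, mul_one]
        _ = _ := by rw [← mul_assoc, hl z hz0, one_mul]
    rw [hz, map_add, map_add, add_mul, add_mul, hl y hy, one_mul] at hAz
    exact add_right_cancel hAz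
  have hAB : ∀ y : F, A y = B y := by
    intro y
    by_cases hy : y = 0
    · rw [hy, map_zero, map_zero]
    have := key 1 y⁻¹ one_ne_zero (inv_ne_zero hy)
    simpa [h1] using this
  have jor : ∀ x z : F, A (x * x * z) = A x * A z * A x := by
    intro x z
    by_cases hx : x = 0
    · simp [hx]
    by_cases hz : z = 0
    · simp [hz]
    have := key x z⁻¹ hx (inv_ne_zero hz)
    rwa [div_inv_eq_mul, inv_inv, ← hAB] at this
  obtain ⟨t, ht⟩ := IsCyclic.exists_generator (α := Fˣ)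
  have pw : ∀ k : ℕ, A ((t : F) ^ k) = A (t : F) ^ k := by
    intro k
    induction k using Nat.twoStepInduction with
    | zero => simpa using h1
    | one => simp
    | more k ih _ =>
      rw [show (t : F) ^ (k + 2) = (t : F) * t * (t : F) ^ k by ring, jor, ih]
      rw [pow_succ (A (t : F)) (k + 1), pow_succ' (A (t : F)) k]
  have rep : ∀ x : F, x ≠ 0 → ∃ k : ℕ, x = (t : F) ^ k := by
    intro x hx
    obtain ⟨k, hk⟩ := (mem_powers_iff_mem_zpowers (x := t)).2 (ht (Units.mk0 x hx))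
    exact ⟨k, by rw [← Units.val_pow_eq_pow_val]; exact (congrArg Units.val hk).symm⟩
  by_cases hc : c = 0
  · simp [hc]
  by_cases hd : d = 0
  · simp [hd]
  obtain ⟨i, rfl⟩ := rep c hc
  obtain ⟨j, rfl⟩ := rep d hd
  rw [← pow_add, pw, pw, pw, pow_add]

variable {G : Type*} [Group G] [Finite G] {p : ℕ} [hp : Fact p.Prime]

/-- The data taken from the pushing-up situation. -/
structure Frame (p : ℕ) (S : Subgroup G) (g : G) {F : Type} [Field F]
    (φ : G →* Matrix.ProjectiveSpecialLinearGroup (Fin 2) F) : Prop where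
  sit : Sit p S g
  card_pow : ∃ n, n ≠ 0 ∧ Nat.card F = p ^ n
  surj : Function.Surjective φ
  img : S.map φ = Ubar F
  kerS : S ⊓ φ.ker ≤ Cfsg.pCore p G
  weyl : φ g = proj F PushUp.weyl
  kerProper : φ.ker ⊔ S ≠ ⊤
  join : ∀ H L : Subgroup G, S ≤ H → S ≤ L → H ≠ ⊤ → L ≠ ⊤ → H ⊔ L ≠ ⊤

theorem exists_frame (P : Sylow p G)
    (hC : centralizer (Cfsg.pCore p G : Set G) ≤ Cfsg.pCore p G)
    (hM : ∃! M : Subgroup G, IsCoatom M ∧ (P : Subgroup G) ≤ M) (K : Subgroup G) [hKn : K.Normal]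
    (F : Type) [Field F] [Fintype F] (n : ℕ) (hq : Fintype.card F = p ^ n)
    (e : G ⧸ K ≃* Matrix.ProjectiveSpecialLinearGroup (Fin 2) F) :
    ∃ (φ : G →* Matrix.ProjectiveSpecialLinearGroup (Fin 2) F) (g : G),
      Frame p (P : Subgroup G) g φ ∧ φ.ker = K := by
  obtain ⟨M, ⟨hMco, hSM⟩, hMu⟩ := hM
  have hOS : Cfsg.pCore p G ≤ (P : Subgroup G) := FittingCores.pCore_le_sylow P
  set φ₀ : G →* Matrix.ProjectiveSpecialLinearGroup (Fin 2) F :=
    e.toMonoidHom.comp (QuotientGroup.mk' K) with hφ₀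
  have hs₀ : Function.Surjective φ₀ := e.surjective.comp (QuotientGroup.mk'_surjective K)
  have : Finite (Matrix.ProjectiveSpecialLinearGroup (Fin 2) F) := Finite.of_surjective _ hs₀
  let UP : Sylow p (Matrix.ProjectiveSpecialLinearGroup (Fin 2) F) :=
    (isPGroup_Ubar F hq).toSylow (index_Ubar_not_dvd F hq)
  obtain ⟨c, hc⟩ := MulAction.exists_smul_eq (Matrix.ProjectiveSpecialLinearGroup (Fin 2) F)
    (P.mapSurjective hs₀) UP
  set φ : G →* Matrix.ProjectiveSpecialLinearGroup (Fin 2) F := (MulAut.conj c).toMonoidHom.comp φ₀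
    with hφ
  have hs : Function.Surjective φ := (MulAut.conj c).surjective.comp hs₀
  have hSU : (P : Subgroup G).map φ = Ubar F := by
    have h := congrArg (fun T : Sylow p (Matrix.ProjectiveSpecialLinearGroup (Fin 2) F) =>
      T.toSubgroup) hc
    simp only [Sylow.coe_subgroup_smul] at h
    rw [hφ, ← Subgroup.map_map]
    exact h
  have hker : φ.ker = K := by
    ext x
    simp [hφ, hφ₀]
  obtain ⟨g, hg⟩ := hs (proj F PushUp.weyl)
  have hUtop : Ubar F ≠ ⊤ := fun h =>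
    weyl_conj_ne F (one_ne_zero (α := F)) (by
      rw [h, Subgroup.map_top_of_surjective _ (MulAut.conj _).surjective]
      exact Subgroup.mem_top _)
  have below : ∀ H : Subgroup G, H ≠ ⊤ → (P : Subgroup G) ≤ H → H ≤ M := by
    intro H hH hle
    obtain ⟨M', hM', hHM'⟩ := (eq_top_or_exists_le_coatom H).resolve_left hH
    rwa [hMu M' ⟨hM', hle.trans hHM'⟩] at hHM'
  have hKP : K ⊔ (P : Subgroup G) ≠ ⊤ := fun h => hUtop (by
    have h2 := congrArg (Subgroup.map φ) h
    rw [Subgroup.map_sup, hSU, (Subgroup.map_eq_bot_iff _).2 hker.ge, bot_sup_eq,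
      Subgroup.map_top_of_surjective _ hs] at h2
    exact h2)
  have hKM : K ≤ M := le_trans le_sup_left (below _ hKP le_sup_right)
  have hSK : (P : Subgroup G) ⊓ K ≤ Cfsg.pCore p G := by
    have hnorm : ((P : Subgroup G) ⊓ K).Normal := by
      by_contra hn
      have hne : Subgroup.normalizer (((P : Subgroup G) ⊓ K : Subgroup G) : Set G) ≠ ⊤ := fun h =>
        hn (Subgroup.normalizer_eq_top_iff.1 h)
      have hNM := below _ hne (FGBasics.le_normalizer_inf P K)
      apply hMco.1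
      rw [eq_top_iff, ← FGBasics.normalizer_inf_sup_eq_top P K]
      exact sup_le hNM hKM
    exact FittingCores.le_pCore hnorm (P.isPGroup'.to_le inf_le_left)
  have hn0 : n ≠ 0 := fun h => by
    have := Fintype.one_lt_card (α := F)
    rw [hq, h] at this
    simp at this
  refine ⟨φ, g, ⟨⟨P.isPGroup', P.not_dvd_index, hOS, hC, fun H hH hgH => ?_⟩,
    ⟨n, hn0, by rw [Nat.card_eq_fintype_card, hq]⟩, hs, hSU, hker.symm ▸ hSK, hg, hker.symm ▸ hKP,
    fun H L hH hL hH1 hL1 h => hMco.1 (eq_top_iff.2 (h.ge.trans (sup_le (below H hH1 hH) (below L hL1 hL))))⟩,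
    hker⟩
  rintro x ⟨hxH, hxP⟩
  have hne : H.map φ ≠ ⊤ := by
    intro htop
    set H' := H.map (MulAut.conj g⁻¹).toMonoidHom with hH'
    have h1 : H' ≤ M := by
      refine below _ (fun h => hH ?_) ?_
      · exact Subgroup.map_injective (MulAut.conj g⁻¹).injective
          (h.trans (Subgroup.map_top_of_surjective _ (MulAut.conj g⁻¹).surjective).symm)
      · intro y hy
        exact ⟨g * y * g⁻¹, hgH ⟨y, hy, rfl⟩, by simp [mul_assoc]⟩
    apply hMco.1
    rw [eq_top_iff]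
    intro y _
    obtain ⟨h, hh, he⟩ : φ (g * y * g⁻¹) ∈ H.map φ := htop ▸ Subgroup.mem_top _
    have hk : h⁻¹ * (g * y * g⁻¹) ∈ K := by
      rw [← hker, MonoidHom.mem_ker, map_mul, map_inv, he, inv_mul_cancel]
    have e2 : y = g⁻¹ * h * g * (g⁻¹ * (h⁻¹ * (g * y * g⁻¹)) * g) := by group
    rw [e2]
    refine M.mul_mem (h1 ⟨h, hh, by simp [mul_assoc]⟩) (hKM ?_)
    have := hKn.conj_mem _ hk g⁻¹
    rwa [inv_inv] at this
  have h1 : φ x = 1 := by
    refine inf_eq_one F hne ?_ (hSU ▸ ⟨x, hxP, rfl⟩) ⟨x, hxH, rfl⟩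
    rw [← hg, ← hSU, Subgroup.map_map]
    rintro _ ⟨y, hy, rfl⟩
    refine ⟨g * y * g⁻¹, hgH ⟨y, hy, rfl⟩, ?_⟩
    simp [map_mul]
  exact hSK ⟨hxP, hker ▸ MonoidHom.mem_ker.2 h1⟩

variable {S : Subgroup G} {g : G} {F : Type} [Field F]
  {φ : G →* Matrix.ProjectiveSpecialLinearGroup (Fin 2) F}

local notation "O" => Cfsg.pCore p G

theorem Frame.finite (h : Frame p S g φ) : Finite F := by
  obtain ⟨n, -, hn⟩ := h.card_pow
  exact Nat.finite_of_card_ne_zero (hn ▸ pow_ne_zero _ hp.out.ne_zero)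

theorem Frame.exists_coord (h : Frame p S g φ) {x : G} (hx : x ∈ S) :
    ∃ c : F, φ x = proj F (up c) := by
  obtain ⟨c, hc⟩ : φ x ∈ Ubar F := h.img ▸ ⟨x, hx, rfl⟩
  exact ⟨c, hc.symm⟩

theorem Frame.exists_elem (h : Frame p S g φ) (c : F) : ∃ x ∈ S, φ x = proj F (up c) := by
  obtain ⟨x, hx, e⟩ : proj F (up c) ∈ S.map φ := h.img.symm ▸ ⟨c, rfl⟩
  exact ⟨x, hx, e⟩

/-- `O_p(G)` lies in the kernel. -/
theorem Frame.core_le_ker (h : Frame p S g φ) : O ≤ φ.ker := by
  intro o ho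
  have := FittingCores.pCore_normal (G := G) p
  obtain ⟨c, hc⟩ := h.exists_coord (h.sit.core_le ho)
  by_cases hc0 : c = 0
  · simp [hc, hc0, up_zero]
  refine absurd ?_ (weyl_conj_ne F hc0)
  rw [← hc, ← h.weyl, ← h.img, Subgroup.map_map]
  refine ⟨g⁻¹ * o * g, h.sit.core_le (by simpa using this.conj_mem o ho g⁻¹), ?_⟩
  simp [map_mul, mul_assoc]

theorem Frame.mem_core_iff (h : Frame p S g φ) {x : G} (hx : x ∈ S) :
    x ∈ O ↔ φ x = 1 :=
  ⟨fun hxO => h.core_le_ker hxO, fun h1 => h.kerS ⟨hx, h1⟩⟩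

theorem Frame.not_le_core (h : Frame p S g φ) : ¬ S ≤ O := by
  intro hle
  obtain ⟨x, hx, e⟩ := h.exists_elem 1
  have := (h.mem_core_iff hx).1 (hle hx)
  exact one_ne_zero (proj_up_inj F (show proj F (up (1 : F)) = proj F (up 0) by
    rw [← e, this, up_zero, map_one]))

theorem Frame.gen (h : Frame p S g φ) {H : Subgroup G} (hS : S ≤ H)
    (hg : S.map (MulAut.conj g).toMonoidHom ≤ H) : H = ⊤ := by
  by_contra hne
  exact h.not_le_core ((le_inf hS le_rfl).trans (h.sit.meet H hne hg))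

theorem Frame.meet' (h : Frame p S g φ) {H : Subgroup G} (hg : ∀ s ∈ S, g * s * g⁻¹ ∈ H) {x : G}
    (hx : x ∈ S) (hxO : x ∉ O) (hxH : x ∈ H) : H = ⊤ := by
  by_contra hne
  exact hxO (h.sit.meet H hne (by rintro _ ⟨s, hs, rfl⟩; exact hg s hs) ⟨hxH, hx⟩)

theorem Frame.card_S (h : Frame p S g φ) : Nat.card ↥S = Nat.card ↥O * Nat.card F := by
  have := FittingCores.pCore_normal (G := G) p
  let f : ↥S →* ↥(Ubar F) := (φ.comp S.subtype).codRestrict _ fun x => h.img ▸ ⟨x, x.2, rfl⟩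
  have hf : Function.Surjective f := by
    rintro ⟨y, hy⟩
    obtain ⟨x, hx, e⟩ : y ∈ S.map φ := h.img.symm ▸ hy
    exact ⟨⟨x, hx⟩, Subtype.ext e⟩
  have hk : f.ker = (O).subgroupOf S := by
    ext x
    simp only [MonoidHom.mem_ker, mem_subgroupOf, h.mem_core_iff x.2]
    exact ⟨fun e => congrArg Subtype.val e, fun e => Subtype.ext e⟩
  rw [← f.ker.index_mul_card, index_ker, MonoidHom.range_eq_top.2 hf, Subgroup.card_top, hk,
    Nat.card_congr (subgroupOfEquivOfLe h.sit.core_le).toEquiv, mul_comm]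
  congr 1
  have := h.finite
  have := Fintype.ofFinite F
  rw [card_Ubar, Nat.card_eq_fintype_card]

/-- A `p`-subgroup meets the core in index at most `q`. -/
theorem Frame.card_le (h : Frame p S g φ) {Q : Subgroup G} (hQ : IsPGroup p ↥Q) :
    Nat.card ↥Q ≤ Nat.card F * Nat.card ↥(Q ⊓ O) := by
  have := FittingCores.pCore_normal (G := G) p
  have hpg : IsPGroup p ↥(Q ⊔ O) :=
    hQ.to_sup_of_normal_right (h.sit.pgroup.to_le h.sit.core_le)
  obtain ⟨P, hP⟩ := hpg.exists_le_sylow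
  have hcard : Nat.card ↥(Q ⊔ O) ≤ Nat.card ↥S := by
    refine (card_le_of_le hP).trans (le_of_eq ?_)
    exact (P.card_eq_multiplicity.trans
      (h.sit.pgroup.toSylow h.sit.not_dvd).card_eq_multiplicity.symm)
  have h2 := PushUp.card_sup_eq (H := Q) (K := O) (by rw [normalizer_eq_top (H := O)]; exact le_top)
  rw [h.card_S] at hcard
  have h3 := Nat.mul_le_mul_right (Nat.card ↥(Q ⊓ O)) hcard
  rw [h2] at h3
  refine Nat.le_of_mul_le_mul_right (le_trans h3 (le_of_eq ?_)) (Nat.card_pos (α := ↥O))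
  ring

end Cfsg.Agent.PushUp2
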