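/-
Rank-one pushing up, part 2: a module on which a Sylow subgroup fixes a subgroup of index at most `q`
and acts quadratically is the natural module of `SL₂`.
-/
import Cfsg.Agent.Lib.PushUp2.Frame
import Cfsg.Agent.Lib.Solvable.Coprime

set_option autoImplicit false

namespace Cfsg.Agent.PushUp2

open Subgroup PushUp Matrix

variable {G : Type*} [Group G] [Finite G] {p : ℕ} [hp : Fact p.Prime]
  {S : Subgroup G} {g : G} {F : Type} [Field F]
  {φ : G →* Matrix.ProjectiveSpecialLinearGroup (Fin 2) F}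

local notation "O" => Cfsg.pCore p G

/-- A lift of `φ` to `SL₂` sending `S` to the upper unitriangular group. -/
structure Lifts (S : Subgroup G) (g : G) (φ : G →* Matrix.ProjectiveSpecialLinearGroup (Fin 2) F)
    (Φ : G →* Matrix.SpecialLinearGroup (Fin 2) F) : Prop where
  up_S : ∀ x ∈ S, ∀ c : F, φ x = proj F (up c) → Φ x = up c
  low_S : ∀ x ∈ S, ∀ c : F, φ x = proj F (up c) → Φ (g * x * g⁻¹) = low (-c)

variable {Φ : G →* Matrix.SpecialLinearGroup (Fin 2) F}

theorem Lifts.unique (h : Frame p S g φ) (hΦ : Lifts S g φ Φ)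
    {Ψ : G →* Matrix.SpecialLinearGroup (Fin 2) F} (hΨ : Lifts S g φ Ψ) : Φ = Ψ := by
  have htop : Φ.eqLocus Ψ = ⊤ := by
    refine h.gen (fun x hx => ?_) ?_
    · obtain ⟨c, hc⟩ := h.exists_coord hx
      show Φ x = Ψ x
      rw [hΦ.up_S x hx c hc, hΨ.up_S x hx c hc]
    · rintro _ ⟨x, hx, rfl⟩
      obtain ⟨c, hc⟩ := h.exists_coord hx
      show Φ (g * x * g⁻¹) = Ψ (g * x * g⁻¹)
      rw [hΦ.low_S x hx c hc, hΨ.low_S x hx c hc]
  exact MonoidHom.ext fun x => (htop ▸ mem_top x : x ∈ Φ.eqLocus Ψ)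

theorem Lifts.proj_eq (h : Frame p S g φ) (hΦ : Lifts S g φ Φ) (x : G) : proj F (Φ x) = φ x := by
  have htop : ((proj F).comp Φ).eqLocus φ = ⊤ := by
    refine h.gen (fun x hx => ?_) ?_
    · obtain ⟨c, hc⟩ := h.exists_coord hx
      show proj F (Φ x) = φ x
      rw [hΦ.up_S x hx c hc, hc]
    · rintro _ ⟨x, hx, rfl⟩
      obtain ⟨c, hc⟩ := h.exists_coord hx
      show proj F (Φ (g * x * g⁻¹)) = φ (g * x * g⁻¹)
      rw [hΦ.low_S x hx c hc, map_mul, map_mul, map_inv, h.weyl, hc, ← map_inv, ← map_mul, ← map_mul,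
        weyl_up]
  exact (htop ▸ mem_top x : x ∈ ((proj F).comp Φ).eqLocus φ)

theorem Lifts.ker_le (h : Frame p S g φ) (hΦ : Lifts S g φ Φ) : Φ.ker ≤ φ.ker := fun x hx => by
  rw [MonoidHom.mem_ker, ← hΦ.proj_eq h, MonoidHom.mem_ker.1 hx, map_one]

theorem Lifts.core_le_ker (h : Frame p S g φ) (hΦ : Lifts S g φ Φ) : O ≤ Φ.ker := fun o ho => by
  rw [MonoidHom.mem_ker, hΦ.up_S o (h.sit.core_le ho) 0
    (by rw [h.core_le_ker ho, up_zero, map_one]), up_zero]

theorem Lifts.mem_core_iff (h : Frame p S g φ) (hΦ : Lifts S g φ Φ) {x : G} (hx : x ∈ S) :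
    x ∈ O ↔ Φ x = 1 :=
  ⟨fun hxO => hΦ.core_le_ker h hxO,
    fun h1 => h.kerS ⟨hx, hΦ.ker_le h (MonoidHom.mem_ker.2 h1)⟩⟩

theorem Lifts.surjective (h : Frame p S g φ) (hΦ : Lifts S g φ Φ) : Function.Surjective Φ := by
  rw [← MonoidHom.range_eq_top]
  refine eq_top_of_mem (b := (1 : F)) (fun y => ?_) one_ne_zero ?_
  · obtain ⟨x, hx, hc⟩ := h.exists_elem (-y)
    exact ⟨g * x * g⁻¹, by rw [hΦ.low_S x hx _ hc, neg_neg]⟩
  · obtain ⟨x, hx, hc⟩ := h.exists_elem 1
    exact ⟨x, hΦ.up_S x hx _ hc⟩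

theorem up_mulVec (c : F) (v : Fin 2 → F) :
    ((up c : Matrix.SpecialLinearGroup (Fin 2) F) : Matrix (Fin 2) (Fin 2) F) *ᵥ v =
      ![v 0 + c * v 1, v 1] := by
  rw [coe_up]
  ext i; fin_cases i <;> simp [Matrix.mulVec, dotProduct, Fin.sum_univ_two]

theorem low_mulVec (c : F) (v : Fin 2 → F) :
    ((low c : Matrix.SpecialLinearGroup (Fin 2) F) : Matrix (Fin 2) (Fin 2) F) *ᵥ v =
      ![v 0, c * v 0 + v 1] := by
  rw [coe_low]
  ext i; fin_cases i <;> simp [Matrix.mulVec, dotProduct, Fin.sum_univ_two]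

theorem Frame.natCast_eq_zero (h : Frame p S g φ) : (p : F) = 0 := by
  obtain ⟨n, hn0, hn⟩ := h.card_pow
  have := h.finite
  have := Fintype.ofFinite F
  have e : ((p : F)) ^ n = 0 := by
    rw [← Nat.cast_pow, ← hn, Nat.card_eq_fintype_card]
    exact Nat.cast_card_eq_zero F
  exact pow_eq_zero_iff hn0 |>.1 e

section Rep

variable {D : Type*} [AddCommGroup D] [Finite D] (ρ : G →* AddMonoid.End D)

omit [Finite G] [Finite D] in
theorem rep_mul (a b : G) (d : D) : ρ (a * b) d = ρ a (ρ b d) := by rw [map_mul]; rfl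

omit [Finite G] [Finite D] in
theorem rep_one (d : D) : ρ 1 d = d := by rw [map_one]; rfl

omit [Finite G] [Finite D] in
theorem rep_inv (a : G) (d : D) : ρ a⁻¹ (ρ a d) = d := by rw [← rep_mul, inv_mul_cancel, rep_one]

omit [Finite G] [Finite D] in
theorem rep_inv' (a : G) (d : D) : ρ a (ρ a⁻¹ d) = d := by rw [← rep_mul, mul_inv_cancel, rep_one]

set_option maxHeartbeats 1600000 in
/-- The reduced case: no fixed points. -/
theorem spread_reduced (h : Frame p S g φ) (hO : ∀ o ∈ O, ρ o = 1) (X : AddSubgroup D)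
    (hfix : ∀ s ∈ S, ∀ d ∈ X, ρ s d = d) (hquad : ∀ s ∈ S, ∀ d, ρ s d - d ∈ X)
    (hinj : ∀ x ∈ S, x ∉ O → ∀ d ∈ X.map (ρ g), ρ x d = d → d = 0)
    (hcard : Nat.card D ≤ Nat.card F * Nat.card X) (hne : ∃ d ∈ X, d ≠ 0) :
    ∃ Φ : G →* Matrix.SpecialLinearGroup (Fin 2) F, Lifts S g φ Φ ∧
      ∃ ψ : D ≃+ (Fin 2 → F),
        (∀ (k : G) (d : D), ψ (ρ k d) =
          ((Φ k : Matrix.SpecialLinearGroup (Fin 2) F) : Matrix (Fin 2) (Fin 2) F) *ᵥ ψ d) ∧
        ∀ d, d ∈ X ↔ ψ d 1 = 0 := by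
  classical
  have := h.finite
  have hpF := h.natCast_eq_zero
  have := FittingCores.pCore_normal (G := G) p
  set Y : AddSubgroup D := X.map (ρ g) with hY
  have hginj : Function.Injective (ρ g : D → D) := fun a b e => by
    rw [← rep_inv ρ g a, e, rep_inv]
  choose xs hxs hxc using h.exists_elem
  have hxO : ∀ c : F, c ≠ 0 → xs c ∉ O := fun c hc hO' => hc (proj_up_inj F
    (show proj F (up c) = proj F (up 0) by rw [← hxc, h.core_le_ker hO', up_zero, map_one]))
  have indep : ∀ x ∈ S, ∀ c : F, φ x = proj F (up c) → ρ x = ρ (xs c) := by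
    intro x hx c hc
    have h1 : (xs c)⁻¹ * x ∈ O := h.kerS ⟨S.mul_mem (S.inv_mem (hxs c)) hx, by
      show φ ((xs c)⁻¹ * x) = 1
      rw [map_mul, map_inv, hxc, hc, inv_mul_cancel]⟩
    calc ρ x = ρ (xs c * ((xs c)⁻¹ * x)) := by rw [mul_inv_cancel_left]
      _ = ρ (xs c) := by rw [map_mul, hO _ h1, mul_one]
  -- `δ` is additive in the group element
  have hδ : ∀ a ∈ S, ∀ b ∈ S, ∀ d, ρ (a * b) d - d = (ρ a d - d) + (ρ b d - d) := by
    intro a ha b hb d
    have := hfix a ha _ (hquad b hb d)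
    rw [map_sub] at this
    rw [rep_mul, show ρ a (ρ b d) = ρ b d - d + ρ a d from (sub_eq_iff_eq_add.1 this)]
    abel
  have hadd : ∀ c c' : F, ρ (xs (c + c')) = ρ (xs c * xs c') := fun c c' =>
    (indep _ (S.mul_mem (hxs c) (hxs c')) (c + c')
      (by rw [map_mul, hxc, hxc, ← map_mul, up_mul])).symm
  have hdisj : ∀ d ∈ X, d ∈ Y → d = 0 := fun d hd hdY =>
    hinj _ (hxs 1) (hxO 1 one_ne_zero) d hdY (hfix _ (hxs 1) d hd)
  -- the two families of maps
  let zs : F → G := fun c => g * xs (-c) * g⁻¹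
  have hzρ : ∀ (c : F) (d : D), ρ (zs c) d - d = ρ g (ρ (xs (-c)) (ρ g⁻¹ d) - ρ g⁻¹ d) := by
    intro c d
    show ρ (g * xs (-c) * g⁻¹) d - d = _
    rw [rep_mul, rep_mul, map_sub, rep_inv']
  have hYmem : ∀ d ∈ Y, ρ g⁻¹ d ∈ X := by
    rintro _ ⟨e, he, rfl⟩
    show ρ g⁻¹ (ρ g e) ∈ X
    rw [rep_inv]; exact he
  let a : F → (↥Y →+ ↥X) := fun c =>
    { toFun := fun y => ⟨ρ (xs c) y - y, hquad _ (hxs c) y⟩
      map_zero' := Subtype.ext (by simp)
      map_add' := fun y y' => Subtype.ext (by simp [map_add]; abel) }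
  let b : F → (↥X →+ ↥Y) := fun c =>
    { toFun := fun y => ⟨ρ (zs c) y - y, by rw [hzρ]; exact AddSubgroup.mem_map_of_mem _ (hquad _ (hxs _) _)⟩
      map_zero' := Subtype.ext (by simp)
      map_add' := fun y y' => Subtype.ext (by simp [map_add]; abel) }
  have ha_add : ∀ c c' y, a (c + c') y = a c y + a c' y := fun c c' y => Subtype.ext (by
    show ρ (xs (c + c')) (y : D) - y = (ρ (xs c) (y : D) - y) + (ρ (xs c') (y : D) - y)
    rw [hadd, hδ _ (hxs c) _ (hxs c')])
  have hb_add : ∀ c c' y, b (c + c') y = b c y + b c' y := fun c c' y => Subtype.ext (by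
    show ρ (zs (c + c')) (y : D) - y = (ρ (zs c) (y : D) - y) + (ρ (zs c') (y : D) - y)
    rw [hzρ, hzρ, hzρ, neg_add, hadd, hδ _ (hxs _) _ (hxs _), map_add])
  -- cardinalities
  have hinjF : ∀ y : ↥Y, y ≠ 0 → Function.Injective fun c => a c y := by
    intro y hy c c' e
    by_contra hne'
    have h2 : a (c - c') y = 0 := by
      have := ha_add (c - c') c' y
      rw [sub_add_cancel] at this
      change a c y = a c' y at e
      rw [e] at this
      exact right_eq_add.1 this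
    exact hy (Subtype.ext (hinj _ (hxs _) (hxO _ (sub_ne_zero.2 hne')) y y.2
      (sub_eq_zero.1 (congrArg Subtype.val h2))))
  obtain ⟨e₀, he₀, he₀0⟩ := hne
  let y₀ : ↥Y := ⟨ρ g e₀, AddSubgroup.mem_map_of_mem _ he₀⟩
  have hy₀ : y₀ ≠ 0 := fun e => he₀0 (hginj (by rw [map_zero]; exact congrArg Subtype.val e))
  have hqX : Nat.card F ≤ Nat.card X := Nat.card_le_card_of_injective _ (hinjF y₀ hy₀)
  have hYX : Nat.card Y = Nat.card X :=
    (Nat.card_congr (X.equivMapOfInjective (ρ g) hginj).toEquiv).symm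
  let sum : ↥X × ↥Y → D := fun t => (t.1 : D) + t.2
  have hsum : Function.Injective sum := by
    rintro ⟨u, v⟩ ⟨u', v'⟩ e
    change (u : D) + v = (u' : D) + v' at e
    have e1 : (u : D) - u' = (v' : D) - v := by linear_combination (norm := abel) e
    have h0 := hdisj _ (sub_mem u.2 u'.2) (e1 ▸ sub_mem v'.2 v.2)
    rw [h0] at e1
    exact Prod.ext (Subtype.ext (sub_eq_zero.1 h0)) (Subtype.ext (sub_eq_zero.1 e1.symm).symm)
  have hle := Nat.card_le_card_of_injective sum hsum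
  rw [Nat.card_prod, hYX] at hle
  have hXq : Nat.card X = Nat.card F :=
    le_antisymm (Nat.le_of_mul_le_mul_right (hle.trans hcard) Nat.card_pos) hqX
  have hsumb : Function.Bijective sum :=
    (Nat.bijective_iff_injective_and_card _).2 ⟨hsum,
      le_antisymm (by rw [Nat.card_prod, hYX]; exact hle)
        (by rw [Nat.card_prod, hYX, hXq] ; rwa [hXq] at hcard)⟩
  have ha_bij : ∀ y : ↥Y, y ≠ 0 → Function.Bijective fun c => a c y := fun y hy =>
    (Nat.bijective_iff_injective_and_card _).2 ⟨hinjF y hy, hXq.symm⟩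
  have fixX : ∀ x ∈ S, x ∉ O → ∀ d, ρ x d = d → d ∈ X := by
    intro x hx hx' d hd
    obtain ⟨⟨u, v⟩, rfl⟩ := hsumb.2 d
    change ρ x ((u : D) + v) = (u : D) + v at hd
    rw [map_add, hfix x hx _ u.2, add_right_inj] at hd
    show (u : D) + v ∈ X
    rw [hinj x hx hx' v v.2 hd, add_zero]
    exact u.2
  have fixS : ∀ d, (∀ s ∈ S, ρ s d = d) → d ∈ X := fun d hd =>
    fixX _ (hxs 1) (hxO 1 one_ne_zero) d (hd _ (hxs 1))
  -- the kernel of `ρ` together with `S` is proper
  have hρker : ρ.ker ⊔ S ≠ ⊤ := by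
    intro htop
    obtain ⟨k, hk, s, hs, e⟩ := mem_sup_of_normal_left.1 (htop.symm ▸ mem_top g)
    refine hy₀ (Subtype.ext (hdisj _ ?_ y₀.2))
    show ρ g e₀ ∈ X
    rw [← e, rep_mul, hfix s hs _ he₀, MonoidHom.mem_ker.1 hk]
    exact he₀
  -- `ker φ` fixes `X`
  have hKfix : ∀ k ∈ φ.ker, ∀ d ∈ X, ρ k d ∈ X := by
    by_cases hprime : Nat.card F = p
    · intro k hk d hd
      by_contra hkd
      obtain ⟨⟨u, v⟩, huv⟩ := hsumb.2 (ρ k d)
      change (u : D) + v = ρ k d at huv
      have hv : v ≠ 0 := fun e => hkd (by rw [← huv, e]; simpa using u.2)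
      obtain ⟨c, hc⟩ := (ha_bij v hv).2 u
      have hc' : ρ (xs c) (v : D) = ρ k d := by
        rw [← huv]
        exact sub_eq_iff_eq_add.1 (congrArg Subtype.val hc)
      set X' : AddSubgroup D := X.map (ρ k) with hX'
      have hkinj : Function.Injective (ρ k : D → D) := fun a b e => by
        rw [← rep_inv ρ k a, e, rep_inv]
      have hX'p : Nat.card X' = p := by
        rw [← Nat.card_congr (X.equivMapOfInjective (ρ k) hkinj).toEquiv, hXq, hprime]
      have hY'X : ∀ y ∈ Y, ρ (xs c) y ∈ X' := by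
        set W := (Y.map (ρ (xs c))) with hW
        have hWp : Nat.card W = p := by
          rw [← Nat.card_congr (Y.equivMapOfInjective (ρ (xs c))
            (fun a b e => by
              change ρ (xs c) a = ρ (xs c) b at e; rw [← rep_inv ρ (xs c) a, e, rep_inv])).toEquiv, hYX, hXq, hprime]
        intro y hy
        have hne' : W ⊓ X' ≠ ⊥ := fun hb => by
          have h0 := (AddSubgroup.eq_bot_iff_forall _).1 hb (ρ k d)
            ⟨hc' ▸ AddSubgroup.mem_map_of_mem _ v.2, AddSubgroup.mem_map_of_mem _ hd⟩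
          exact hkd (h0 ▸ zero_mem X)
        have hdv : Nat.card ↥(W ⊓ X') ∣ p := hWp ▸ AddSubgroup.card_dvd_of_le inf_le_left
        rcases (Nat.dvd_prime hp.out).1 hdv with h1 | h1
        · exact absurd (AddSubgroup.card_eq_one.1 h1) hne'
        · have e : W ⊓ X' = W := AddSubgroup.eq_of_le_of_card_ge inf_le_left (by rw [hWp, h1])
          exact (e.ge (AddSubgroup.mem_map_of_mem _ hy)).2
      -- a vector outside `X'`
      obtain ⟨d₀, hd₀⟩ : ∃ d₀, d₀ ∉ X' := by
        by_contra hall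
        push Not at hall
        have : Nat.card X' = Nat.card D :=
          Nat.card_congr (Equiv.subtypeUnivEquiv hall)
        have h2 : Nat.card D = p * p := by
          rw [← Nat.card_congr (Equiv.ofBijective sum hsumb), Nat.card_prod, hYX, hXq, hprime]
        rw [hX'p, h2] at this
        nlinarith [hp.out.two_le]
      have hgenD : ∀ d, d ∈ X' ⊔ AddSubgroup.zmultiples d₀ := by
        intro e
        have hlt : p < Nat.card ↥(X' ⊔ AddSubgroup.zmultiples d₀) := by
          rw [← hX'p]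
          refine lt_of_le_of_ne (AddSubgroup.card_le_of_le le_sup_left) fun e' => hd₀ ?_
          exact (AddSubgroup.eq_of_le_of_card_ge le_sup_left e'.ge).ge
            (AddSubgroup.mem_sup_right (AddSubgroup.mem_zmultiples d₀))
        have h2 : Nat.card D = p ^ 2 := by
          rw [← Nat.card_congr (Equiv.ofBijective sum hsumb), Nat.card_prod, hYX, hXq, hprime, sq]
        have hdv := AddSubgroup.card_addSubgroup_dvd_card (X' ⊔ AddSubgroup.zmultiples d₀)
        rw [h2] at hdv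
        obtain ⟨i, hi, hi'⟩ := (Nat.dvd_prime_pow hp.out).1 hdv
        have h3 : i = 2 := by
          rcases Nat.lt_or_ge i 2 with hi2 | hi2
          · rw [hi'] at hlt
            exact absurd hlt (not_lt.2 ((Nat.pow_le_pow_right hp.out.pos (Nat.lt_succ_iff.1 hi2)).trans_eq (pow_one p)))
          · omega
        rw [h3, ← h2] at hi'
        rw [AddSubgroup.eq_top_of_card_eq _ hi']
        exact AddSubgroup.mem_top e
      -- the maps fixing `X'` pointwise are determined at `d₀`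
      have hdet : ∀ m m' : G, (∀ d ∈ X', ρ m d = d) → (∀ d ∈ X', ρ m' d = d) →
          ρ m d₀ = ρ m' d₀ → ρ m = ρ m' := by
        intro m m' hm hm' he
        refine AddMonoidHom.ext fun e => ?_
        obtain ⟨e₁, he₁, e₂, he₂, rfl⟩ := AddSubgroup.mem_sup.1 (hgenD e)
        obtain ⟨i, rfl⟩ := AddSubgroup.mem_zmultiples_iff.1 he₂
        show ρ m (e₁ + i • d₀) = ρ m' (e₁ + i • d₀)
        rw [map_add, map_add, map_zsmul, map_zsmul, hm _ he₁, hm' _ he₁, he]
      have hkx : ∀ x ∈ S, (∀ d ∈ X', ρ (k * x * k⁻¹) d = d) ∧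
          ρ (k * x * k⁻¹) d₀ - d₀ ∈ X' := by
        intro x hx
        refine ⟨?_, ?_⟩
        · rintro _ ⟨e, he, rfl⟩
          show ρ (k * x * k⁻¹) (ρ k e) = ρ k e
          rw [rep_mul, rep_inv, rep_mul, hfix x hx e he]
        · rw [rep_mul, rep_mul]
          refine ⟨ρ x (ρ k⁻¹ d₀) - ρ k⁻¹ d₀, hquad x hx _, ?_⟩
          show ρ k (_ - _) = _
          rw [map_sub, rep_inv']
      let f : F → ↥X' := fun c' => ⟨_, (hkx _ (hxs c')).2⟩
      have hf : Function.Injective f := by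
        intro c₁ c₂ e
        have e' : ρ (k * xs c₁ * k⁻¹) d₀ = ρ (k * xs c₂ * k⁻¹) d₀ :=
          sub_left_injective (congrArg Subtype.val e)
        have e3 := hdet _ _ (hkx _ (hxs c₁)).1 (hkx _ (hxs c₂)).1 e'
        have e4 : ρ (xs c₁) = ρ (xs c₂) := by
          calc ρ (xs c₁) = ρ k⁻¹ * ρ (k * xs c₁ * k⁻¹) * ρ k := by rw [← map_mul, ← map_mul]; congr 1; group
            _ = ρ k⁻¹ * ρ (k * xs c₂ * k⁻¹) * ρ k := by rw [e3]
            _ = _ := by rw [← map_mul, ← map_mul]; congr 1; group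
        exact hinjF y₀ hy₀ (Subtype.ext (by
          show ρ (xs c₁) (y₀ : D) - y₀ = ρ (xs c₂) (y₀ : D) - y₀
          rw [e4]))
      have hfb : Function.Bijective f :=
        (Nat.bijective_iff_injective_and_card _).2 ⟨hf, by rw [hX'p, hprime]⟩
      set H : Subgroup G := (ρ.ker ⊔ S) ⊔ (φ.ker ⊔ S) with hH
      have hHne : H ≠ ⊤ := h.join _ _ le_sup_right le_sup_right hρker h.kerProper
      have hkH : k ∈ H := mem_sup_right (mem_sup_left hk)
      have hSH : S ≤ H := le_sup_right.trans le_sup_right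
      refine h.not_le_core ((le_inf (?_ : S ≤ H) le_rfl).trans (h.sit.meet H hHne ?_))
      · exact hSH
      rintro _ ⟨x', hx', rfl⟩
      show g * x' * g⁻¹ ∈ H
      set z := xs c * (g * x' * g⁻¹) * (xs c)⁻¹ with hz
      have hz1 : ∀ d ∈ X', ρ z d = d := by
        intro e he
        obtain ⟨y, hy, hye⟩ : ∃ y ∈ Y, ρ (xs c) y = e := by
          have : Y.map (ρ (xs c)) = X' := AddSubgroup.eq_of_le_of_card_ge
            (by rintro _ ⟨y, hy, rfl⟩; exact hY'X y hy) (by
              rw [← Nat.card_congr (Y.equivMapOfInjective (ρ (xs c))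
                (fun a b e => by
              change ρ (xs c) a = ρ (xs c) b at e; rw [← rep_inv ρ (xs c) a, e, rep_inv])).toEquiv, hYX, hXq, hprime, hX'p])
          obtain ⟨y, hy, hye⟩ := this.ge he
          exact ⟨y, hy, hye⟩
        rw [← hye, hz, rep_mul, rep_inv, rep_mul]
        congr 1
        rw [rep_mul, rep_mul, hfix x' hx' _ (hYmem y hy), rep_inv']
      have hz2 : ρ z d₀ - d₀ ∈ X' := by
        have e : ρ z d₀ - d₀ =
            ρ (xs c) (ρ g (ρ x' (ρ g⁻¹ (ρ (xs c)⁻¹ d₀)) - ρ g⁻¹ (ρ (xs c)⁻¹ d₀))) := by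
          rw [hz, map_sub, map_sub, rep_inv', rep_inv', rep_mul, rep_mul, rep_mul, rep_mul]
        rw [e]
        exact hY'X _ (AddSubgroup.mem_map_of_mem _ (hquad x' hx' _))
      obtain ⟨c', hc''⟩ := hfb.2 ⟨_, hz2⟩
      have hzρ' : ρ (k * xs c' * k⁻¹) = ρ z :=
        hdet _ _ (hkx _ (hxs c')).1 hz1 (sub_left_injective (congrArg Subtype.val hc''))
      have hzH : z ∈ H := by
        have h1 : (k * xs c' * k⁻¹)⁻¹ * z ∈ ρ.ker := by
          rw [MonoidHom.mem_ker, map_mul, ← hzρ', ← map_mul, inv_mul_cancel, map_one]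
        have h5 := H.mul_mem (H.mul_mem (H.mul_mem hkH (hSH (hxs c'))) (H.inv_mem hkH))
          (mem_sup_left (mem_sup_left h1))
        rwa [mul_inv_cancel_left] at h5
      have e := H.mul_mem (H.mul_mem (H.inv_mem (hSH (hxs c))) hzH) (hSH (hxs c))
      simpa [hz, mul_assoc] using e
    · -- `S` induces a noncyclic group
      let ρu := ρ.toHomUnits
      have hu : ∀ (x : G) (d : D), ((ρu x : (AddMonoid.End D)ˣ) : AddMonoid.End D) d = ρ x d :=
        fun x d => rfl
      have hone : ∀ x, ρu x = 1 ↔ ρ x = 1 := fun x => by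
        rw [Units.ext_iff]; rfl
      have : Finite (AddMonoid.End D) := Finite.of_injective _ DFunLike.coe_injective
      set A := S.map ρu with hA
      set K := φ.ker.map ρu with hK
      have hAc : IsMulCommutative A := by
        refine ⟨⟨fun u v => Subtype.ext (Units.ext (AddMonoidHom.ext fun d => ?_))⟩⟩
        obtain ⟨s, hs, e1⟩ := u.2
        obtain ⟨t, ht, e2⟩ := v.2
        rw [Subgroup.coe_mul, Subgroup.coe_mul, ← e1, ← e2, ← map_mul, ← map_mul]
        show ρ (s * t) d = ρ (t * s) d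
        exact sub_left_injective (show ρ (s * t) d - d = ρ (t * s) d - d by
          rw [hδ s hs t ht, hδ t ht s hs, add_comm])
      have hAcard : Nat.card A = Nat.card F := by
        refine (Nat.card_congr (Equiv.ofBijective (fun c : F => (⟨ρu (xs c), ⟨_, hxs c, rfl⟩⟩ : A))
          ⟨fun c c' e => ?_, ?_⟩)).symm
        · exact hinjF y₀ hy₀ (Subtype.ext (by
            show ρ (xs c) (y₀ : D) - y₀ = ρ (xs c') (y₀ : D) - y₀
            rw [← hu (xs c)]
            rw [show (ρu (xs c) : (AddMonoid.End D)ˣ) = ρu (xs c') from congrArg Subtype.val e, hu]))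
        · rintro ⟨_, s, hs, rfl⟩
          obtain ⟨c, hc⟩ := h.exists_coord hs
          exact ⟨c, Subtype.ext (Units.ext (indep s hs c hc).symm)⟩
      have hAexp : ∀ u : A, u ^ p = 1 := by
        rintro ⟨_, s, hs, rfl⟩
        obtain ⟨c, hc⟩ := h.exists_coord hs
        refine Subtype.ext ?_
        show ρu s ^ p = 1
        have : ∀ m : ℕ, φ (s ^ m) = proj F (up ((m : F) * c)) := by
          intro m
          induction m with
          | zero => simp [up_zero]
          | succ m ih =>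
            rw [pow_succ, map_mul, ih, hc, ← map_mul, up_mul, Nat.cast_succ, add_mul, one_mul]
        rw [← map_pow, hone]
        refine hO _ (h.kerS ⟨S.pow_mem hs _, ?_⟩)
        show φ (s ^ p) = 1
        rw [this, hpF, zero_mul, up_zero, map_one]
      have hnc : ¬ IsCyclic A := by
        intro hcy
        obtain ⟨u, hu'⟩ := hcy.exists_generator
        have h1 : Nat.card A ∣ p :=
          orderOf_eq_card_of_forall_mem_zpowers hu' ▸ orderOf_dvd_of_pow_eq_one (hAexp u)
        obtain ⟨n, hn0, hn⟩ := h.card_pow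
        rw [hAcard, hn] at h1
        have h2 : n ≤ 1 := (Nat.pow_dvd_pow_iff_le_right hp.out.one_lt).1 (by rwa [pow_one])
        exact hprime (by rw [hn, show n = 1 by omega, pow_one])
      have hKp : ¬ p ∣ Nat.card K := by
        intro hdv
        have h1 : Nat.card K ∣ S.relIndex φ.ker := by
          let f : ↥φ.ker →* ↥K := (ρu.comp φ.ker.subtype).codRestrict _ fun x => ⟨x, x.2, rfl⟩
          have hf : Function.Surjective f := by
            rintro ⟨_, x, hx, rfl⟩; exact ⟨⟨x, hx⟩, rfl⟩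
          have hle : S.subgroupOf φ.ker ≤ f.ker := fun x hx => Subtype.ext ((hone _).2
            (hO _ (h.kerS ⟨hx, x.2⟩)))
          have := Subgroup.index_dvd_of_le hle
          rwa [index_ker, MonoidHom.range_eq_top.2 hf, Subgroup.card_top] at this
        have h2 : S.relIndex φ.ker ∣ S.index := by
          have e1 := card_sup_eq (H := S) (K := φ.ker) (by rw [normalizer_eq_top (H := φ.ker)]; exact le_top)
          have rm : ∀ {H L : Subgroup G}, H ≤ L → H.relIndex L * Nat.card ↥H = Nat.card ↥L := by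
            intro H L hHL
            have := relIndex_mul_relIndex ⊥ H L bot_le hHL
            rwa [relIndex_bot_left, relIndex_bot_left, mul_comm] at this
          have e2 : S.relIndex φ.ker * Nat.card ↥(S ⊓ φ.ker) = Nat.card ↥φ.ker := by
            rw [← inf_relIndex_right S φ.ker, rm inf_le_right]
          have e3 := relIndex_mul_index (le_sup_left : S ≤ S ⊔ φ.ker)
          have e4 : S.relIndex (S ⊔ φ.ker) * Nat.card ↥S = Nat.card ↥(S ⊔ φ.ker) :=
            rm le_sup_left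
          have e5 : S.relIndex (S ⊔ φ.ker) = S.relIndex φ.ker := by
            apply Nat.eq_of_mul_eq_mul_right (Nat.mul_pos (Nat.card_pos (α := ↥S))
              (Nat.card_pos (α := ↥(S ⊓ φ.ker))))
            calc _ = (S.relIndex (S ⊔ φ.ker) * Nat.card ↥S) * Nat.card ↥(S ⊓ φ.ker) := by ring
              _ = Nat.card ↥S * Nat.card ↥φ.ker := by rw [e4, e1]
              _ = _ := by rw [← e2]; ring
          exact ⟨_, (e5 ▸ e3).symm⟩
        exact h.sit.not_dvd (hdv.trans (h1.trans h2))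
      have hAK : A ≤ normalizer (K : Set (AddMonoid.End D)ˣ) := by
        rintro _ ⟨s, -, rfl⟩
        refine mem_normalizer_of_map_le ?_
        rintro _ ⟨_, ⟨k, hk, rfl⟩, rfl⟩
        exact ⟨s * k * s⁻¹, (inferInstance : φ.ker.Normal).conj_mem k hk s, by simp [map_mul]⟩
      have hcop : (Nat.card A).Coprime (Nat.card K) := by
        obtain ⟨n, -, hn⟩ := h.card_pow
        rw [hAcard, hn]
        exact ((hp.out.coprime_iff_not_dvd).2 hKp).pow_left n
      let St : Subgroup (AddMonoid.End D)ˣ :=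
        { carrier := {u | ∀ d, (u : AddMonoid.End D) d ∈ X ↔ d ∈ X}
          one_mem' := fun d => Iff.rfl
          mul_mem' := fun {u v} hu hv d => (hu _).trans (hv d)
          inv_mem' := fun {u} hu d => by
            have e := hu ((u⁻¹ : (AddMonoid.End D)ˣ).val d)
            have e2 : (u : AddMonoid.End D) ((u⁻¹ : (AddMonoid.End D)ˣ).val d) = d := by
              show ((u : AddMonoid.End D) * (u⁻¹ : (AddMonoid.End D)ˣ).val) d = d
              rw [Units.mul_inv]; rfl
            rw [e2] at e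
            exact e.symm }
      have hKSt : K ≤ St := by
        have := hAc
        rw [← CoprimeAct.generated_by_centralizers (A := A) (K := K) hnc hAK hcop]
        refine iSup₂_le ?_
        rintro _ ⟨⟨s, hs, rfl⟩, hne1⟩
        rintro u ⟨-, huc⟩
        have hsO : s ∉ O := fun hh => hne1 ((hone s).2 (hO s hh))
        have hcomm : ∀ d, ρ s ((u : AddMonoid.End D) d) = (u : AddMonoid.End D) (ρ s d) := fun d =>
          congrArg (fun w : (AddMonoid.End D)ˣ => (w : AddMonoid.End D) d)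
            (mem_centralizer_iff.1 huc _ rfl)
        intro d
        refine ⟨fun hd => fixX s hs hsO d ?_, fun hd => fixX s hs hsO _ (by rw [hcomm, hfix s hs d hd])⟩
        have e := hcomm d
        rw [hfix s hs _ hd] at e
        have hinju : Function.Injective (u : AddMonoid.End D) := fun a b e' => by
          have := congrArg (u⁻¹ : (AddMonoid.End D)ˣ).val e'
          have e2 : ∀ x, (u⁻¹ : (AddMonoid.End D)ˣ).val ((u : AddMonoid.End D) x) = x := fun x => by
            show ((u⁻¹ : (AddMonoid.End D)ˣ).val * (u : AddMonoid.End D)) x = x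
            rw [Units.inv_mul]; rfl
          rwa [e2, e2] at this
        exact hinju e.symm
      intro k hk d hd
      exact (hKSt ⟨k, hk, rfl⟩ d).2 hd
  -- elements whose image normalises `Ubar` fix `X`
  have hline : ∀ m : G, φ m ∈ normalizer (Ubar F : Set _) → ∀ e ∈ X, ρ m e ∈ X := by
    intro m hm e he
    set L := φ.ker ⊔ S with hL
    have hUL : ∀ x, φ x ∈ Ubar F → x ∈ L := fun x hx => by
      obtain ⟨s, hs, es⟩ : φ x ∈ S.map φ := h.img.symm ▸ hx
      have : x * s⁻¹ ∈ φ.ker := by rw [MonoidHom.mem_ker, map_mul, map_inv, es, mul_inv_cancel]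
      simpa using L.mul_mem (mem_sup_left this) (mem_sup_right hs)
    set P₁ : Sylow p G := h.sit.pgroup.toSylow h.sit.not_dvd with hP₁
    have hP₁c : (P₁ : Subgroup G) = S := rfl
    have hmL : ((m • P₁ : Sylow p G) : Subgroup G) ≤ L := by
      rw [Sylow.coe_subgroup_smul, hP₁c]
      rintro _ ⟨s, hs, rfl⟩
      refine hUL _ ?_
      show φ (m * s * m⁻¹) ∈ Ubar F
      rw [map_mul, map_mul, map_inv]
      exact (mem_normalizer_iff.1 hm _).1 (h.img ▸ ⟨s, hs, rfl⟩)
    obtain ⟨⟨k₀, hk₀⟩, hk⟩ := MulAction.exists_smul_eq ↥L (P₁.subtype (hP₁c ▸ le_sup_right : (P₁ : Subgroup G) ≤ L))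
      ((m • P₁ : Sylow p G).subtype hmL)
    have hconj : ∀ s ∈ S, ∃ s' ∈ S, m * s' * m⁻¹ = k₀ * s * k₀⁻¹ := by
      intro s hs
      have h1 : (⟨k₀, hk₀⟩ : ↥L) * ⟨s, mem_sup_right hs⟩ * (⟨k₀, hk₀⟩ : ↥L)⁻¹ ∈
          (((m • P₁ : Sylow p G).subtype hmL : Sylow p ↥L) : Subgroup ↥L) := by
        rw [← hk, Sylow.coe_subgroup_smul]
        exact ⟨⟨s, mem_sup_right hs⟩, hs, rfl⟩
      have h2 : k₀ * s * k₀⁻¹ ∈ ((m • P₁ : Sylow p G) : Subgroup G) := h1
      rw [Sylow.coe_subgroup_smul, hP₁c] at h2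
      obtain ⟨s', hs', e'⟩ := h2
      exact ⟨s', hs', e'⟩
    have hkX : ∀ d ∈ X, ρ k₀ d ∈ X := by
      obtain ⟨k, hk', s, hs, rfl⟩ := mem_sup_of_normal_left.1 hk₀
      intro d hd
      rw [rep_mul, hfix s hs d hd]
      exact hKfix k hk' d hd
    have h3 : ρ k₀⁻¹ (ρ m e) ∈ X := fixS _ fun s hs => by
      obtain ⟨s', hs', e'⟩ := hconj s hs
      have hval : s * k₀⁻¹ * m = k₀⁻¹ * m * s' := by
        calc s * k₀⁻¹ * m = k₀⁻¹ * (k₀ * s * k₀⁻¹) * m := by group
          _ = _ := by rw [← e']; group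
      have e1 : ρ s (ρ k₀⁻¹ (ρ m e)) = ρ (s * k₀⁻¹ * m) e := by rw [rep_mul, rep_mul]
      rw [e1, hval, rep_mul, rep_mul, hfix s' hs' e he]
    have h4 := hkX _ h3
    rwa [rep_inv'] at h4
  -- inversion
  have hinv : ∀ c : F, c ≠ 0 → ∀ y, b c⁻¹ (a c y) = y := by
    intro c hc y
    set m := (zs c⁻¹)⁻¹ * xs c * g with hm
    have hmN : φ m ∈ normalizer (Ubar F : Set _) := by
      have hz : φ (zs c⁻¹) = proj F (low c⁻¹) := by
        show φ (g * xs (-c⁻¹) * g⁻¹) = _
        rw [map_mul, map_mul, map_inv, h.weyl, hxc, ← map_inv, ← map_mul, ← map_mul, weyl_up, neg_neg]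
      have e : ((low c⁻¹)⁻¹ * up c * PushUp.weyl : Matrix.SpecialLinearGroup (Fin 2) F) =
          dg F c hc * up (-c⁻¹) := by
        rw [mul_assoc, inv_mul_eq_iff_eq_mul]
        apply Subtype.ext
        simp only [Matrix.SpecialLinearGroup.coe_mul, coe_up, coe_low, coe_weyl]
        show _ = !![1, 0; c⁻¹, 1] * (!![c, 0; 0, c⁻¹] * !![1, -c⁻¹; 0, 1])
        ext i j
        fin_cases i <;> fin_cases j <;> simp [Matrix.mul_apply, Fin.sum_univ_two, hc]
      rw [hm, map_mul, map_mul, map_inv, hz, hxc, h.weyl, ← map_inv, ← map_mul, ← map_mul, e, map_mul]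
      exact mul_mem (dg_mem_normalizer F c hc) (Subgroup.le_normalizer ⟨_, rfl⟩)
    have he' := hline m hmN _ (hYmem y y.2)
    set e' := ρ m (ρ g⁻¹ y) with he'def
    have key : ρ (xs c) y = ρ (zs c⁻¹) e' := by
      rw [he'def, ← rep_mul, ← rep_mul, hm]
      congr 2
      group
    have h1 : sum (a c y, y) = sum (⟨e', he'⟩, b c⁻¹ ⟨e', he'⟩) := by
      show ρ (xs c) (y : D) - y + y = e' + (ρ (zs c⁻¹) e' - e')
      rw [key]; abel
    have h2 := hsum h1
    simp only [Prod.mk.injEq] at h2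
    rw [h2.1, ← h2.2]
  have hinv' : ∀ c : F, c ≠ 0 → ∀ x, a c (b c⁻¹ x) = x := by
    intro c hc x
    have hainj : Function.Injective (a c) := (injective_iff_map_eq_zero _).2 fun y hy => by
      rw [← hinv c hc y, hy, map_zero]
    have hab : Function.Bijective (a c) :=
      (Nat.bijective_iff_injective_and_card _).2 ⟨hainj, hYX⟩
    obtain ⟨y, rfl⟩ := hab.2 x
    rw [hinv c hc y]
  -- coordinates
  let A : F →+ AddMonoid.End ↥X :=
    { toFun := fun c => (a c).comp (b 1)
      map_zero' := AddMonoidHom.ext fun x => by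
        have := ha_add 0 0 (b 1 x)
        show a 0 (b 1 x) = 0
        simpa using this
      map_add' := fun c c' => AddMonoidHom.ext fun x => ha_add c c' (b 1 x) }
  let B : F →+ AddMonoid.End ↥X :=
    { toFun := fun c => (a 1).comp (b c)
      map_zero' := AddMonoidHom.ext fun x => by
        have h0 : b 0 x = 0 := by simpa using hb_add 0 0 x
        show a 1 (b 0 x) = 0
        rw [h0, map_zero]
      map_add' := fun c c' => AddMonoidHom.ext fun x => by
        show a 1 (b (c + c') x) = a 1 (b c x) + a 1 (b c' x)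
        rw [hb_add, map_add] }
  have h11 : ∀ x, a 1 (b 1 x) = x := fun x => by simpa using hinv' 1 one_ne_zero x
  have h11' : ∀ y, b 1 (a 1 y) = y := fun y => by simpa using hinv 1 one_ne_zero y
  have hA1 : A 1 = 1 := AddMonoidHom.ext fun x => h11 x
  have hl : ∀ c ≠ 0, A c * B c⁻¹ = 1 := fun c hc => AddMonoidHom.ext fun x => by
    show a c (b 1 (a 1 (b c⁻¹ x))) = x
    rw [h11', hinv' c hc]
  have hr : ∀ c ≠ 0, B c⁻¹ * A c = 1 := fun c hc => AddMonoidHom.ext fun x => by
    show a 1 (b c⁻¹ (a c (b 1 x))) = x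
    rw [hinv c hc, h11]
  have hmul := map_mul_of_inv A B hA1 hl hr
  have hAB : ∀ d, A d = B d := by
    intro d
    by_cases hd : d = 0
    · rw [hd, map_zero, map_zero]
    have e := hl d⁻¹ (inv_ne_zero hd)
    rw [inv_inv] at e
    calc A d = A d * (A d⁻¹ * B d) := by rw [e, mul_one]
      _ = _ := by rw [← mul_assoc, ← hmul, mul_inv_cancel₀ hd, hA1, one_mul]
  let x₀ : ↥X := ⟨e₀, he₀⟩
  have hx₀ : b 1 x₀ ≠ 0 := fun e => he₀0 (by
    have := h11 x₀
    rw [e, map_zero] at this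
    exact (congrArg Subtype.val this).symm)
  let ev : F → ↥X := fun c => A c x₀
  have hev : Function.Bijective ev := ha_bij _ hx₀
  have hevA : ∀ c d, A c (ev d) = ev (c * d) := fun c d => by
    show A c (A d x₀) = A (c * d) x₀
    rw [hmul]; rfl
  let Ψ : (Fin 2 → F) →+ D :=
    { toFun := fun v => sum (ev (v 0), b 1 (ev (v 1)))
      map_zero' := by
        show ((A 0 x₀ : ↥X) : D) + (b 1 (A 0 x₀) : ↥Y) = 0
        rw [map_zero]
        show ((0 : ↥X) : D) + (b 1 (0 : ↥X) : ↥Y) = 0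
        simp
      map_add' := fun v w => by
        show ((A (v 0 + w 0) x₀ : ↥X) : D) + (b 1 (A (v 1 + w 1) x₀) : ↥Y) = _
        rw [map_add, map_add]
        show ((A (v 0) x₀ + A (w 0) x₀ : ↥X) : D) + (b 1 (A (v 1) x₀ + A (w 1) x₀) : ↥Y) =
          (((A (v 0) x₀ : ↥X) : D) + (b 1 (A (v 1) x₀) : ↥Y)) +
          (((A (w 0) x₀ : ↥X) : D) + (b 1 (A (w 1) x₀) : ↥Y))
        rw [map_add, AddSubgroup.coe_add, AddSubgroup.coe_add]
        abel }
  have hΨ : Function.Bijective Ψ := by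
    refine hsumb.comp (f := fun v : Fin 2 → F => (ev (v 0), b 1 (ev (v 1)))) ⟨fun v w e => ?_, fun t => ?_⟩
    · simp only [Prod.mk.injEq] at e
      ext i
      fin_cases i
      · exact hev.1 e.1
      · exact hev.1 (show ev (v 1) = ev (w 1) by rw [← h11 (ev (v 1)), e.2, h11])
    · obtain ⟨c₀, hc₀⟩ := hev.2 t.1
      obtain ⟨c₁, hc₁⟩ := hev.2 (a 1 t.2)
      exact ⟨![c₀, c₁], by simp [hc₀, hc₁, h11']⟩
  let ψ := (AddEquiv.ofBijective Ψ hΨ).symm
  have hψΨ : ∀ d, Ψ (ψ d) = d := fun d => (AddEquiv.ofBijective Ψ hΨ).apply_symm_apply d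
  -- the generators act as matrices
  have hupρ : ∀ x ∈ S, ∀ c : F, φ x = proj F (up c) → ∀ v, ρ x (Ψ v) = Ψ ![v 0 + c * v 1, v 1] := by
    intro x hx c hc v
    rw [indep x hx c hc]
    show ρ (xs c) ((ev (v 0) : D) + (b 1 (ev (v 1)) : D)) =
      ((A (v 0 + c * v 1) x₀ : ↥X) : D) + (b 1 (A (v 1) x₀) : D)
    rw [map_add, hfix _ (hxs c) _ (ev (v 0)).2, map_add A]
    show _ = ((A (v 0) x₀ + A (c * v 1) x₀ : ↥X) : D) + _
    rw [AddSubgroup.coe_add]
    have e := congrArg Subtype.val (hevA c (v 1))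
    change ρ (xs c) (b 1 (ev (v 1)) : D) - (b 1 (ev (v 1)) : D) = ((A (c * v 1) x₀ : ↥X) : D) at e
    rw [sub_eq_iff_eq_add.1 e]
    abel
  have hlowρ : ∀ x ∈ S, ∀ c : F, φ x = proj F (up c) → ∀ v,
      ρ (g * x * g⁻¹) (Ψ v) = Ψ ![v 0, -c * v 0 + v 1] := by
    intro x hx c hc v
    have e0 : ρ (g * x * g⁻¹) = ρ (zs (-c)) := by
      show _ = ρ (g * xs (- -c) * g⁻¹)
      rw [neg_neg, map_mul, map_mul, indep x hx c hc, map_mul, map_mul]
    rw [e0]
    show ρ (zs (-c)) ((ev (v 0) : D) + (b 1 (ev (v 1)) : D)) =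
      ((A (v 0) x₀ : ↥X) : D) + (b 1 (A (-c * v 0 + v 1) x₀) : D)
    have hYfix : ρ (zs (-c)) (b 1 (ev (v 1)) : D) = (b 1 (ev (v 1)) : D) := by
      show ρ (g * xs (- -c) * g⁻¹) _ = _
      rw [rep_mul, rep_mul, hfix _ (hxs _) _ (hYmem _ (b 1 (ev (v 1))).2), rep_inv']
    have e2 : b (-c) (ev (v 0)) = b 1 (ev (-c * v 0)) := by
      rw [← hevA, hAB]
      exact (h11' _).symm
    have e2' : ρ (zs (-c)) (ev (v 0) : D) - (ev (v 0) : D) = (b 1 (ev (-c * v 0)) : D) :=
      congrArg Subtype.val e2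
    rw [map_add, hYfix, sub_eq_iff_eq_add.1 e2', map_add A]
    show _ = _ + ((b 1 (A (-c * v 0) x₀ + A (v 1) x₀) : ↥Y) : D)
    rw [map_add, AddSubgroup.coe_add]
    abel
  have hψe : ∀ v, ψ (Ψ v) = v := fun v => (AddEquiv.ofBijective Ψ hΨ).symm_apply_apply v
  -- every element acts through a matrix
  let R : Subgroup G :=
    { carrier := {k | ∃ M : Matrix.SpecialLinearGroup (Fin 2) F,
        ∀ d, ψ (ρ k d) = (M : Matrix (Fin 2) (Fin 2) F) *ᵥ ψ d}
      one_mem' := ⟨1, fun d => by simp⟩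
      mul_mem' := fun {u v} ⟨M, hM⟩ ⟨N, hN⟩ => ⟨M * N, fun d => by
        rw [rep_mul, hM, hN, Matrix.SpecialLinearGroup.coe_mul, Matrix.mulVec_mulVec]⟩
      inv_mem' := fun {u} ⟨M, hM⟩ => ⟨M⁻¹, fun d => by
        have e := hM (ρ u⁻¹ d)
        rw [rep_inv'] at e
        rw [e, Matrix.mulVec_mulVec, ← Matrix.SpecialLinearGroup.coe_mul, inv_mul_cancel]
        simp⟩ }
  have hR : R = ⊤ := by
    refine h.gen (fun x hx => ?_) ?_
    · obtain ⟨c, hc⟩ := h.exists_coord hx
      exact ⟨up c, fun d => by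
        conv_lhs => rw [← hψΨ d, hupρ x hx c hc, hψe]
        rw [up_mulVec]⟩
    · rintro _ ⟨x, hx, rfl⟩
      obtain ⟨c, hc⟩ := h.exists_coord hx
      exact ⟨low (-c), fun d => by
        show ψ (ρ (g * x * g⁻¹) d) = _
        conv_lhs => rw [← hψΨ d, hlowρ x hx c hc, hψe]
        rw [low_mulVec]⟩
  choose M hM using fun k : G => (hR ▸ mem_top k : k ∈ R)
  have huniq : ∀ (k : G) (N : Matrix.SpecialLinearGroup (Fin 2) F),
      (∀ d, ψ (ρ k d) = (N : Matrix (Fin 2) (Fin 2) F) *ᵥ ψ d) → M k = N := by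
    intro k N hN
    refine Subtype.ext (Matrix.ext_of_mulVec_single fun j => ?_)
    have e1 := hM k (Ψ (Pi.single j 1))
    have e2 := hN (Ψ (Pi.single j 1))
    rw [hψe] at e1 e2
    exact e1.symm.trans e2
  let Φ : G →* Matrix.SpecialLinearGroup (Fin 2) F :=
    { toFun := M
      map_one' := huniq 1 1 fun d => by simp
      map_mul' := fun u v => huniq _ _ fun d => by
        rw [rep_mul, hM, hM, Matrix.SpecialLinearGroup.coe_mul, Matrix.mulVec_mulVec] }
  refine ⟨Φ, ⟨fun x hx c hc => huniq _ _ fun d => ?_, fun x hx c hc => huniq _ _ fun d => ?_⟩, ψ, hM,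
    fun d => ?_⟩
  · conv_lhs => rw [← hψΨ d, hupρ x hx c hc, hψe]
    rw [up_mulVec]
  · conv_lhs => rw [← hψΨ d, hlowρ x hx c hc, hψe]
    rw [low_mulVec]
  · have hd : d = (ev (ψ d 0) : D) + (b 1 (ev (ψ d 1)) : D) := (hψΨ d).symm
    constructor
    · intro hdX
      have h0 : ((b 1 (ev (ψ d 1)) : ↥Y) : D) = 0 :=
        hdisj _ (by
          have := X.sub_mem hdX (ev (ψ d 0)).2
          rwa [show d - (ev (ψ d 0) : D) = (b 1 (ev (ψ d 1)) : D) by
            nth_rw 1 [hd]; rw [add_sub_cancel_left]] at this) (b 1 (ev (ψ d 1))).2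
      apply hev.1
      rw [← h11 (ev (ψ d 1)), show b 1 (ev (ψ d 1)) = 0 from Subtype.ext h0, map_zero]
      show (0 : ↥X) = A 0 x₀
      rw [map_zero]; rfl
    · intro h0
      rw [hd, h0, show ev 0 = (0 : ↥X) from by show A 0 x₀ = 0; rw [map_zero]; rfl, map_zero]
      simpa using (ev (ψ d 0)).2

set_option maxHeartbeats 400000 in
/-- A module with a fixed subgroup of index at most `q` on which `S` is quadratic. -/
theorem spread (h : Frame p S g φ) (hO : ∀ o ∈ O, ρ o = 1) (X : AddSubgroup D)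
    (hfix : ∀ s ∈ S, ∀ d ∈ X, ρ s d = d) (hquad : ∀ s ∈ S, ∀ d, ρ s d - d ∈ X)
    (hcard : Nat.card D ≤ Nat.card F * Nat.card X) (hker : ρ.ker ⊔ S ≠ ⊤) :
    ∃ Φ : G →* Matrix.SpecialLinearGroup (Fin 2) F, Lifts S g φ Φ ∧
      ∃ ψ : D →+ (Fin 2 → F), Function.Surjective ψ ∧ (∀ d, ψ d = 0 ↔ ∀ k, ρ k d = d) ∧
        (∀ (k : G) (d : D), ψ (ρ k d) =
          ((Φ k : Matrix.SpecialLinearGroup (Fin 2) F) : Matrix (Fin 2) (Fin 2) F) *ᵥ ψ d) ∧
        ∀ d, d ∈ X ↔ ψ d 1 = 0 := by
  classical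
  set D₀ : AddSubgroup D :=
    { carrier := {d | ∀ k, ρ k d = d}
      zero_mem' := fun k => map_zero _
      add_mem' := fun {u v} hu hv k => by rw [map_add, hu k, hv k]
      neg_mem' := fun {u} hu k => by rw [map_neg, hu k] } with hD₀
  have hD₀ρ : ∀ k, D₀ ≤ D₀.comap (ρ k) := fun k d hd => by
    show ρ k d ∈ D₀
    rw [hd k]; exact hd
  let ρ' : G →* AddMonoid.End (D ⧸ D₀) :=
    { toFun := fun k => QuotientAddGroup.map D₀ D₀ (ρ k) (hD₀ρ k)
      map_one' := AddMonoidHom.ext fun x => by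
        induction x using QuotientAddGroup.induction_on with
        | _ d => show ((ρ 1 d : D) : D ⧸ D₀) = d; rw [rep_one]
      map_mul' := fun u v => AddMonoidHom.ext fun x => by
        induction x using QuotientAddGroup.induction_on with
        | _ d => show ((ρ (u * v) d : D) : D ⧸ D₀) = _; rw [rep_mul]; rfl }
  have hρ' : ∀ k (d : D), ρ' k (d : D ⧸ D₀) = ((ρ k d : D) : D ⧸ D₀) := fun k d => rfl
  set π := QuotientAddGroup.mk' D₀ with hπ
  -- a cocycle with values in `D₀` killing the conjugate of `S` vanishes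
  have hom : ∀ d : D, (∀ s ∈ S, ρ (g * s * g⁻¹) d = d) → ∀ x ∈ S, x ∉ O → ρ x d - d ∈ D₀ →
      d ∈ D₀ := by
    intro d hd x hx hxO hxd
    let H : Subgroup G :=
      { carrier := {k | ρ k d - d ∈ D₀}
        one_mem' := by show ρ 1 d - d ∈ D₀; rw [rep_one, sub_self]; exact zero_mem D₀
        mul_mem' := fun {u v} hu hv => by
          show ρ (u * v) d - d ∈ D₀
          have e : ρ (u * v) d - d = ρ u (ρ v d - d) + (ρ u d - d) := by
            rw [rep_mul, map_sub]; abel
          rw [e, hv u]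
          exact add_mem hv hu
        inv_mem' := fun {u} hu => by
          show ρ u⁻¹ d - d ∈ D₀
          have e : ρ u⁻¹ d - d = -(ρ u⁻¹ (ρ u d - d)) := by rw [map_sub, rep_inv]; abel
          rw [e, hu u⁻¹]
          exact neg_mem hu }
    have hH : H = ⊤ := h.meet' (fun s hs => by
      show ρ (g * s * g⁻¹) d - d ∈ D₀
      rw [hd s hs, sub_self]; exact zero_mem D₀) hx hxO hxd
    let c : G →* Multiplicative D :=
      { toFun := fun k => Multiplicative.ofAdd (ρ k d - d)
        map_one' := by rw [rep_one, sub_self, ofAdd_zero]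
        map_mul' := fun u v => by
          rw [← ofAdd_add]; congr 1
          have hv : ρ u (ρ v d - d) = ρ v d - d := (hH ▸ mem_top v : v ∈ H) u
          rw [rep_mul, show ρ u (ρ v d) = ρ v d - d + ρ u d by
            rw [map_sub] at hv; exact sub_eq_iff_eq_add.1 hv]
          abel }
    have hck : ∀ k, k ∈ c.ker ↔ ρ k d = d := fun k => by
      rw [MonoidHom.mem_ker]
      show Multiplicative.ofAdd (ρ k d - d) = 1 ↔ _
      rw [ofAdd_eq_one, sub_eq_zero]
    have hctop : c.ker = ⊤ := by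
      refine h.gen (fun s hs => ?_) ?_
      · have := (inferInstance : c.ker.Normal).conj_mem _ ((hck _).2 (hd s hs)) g⁻¹
        simpa [mul_assoc] using this
      · rintro _ ⟨s, hs, rfl⟩; exact (hck _).2 (hd s hs)
    exact fun k => (hck k).1 (hctop ▸ mem_top k)
  have hYfix : ∀ e ∈ X, ∀ s ∈ S, ρ (g * s * g⁻¹) (ρ g e) = ρ g e := fun e he s hs => by
    rw [rep_mul, rep_inv, rep_mul, hfix s hs e he]
  have hne : ∃ d ∈ X, d ∉ D₀ := by
    by_contra hall
    push Not at hall
    let H : Subgroup G :=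
      { carrier := {k | ∀ d, ρ k d - d ∈ D₀}
        one_mem' := fun d => by rw [rep_one, sub_self]; exact zero_mem D₀
        mul_mem' := fun {u v} hu hv d => by
          have e : ρ (u * v) d - d = ρ u (ρ v d - d) + (ρ u d - d) := by
            rw [rep_mul, map_sub]; abel
          rw [e, hv d u]
          exact add_mem (hv d) (hu d)
        inv_mem' := fun {u} hu d => by
          have e : ρ u⁻¹ d - d = -(ρ u⁻¹ (ρ u d - d)) := by rw [map_sub, rep_inv]; abel
          rw [e, hu d u⁻¹]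
          exact neg_mem (hu d) }
    have hH : H = ⊤ := h.gen (fun s hs d => hall _ (hquad s hs d)) (by
      rintro _ ⟨s, hs, rfl⟩
      intro d
      show ρ (g * s * g⁻¹) d - d ∈ D₀
      have e : ρ (g * s * g⁻¹) d - d = ρ g (ρ s (ρ g⁻¹ d) - ρ g⁻¹ d) := by
        rw [rep_mul, rep_mul, map_sub, rep_inv']
      rw [e, hall _ (hquad s hs _) g]
      exact hall _ (hquad s hs _))
    have hcomm : ∀ u v : G, ρ (u * v) = ρ (v * u) := fun u v => DFunLike.ext _ _ fun d => by
      have e1 : ρ (u * v) d = ρ v d - d + ρ u d := by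
        have := (hH ▸ mem_top v : v ∈ H) d u
        rw [map_sub] at this
        rw [rep_mul]; exact sub_eq_iff_eq_add.1 this
      have e2 : ρ (v * u) d = ρ u d - d + ρ v d := by
        have := (hH ▸ mem_top u : u ∈ H) d v
        rw [map_sub] at this
        rw [rep_mul]; exact sub_eq_iff_eq_add.1 this
      rw [e1, e2]; abel
    refine hker (h.gen le_sup_right ?_)
    rintro _ ⟨s, hs, rfl⟩
    show g * s * g⁻¹ ∈ ρ.ker ⊔ S
    have : g * s * g⁻¹ * s⁻¹ ∈ ρ.ker := by
      rw [MonoidHom.mem_ker, map_mul, mul_assoc g s, hcomm g, inv_mul_cancel_right, ← map_mul,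
        mul_inv_cancel, map_one]
    simpa using mul_mem (mem_sup_left this : _ ∈ ρ.ker ⊔ S) (mem_sup_right hs)
  obtain ⟨d₁, hd₁, hd₁0⟩ := hne
  have hcard' : Nat.card (D ⧸ D₀) ≤ Nat.card F * Nat.card (X.map π) := by
    have e1 := AddSubgroup.card_eq_card_quotient_mul_card_addSubgroup D₀
    have e2 : Nat.card X ≤ Nat.card (X.map π) * Nat.card D₀ := by
      let f := π.comp X.subtype
      have h1 := AddSubgroup.card_eq_card_quotient_mul_card_addSubgroup f.ker
      have h2 : Nat.card (↥X ⧸ f.ker) = Nat.card (X.map π) := by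
        rw [Nat.card_congr (QuotientAddGroup.quotientKerEquivRange f).toEquiv]
        refine Nat.card_congr (Equiv.setCongr ?_)
        ext y
        constructor
        · rintro ⟨x, rfl⟩; exact ⟨x, x.2, rfl⟩
        · rintro ⟨x, hx, rfl⟩; exact ⟨⟨x, hx⟩, rfl⟩
      have h3 : Nat.card f.ker ≤ Nat.card D₀ :=
        Nat.card_le_card_of_injective (fun x => (⟨((x : ↥X) : D), (QuotientAddGroup.eq_zero_iff _).1 x.2⟩ : D₀))
          fun x y e => Subtype.ext (Subtype.ext (congrArg Subtype.val e :))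
      rw [h1, h2]
      exact Nat.mul_le_mul_left _ h3
    refine Nat.le_of_mul_le_mul_right ?_ (Nat.card_pos (α := D₀))
    calc Nat.card (D ⧸ D₀) * Nat.card D₀ = Nat.card D := e1.symm
      _ ≤ Nat.card F * Nat.card X := hcard
      _ ≤ _ := by rw [mul_assoc]; exact Nat.mul_le_mul_left _ e2
  obtain ⟨Φ, hΦ, ψ, hψ, hψX⟩ := spread_reduced ρ' h
    (fun o ho => DFunLike.ext _ _ fun x => by
      induction x using QuotientAddGroup.induction_on with
      | _ d => rw [hρ', hO o ho]; rfl)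
    (X.map π)
    (by rintro s hs _ ⟨d, hd, rfl⟩; show ρ' s (d : D ⧸ D₀) = _; rw [hρ', hfix s hs d hd]; rfl)
    (fun s hs x => by
      induction x using QuotientAddGroup.induction_on with
      | _ d => exact ⟨_, hquad s hs d, by rw [hρ', map_sub]; rfl⟩)
    (by
      rintro x hx hxO _ ⟨_, ⟨e, he, rfl⟩, rfl⟩ hfixd
      change ρ' x (ρ' g (e : D ⧸ D₀)) = ρ' g (e : D ⧸ D₀) at hfixd
      show ρ' g (e : D ⧸ D₀) = 0
      rw [hρ'] at hfixd ⊢
      rw [hρ', QuotientAddGroup.eq_iff_sub_mem] at hfixd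
      exact (QuotientAddGroup.eq_zero_iff _).2 (hom _ (hYfix e he) x hx hxO hfixd))
    hcard'
    ⟨_, ⟨d₁, hd₁, rfl⟩, fun e => hd₁0 ((QuotientAddGroup.eq_zero_iff _).1 e)⟩
  refine ⟨Φ, hΦ, ψ.toAddMonoidHom.comp π, ψ.surjective.comp (QuotientAddGroup.mk'_surjective D₀),
    fun d => ?_, fun k d => hψ k d, ?_⟩
  · show ψ (d : D ⧸ D₀) = 0 ↔ _
    rw [EmbeddingLike.map_eq_zero_iff, QuotientAddGroup.eq_zero_iff]; rfl
  -- the fixed subgroup is the whole line
  have hD₀X : D₀ ≤ X := by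
    have e1 := AddSubgroup.card_eq_card_quotient_mul_card_addSubgroup D₀
    have hψc : Nat.card (D ⧸ D₀) = Nat.card F * Nat.card F := by
      rw [Nat.card_congr ψ.toEquiv, Nat.card_fun, Nat.card_fin, sq]
    have hXc : Nat.card X ≤ Nat.card F * Nat.card ↥(X ⊓ D₀) := by
      let f : ↥X →+ F :=
        (AddMonoidHom.mk' (fun v : Fin 2 → F => v 0) fun _ _ => rfl).comp
          (ψ.toAddMonoidHom.comp (π.comp X.subtype))
      have h1 := AddSubgroup.card_eq_card_quotient_mul_card_addSubgroup f.ker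
      have h2 : Nat.card (↥X ⧸ f.ker) ≤ Nat.card F := by
        have := h.finite
        rw [Nat.card_congr (QuotientAddGroup.quotientKerEquivRange f).toEquiv]
        exact AddSubgroup.card_le_card_addGroup _
      have h3 : Nat.card f.ker ≤ Nat.card ↥(X ⊓ D₀) := by
        refine Nat.card_le_card_of_injective (fun x => (⟨((x : ↥X) : D), (x : ↥X).2, ?_⟩ : ↥(X ⊓ D₀)))
          fun x y e => Subtype.ext (Subtype.ext (congrArg Subtype.val e :))
        apply (QuotientAddGroup.eq_zero_iff _).1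
        apply ψ.injective
        rw [map_zero]
        ext i
        fin_cases i
        · exact x.2
        · exact (hψX _).1 ⟨_, (x : ↥X).2, rfl⟩
      rw [h1]
      exact Nat.mul_le_mul h2 h3
    intro d hd
    have h4 : Nat.card D₀ ≤ Nat.card ↥(X ⊓ D₀) := by
      have := h.finite
      have hq : 0 < Nat.card F * Nat.card F := Nat.mul_pos Nat.card_pos Nat.card_pos
      refine Nat.le_of_mul_le_mul_left ?_ hq
      calc Nat.card F * Nat.card F * Nat.card D₀ = Nat.card D := by rw [e1, hψc]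
        _ ≤ Nat.card F * Nat.card X := hcard
        _ ≤ _ := by rw [mul_assoc]; exact Nat.mul_le_mul_left _ hXc
    exact ((AddSubgroup.eq_of_le_of_card_ge inf_le_right h4).ge hd).1
  intro d
  refine ⟨fun hd => (hψX _).1 ⟨d, hd, rfl⟩, fun h0 => ?_⟩
  obtain ⟨d', hd', e⟩ := (hψX _).2 h0
  have : -d' + d ∈ D₀ := QuotientAddGroup.eq.1 e
  simpa using add_mem hd' (hD₀X this)

end Rep

end Cfsg.Agent.PushUp2
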