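/-
Rank-one pushing up, part 3: natural layers inside a group.
-/
import Cfsg.Agent.Lib.PushUp2.Spread

set_option autoImplicit false

namespace Cfsg.Agent.PushUp2

open Subgroup PushUp Matrix
open scoped commutatorElement

variable {G : Type*} [Group G] [Finite G] {p : ℕ} [hp : Fact p.Prime]
  {S : Subgroup G} {g : G} {F : Type} [Field F]
  {φ : G →* Matrix.ProjectiveSpecialLinearGroup (Fin 2) F}
  {Φ : G →* Matrix.SpecialLinearGroup (Fin 2) F}

local notation "O" => Cfsg.pCore p G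

/-- `U / T` is the natural module for `Φ`, with coordinates `ψ`. -/
structure Layer (Φ : G →* Matrix.SpecialLinearGroup (Fin 2) F) (U T : Subgroup G)
    (ψ : G → Fin 2 → F) : Prop where
  le : T ≤ U
  normalU : U.Normal
  normalT : T.Normal
  map_mul : ∀ u ∈ U, ∀ v ∈ U, ψ (u * v) = ψ u + ψ v
  surj : ∀ x, ∃ u ∈ U, ψ u = x
  ker : ∀ u ∈ U, (ψ u = 0 ↔ u ∈ T)
  conj : ∀ (k : G), ∀ u ∈ U, ψ (k * u * k⁻¹) =
    ((Φ k : Matrix.SpecialLinearGroup (Fin 2) F) : Matrix (Fin 2) (Fin 2) F) *ᵥ ψ u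

section basics

variable {U T : Subgroup G} {ψ : G → Fin 2 → F}

omit [Finite G] in
theorem Layer.map_one (L : Layer Φ U T ψ) : ψ 1 = 0 := (L.ker 1 (one_mem _)).2 (one_mem _)

omit [Finite G] in
theorem Layer.map_inv (L : Layer Φ U T ψ) {u : G} (hu : u ∈ U) : ψ u⁻¹ = -ψ u := by
  have := L.map_mul _ (inv_mem hu) _ hu
  rw [inv_mul_cancel, L.map_one] at this
  exact eq_neg_of_add_eq_zero_left this.symm

omit [Finite G] in
theorem Layer.map_pow (L : Layer Φ U T ψ) {u : G} (hu : u ∈ U) (n : ℕ) : ψ (u ^ n) = n • ψ u := by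
  induction n with
  | zero => simpa using L.map_one
  | succ n ih => rw [pow_succ, L.map_mul _ (pow_mem hu n) _ hu, ih, succ_nsmul]

omit [Finite G] in
theorem Layer.map_comm (L : Layer Φ U T ψ) (k : G) {u : G} (hu : u ∈ U) :
    ψ ⁅k, u⁆ = ((Φ k : Matrix.SpecialLinearGroup (Fin 2) F) : Matrix (Fin 2) (Fin 2) F) *ᵥ ψ u - ψ u := by
  rw [commutatorElement_def, L.map_mul _ (L.normalU.conj_mem u hu k) _ (inv_mem hu), L.conj k u hu,
    L.map_inv hu, sub_eq_add_neg]

omit [Finite G] in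
theorem Layer.comm_mem (L : Layer Φ U T ψ) (k : G) {u : G} (hu : u ∈ U) : ⁅k, u⁆ ∈ U := by
  rw [commutatorElement_def]
  exact mul_mem (L.normalU.conj_mem u hu k) (inv_mem hu)

theorem Layer.line_of_fixed (h : Frame p S g φ) (hΦ : Lifts S g φ Φ) (L : Layer Φ U T ψ) {x u : G}
    (hx : x ∈ S) (hxO : x ∉ O) (hu : u ∈ U) (hfix : ⁅x, u⁆ ∈ T) : ψ u 1 = 0 := by
  obtain ⟨c, hc⟩ := h.exists_coord hx
  have hc0 : c ≠ 0 := fun e => hxO ((hΦ.mem_core_iff h hx).2 (by rw [hΦ.up_S x hx c hc, e, up_zero]))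
  have e := (L.ker _ (L.comm_mem x hu)).2 hfix
  rw [L.map_comm x hu, hΦ.up_S x hx c hc, up_mulVec] at e
  have := congrFun e 0
  simpa [hc0] using this

theorem Layer.comm_line (h : Frame p S g φ) (hΦ : Lifts S g φ Φ) (L : Layer Φ U T ψ) {x u : G}
    (hx : x ∈ S) (hu : u ∈ U) : ψ ⁅x, u⁆ 1 = 0 := by
  obtain ⟨c, hc⟩ := h.exists_coord hx
  rw [L.map_comm x hu, hΦ.up_S x hx c hc, up_mulVec]
  simp

theorem Layer.comm_of_line (h : Frame p S g φ) (hΦ : Lifts S g φ Φ) (L : Layer Φ U T ψ) {x u : G}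
    (hx : x ∈ S) (hu : u ∈ U) (hu1 : ψ u 1 = 0) : ⁅x, u⁆ ∈ T := by
  obtain ⟨c, hc⟩ := h.exists_coord hx
  refine (L.ker _ (L.comm_mem x hu)).1 ?_
  rw [L.map_comm x hu, hΦ.up_S x hx c hc, up_mulVec]
  ext i
  fin_cases i <;> simp [hu1]

/-- For a vector off the line, commutation with `S` covers the line. -/
theorem Layer.exists_comm (h : Frame p S g φ) (hΦ : Lifts S g φ Φ) (L : Layer Φ U T ψ) {u : G}
    (hu : u ∈ U) (hu1 : ψ u 1 ≠ 0) {z : Fin 2 → F} (hz : z 1 = 0) : ∃ x ∈ S, ψ ⁅x, u⁆ = z := by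
  obtain ⟨x, hx, hc⟩ := h.exists_elem (z 0 / ψ u 1)
  refine ⟨x, hx, ?_⟩
  rw [L.map_comm x hu, hΦ.up_S x hx _ hc, up_mulVec]
  ext i
  fin_cases i <;> simp [hu1, hz]

/-- The natural module is irreducible. -/
theorem Layer.irreducible (h : Frame p S g φ) (hΦ : Lifts S g φ Φ) (L : Layer Φ U T ψ) {N : Subgroup G}
    (hN : ∀ k : G, ∀ u ∈ N, k * u * k⁻¹ ∈ N) (hTN : T ≤ N) (hNU : N ≤ U) : N = T ∨ N = U := by
  by_cases hle : N ≤ T
  · exact Or.inl (le_antisymm hle hTN)
  right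
  refine le_antisymm hNU ?_
  obtain ⟨u, huN, huT⟩ := Set.not_subset.1 hle
  have hu0 : ψ u ≠ 0 := fun e => huT ((L.ker u (hNU huN)).1 e)
  let I : AddSubgroup (Fin 2 → F) :=
    { carrier := {v | ∃ n ∈ N, ψ n = v}
      zero_mem' := ⟨1, one_mem _, L.map_one⟩
      add_mem' := fun {a b} ⟨n, hn, e⟩ ⟨m, hm, e'⟩ =>
        ⟨n * m, mul_mem hn hm, by rw [L.map_mul n (hNU hn) m (hNU hm), e, e']⟩
      neg_mem' := fun {a} ⟨n, hn, e⟩ => ⟨n⁻¹, inv_mem hn, by rw [L.map_inv (hNU hn), e]⟩ }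
  have hinv : ∀ M : Matrix.SpecialLinearGroup (Fin 2) F, ∀ v ∈ I,
      (M : Matrix (Fin 2) (Fin 2) F) *ᵥ v ∈ I := by
    rintro M v ⟨n, hn, e⟩
    obtain ⟨k, rfl⟩ := hΦ.surjective h M
    exact ⟨k * n * k⁻¹, hN k n hn, by rw [L.conj k n (hNU hn), e]⟩
  have hup : ∀ v ∈ I, v 1 ≠ 0 → ∀ b, ![b, 0] ∈ I := by
    intro v hv h1 b
    have := I.sub_mem (hinv (up (b / v 1)) v hv) hv
    rw [up_mulVec] at this
    convert this using 1
    ext i; fin_cases i <;> simp [h1]
  have hlow : ∀ v ∈ I, v 0 ≠ 0 → ∀ b, ![0, b] ∈ I := by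
    intro v hv h0 b
    have := I.sub_mem (hinv (low (b / v 0)) v hv) hv
    rw [low_mulVec] at this
    convert this using 1
    ext i; fin_cases i <;> simp [h0]
  have huI : ψ u ∈ I := ⟨u, huN, rfl⟩
  have hfirst : ∀ b, ![b, 0] ∈ I := by
    by_cases h1 : ψ u 1 = 0
    · have h0 : ψ u 0 ≠ 0 := fun e => hu0 (by ext i; fin_cases i; exacts [e, h1])
      exact hup _ (hlow _ huI h0 1) (by simp)
    · exact hup _ huI h1
  have hsecond : ∀ b, ![0, b] ∈ I := hlow _ (hfirst 1) (by simp)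
  intro w hw
  obtain ⟨n, hn, e⟩ : ψ w ∈ I := by
    have := I.add_mem (hfirst (ψ w 0)) (hsecond (ψ w 1))
    convert this using 1
    ext i; fin_cases i <;> simp
  have ht : n⁻¹ * w ∈ T := (L.ker _ (mul_mem (inv_mem (hNU hn)) hw)).1 (by
    rw [L.map_mul _ (inv_mem (hNU hn)) _ hw, L.map_inv (hNU hn), e, neg_add_cancel])
  simpa using mul_mem hn (hTN ht)

/-- A vector fixed by the group vanishes. -/
theorem Frame.fixed_eq_zero (h : Frame p S g φ) (hΦ : Lifts S g φ Φ) {v : Fin 2 → F}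
    (hv : ∀ k : G, ((Φ k : Matrix.SpecialLinearGroup (Fin 2) F) : Matrix (Fin 2) (Fin 2) F) *ᵥ v = v) :
    v = 0 := by
  obtain ⟨k, hk⟩ := hΦ.surjective h (up 1)
  obtain ⟨k', hk'⟩ := hΦ.surjective h (low 1)
  have e := hv k
  rw [hk, up_mulVec] at e
  have e' := hv k'
  rw [hk', low_mulVec] at e'
  have h0 := congrFun e 0
  have h1 := congrFun e' 1
  ext i
  fin_cases i
  · simpa using h1
  · simpa using h0

theorem Layer.card_eq (L : Layer Φ U T ψ) [Finite F] :
    Nat.card ↥U = Nat.card F * Nat.card F * Nat.card ↥T := by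
  let f : ↥U →* Multiplicative (Fin 2 → F) :=
    { toFun := fun u => Multiplicative.ofAdd (ψ u)
      map_one' := by simp [L.map_one]
      map_mul' := fun u v => by rw [← ofAdd_add, Subgroup.coe_mul, L.map_mul u u.2 v v.2] }
  have hs : Function.Surjective f := fun x => by
    obtain ⟨u, hu, e⟩ := L.surj (Multiplicative.toAdd x)
    exact ⟨⟨u, hu⟩, by show Multiplicative.ofAdd (ψ u) = x; rw [e, ofAdd_toAdd]⟩
  have hk : f.ker = T.subgroupOf U := by
    ext u
    rw [MonoidHom.mem_ker, mem_subgroupOf, ← L.ker u u.2]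
    exact ⟨fun e => Multiplicative.ofAdd.injective e, fun e => by
      show Multiplicative.ofAdd (ψ u) = 1; rw [e, ofAdd_zero]⟩
  rw [← f.ker.index_mul_card, index_ker, MonoidHom.range_eq_top.2 hs, Subgroup.card_top, hk,
    Nat.card_congr (subgroupOfEquivOfLe L.le).toEquiv]
  congr 1
  rw [Nat.card_congr (Multiplicative.toAdd (α := Fin 2 → F)), Nat.card_fun, Nat.card_fin, sq]

end basics

set_option maxHeartbeats 400000 in
/-- A section with a subgroup of index at most `q` centralised by `S`, quadratically. -/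
theorem exists_layer (h : Frame p S g φ) (U B X : Subgroup G) [hUn : U.Normal] [hBn : B.Normal]
    (hBX : B ≤ X) (hXU : X ≤ U) (hUU : ⁅U, U⁆ ≤ B) (hUO : ⁅U, O⁆ ≤ B) (hXS : ⁅X, S⁆ ≤ B)
    (hUS : ⁅U, S⁆ ≤ X) (hcard : Nat.card ↥U ≤ Nat.card F * Nat.card ↥X)
    (hker : ∀ H : Subgroup G, ⁅U, H⁆ ≤ B → H ⊔ S ≠ ⊤) :
    ∃ Φ : G →* Matrix.SpecialLinearGroup (Fin 2) F, Lifts S g φ Φ ∧
      ∃ (T : Subgroup G) (ψ : G → Fin 2 → F), Layer Φ U T ψ ∧ B ≤ T ∧ T ≤ X ∧
        ⁅T, (⊤ : Subgroup G)⁆ ≤ B ∧ ∀ u ∈ U, (u ∈ X ↔ ψ u 1 = 0) := by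
  classical
  set BU := B.subgroupOf U with hBU
  have hc : ∀ a b : ↥U ⧸ BU, a * b = b * a := by
    intro a b
    induction a using QuotientGroup.induction_on with | _ u =>
    induction b using QuotientGroup.induction_on with | _ v =>
    rw [← QuotientGroup.mk_mul, ← QuotientGroup.mk_mul, QuotientGroup.eq_iff_div_mem]
    show ((u * v / (v * u) : ↥U) : G) ∈ B
    rw [Subgroup.coe_div, Subgroup.coe_mul, Subgroup.coe_mul, div_eq_mul_inv]
    refine hUU ?_
    rw [show (u : G) * v * ((v : G) * u)⁻¹ = ⁅(u : G), (v : G)⁆ by rw [commutatorElement_def]; group]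
    exact commutator_mem_commutator u.2 v.2
  letI : CommGroup (↥U ⧸ BU) := { (inferInstance : Group (↥U ⧸ BU)) with mul_comm := hc }
  have hBk : ∀ k : G, BU ≤ BU.comap ((MulAut.conjNormal k : ↥U ≃* ↥U) : ↥U →* ↥U) := fun k u hu => by
    show ((MulAut.conjNormal k u : ↥U) : G) ∈ B
    rw [MulAut.conjNormal_apply]
    exact hBn.conj_mem _ hu k
  let ρ : G →* AddMonoid.End (Additive (↥U ⧸ BU)) :=
    { toFun := fun k => MonoidHom.toAdditive (QuotientGroup.map BU BU _ (hBk k))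
      map_one' := DFunLike.ext _ _ fun x => by
        induction x using Additive.rec with | _ y =>
        induction y using QuotientGroup.induction_on with | _ u =>
        show Additive.ofMul ((MulAut.conjNormal (1 : G) u : ↥U) : ↥U ⧸ BU) = _
        rw [_root_.map_one]; rfl
      map_mul' := fun a b => DFunLike.ext _ _ fun x => by
        induction x using Additive.rec with | _ y =>
        induction y using QuotientGroup.induction_on with | _ u =>
        show Additive.ofMul ((MulAut.conjNormal (a * b) u : ↥U) : ↥U ⧸ BU) = _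
        rw [_root_.map_mul]; rfl }
  let emb : ↥U → Additive (↥U ⧸ BU) := fun u => Additive.ofMul (u : ↥U ⧸ BU)
  have hemb_mul : ∀ u v : ↥U, emb (u * v) = emb u + emb v := fun u v => rfl
  have hρ : ∀ (k : G) (u : ↥U), ρ k (emb u) = emb (MulAut.conjNormal k u) := fun k u => rfl
  have hemb : ∀ u v : ↥U, emb u = emb v ↔ (u : G) * (v : G)⁻¹ ∈ B := by
    intro u v
    show Additive.ofMul (u : ↥U ⧸ BU) = Additive.ofMul (v : ↥U ⧸ BU) ↔ _
    rw [Additive.ofMul.injective.eq_iff, QuotientGroup.eq_iff_div_mem, hBU, mem_subgroupOf,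
      Subgroup.coe_div, div_eq_mul_inv]
  have hsub : ∀ u v : ↥U, emb u - emb v = emb (u * v⁻¹) := fun u v => by
    show _ = Additive.ofMul (((u * v⁻¹ : ↥U)) : ↥U ⧸ BU)
    rw [QuotientGroup.mk_mul, QuotientGroup.mk_inv, ofMul_mul, ofMul_inv, sub_eq_add_neg]
  have hcomm : ∀ (k : G) (u : ↥U), ρ k (emb u) = emb u ↔ ⁅k, (u : G)⁆ ∈ B := fun k u => by
    rw [hρ, hemb, MulAut.conjNormal_apply, commutatorElement_def]
  set XD : AddSubgroup (Additive (↥U ⧸ BU)) :=
    Subgroup.toAddSubgroup ((X.subgroupOf U).map (QuotientGroup.mk' BU)) with hXD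
  have hmemX : ∀ u : ↥U, emb u ∈ XD ↔ (u : G) ∈ X := by
    intro u
    constructor
    · rintro ⟨v, hv, e⟩
      have e' : emb v = emb u := congrArg Additive.ofMul e
      have := X.mul_mem (X.inv_mem (hBX ((hemb v u).1 e'))) hv
      simpa using this
    · exact fun hu => ⟨u, hu, rfl⟩
  have hker' : ρ.ker ⊔ S ≠ ⊤ := by
    refine hker _ (commutator_le.2 fun u hu k hk => ?_)
    have := (hcomm k ⟨u, hu⟩).1 (by rw [MonoidHom.mem_ker.1 hk]; rfl)
    simpa using B.inv_mem this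
  obtain ⟨Φ, hΦ, ψD, hψs, hψ0, hψc, hψX⟩ := spread ρ h
    (fun o ho => DFunLike.ext _ _ fun x => by
      induction x using Additive.rec with | _ y =>
      induction y using QuotientGroup.induction_on with | _ u =>
      exact (hcomm o u).2 (by simpa using B.inv_mem (hUO (commutator_mem_commutator u.2 ho))))
    XD
    (fun s hs d hd => by
      obtain ⟨u, hu, e⟩ := hd
      rw [show d = emb u from congrArg Additive.ofMul e.symm, hcomm]
      simpa using B.inv_mem (hXS (commutator_mem_commutator hu hs)))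
    (fun s hs d => by
      induction d using Additive.rec with | _ y =>
      induction y using QuotientGroup.induction_on with | _ u =>
      show ρ s (emb u) - emb u ∈ XD
      rw [hρ, hsub, hmemX, Subgroup.coe_mul, Subgroup.coe_inv, MulAut.conjNormal_apply,
        ← commutatorElement_def]
      simpa using X.inv_mem (hUS (commutator_mem_commutator u.2 hs)))
    (by
      have e1 : Nat.card (↥U ⧸ BU) * Nat.card ↥B = Nat.card ↥U := by
        rw [← Nat.card_congr (subgroupOfEquivOfLe (hBX.trans hXU)).toEquiv]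
        exact (Subgroup.card_eq_card_quotient_mul_card_subgroup BU).symm
      have e2 : Nat.card XD * Nat.card ↥B = Nat.card ↥X := by
        let f := (QuotientGroup.mk' BU).comp (Subgroup.inclusion hXU)
        have hr : f.range = (X.subgroupOf U).map (QuotientGroup.mk' BU) := by
          ext y
          constructor
          · rintro ⟨x, rfl⟩; exact ⟨Subgroup.inclusion hXU x, x.2, rfl⟩
          · rintro ⟨x, hx, rfl⟩; exact ⟨⟨(x : G), hx⟩, rfl⟩
        have hk : f.ker = B.subgroupOf X := by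
          ext x
          rw [MonoidHom.mem_ker]
          show ((Subgroup.inclusion hXU x : ↥U) : ↥U ⧸ BU) = 1 ↔ _
          rw [QuotientGroup.eq_one_iff]; rfl
        rw [← f.ker.index_mul_card, index_ker, hr, hk, Nat.card_congr (subgroupOfEquivOfLe hBX).toEquiv]
        rfl
      refine Nat.le_of_mul_le_mul_right ?_ (Nat.card_pos (α := ↥B))
      rw [mul_assoc, e2]
      exact e1.le.trans hcard)
    hker'
  let T : Subgroup G :=
    { carrier := {u | u ∈ U ∧ ∀ k, ⁅k, u⁆ ∈ B}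
      one_mem' := ⟨one_mem _, fun k => by
        rw [show ⁅k, (1 : G)⁆ = 1 by rw [commutatorElement_def]; group]
        exact one_mem B⟩
      mul_mem' := fun {a b} ha hb => ⟨mul_mem ha.1 hb.1, fun k => by
        rw [show ⁅k, a * b⁆ = ⁅k, a⁆ * (a * ⁅k, b⁆ * a⁻¹) by rw [commutatorElement_def, commutatorElement_def]; group]
        exact mul_mem (ha.2 k) (hBn.conj_mem _ (hb.2 k) a)⟩
      inv_mem' := fun {a} ha => ⟨inv_mem ha.1, fun k => by
        rw [show ⁅k, a⁻¹⁆ = a⁻¹ * ⁅k, a⁆⁻¹ * a⁻¹⁻¹ by rw [commutatorElement_def, commutatorElement_def]; group]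
        exact hBn.conj_mem _ (inv_mem (ha.2 k)) _⟩ }
  let ψ : G → Fin 2 → F := fun u => if hu : u ∈ U then ψD (emb ⟨u, hu⟩) else 0
  have hψval : ∀ (u : G) (hu : u ∈ U), ψ u = ψD (emb ⟨u, hu⟩) := fun u hu => dif_pos hu
  have hTn : T.Normal := ⟨fun u hu k => ⟨hUn.conj_mem u hu.1 k, fun l => by
    rw [show ⁅l, k * u * k⁻¹⁆ = k * ⁅k⁻¹ * l * k, u⁆ * k⁻¹ by rw [commutatorElement_def, commutatorElement_def]; group]
    exact hBn.conj_mem _ (hu.2 _) k⟩⟩
  have L : Layer Φ U T ψ := by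
    refine ⟨fun u hu => hu.1, hUn, hTn, fun u hu v hv => ?_, fun x => ?_, fun u hu => ?_, fun k u hu => ?_⟩
    · rw [hψval u hu, hψval v hv, hψval _ (mul_mem hu hv), ← _root_.map_add]
      rfl
    · obtain ⟨d, rfl⟩ := hψs x
      induction d using Additive.rec with | _ y =>
      induction y using QuotientGroup.induction_on with | _ u =>
      exact ⟨u, u.2, hψval u u.2⟩
    · rw [hψval u hu, hψ0]
      exact ⟨fun h' => ⟨hu, fun k => (hcomm k ⟨u, hu⟩).1 (h' k)⟩,
        fun h' k => (hcomm k ⟨u, hu⟩).2 (h'.2 k)⟩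
    · rw [hψval u hu, hψval _ (hUn.conj_mem u hu k), ← hψc, hρ]
      congr 3
  have hX : ∀ u ∈ U, (u ∈ X ↔ ψ u 1 = 0) := fun u hu => by
    rw [hψval u hu, ← hψX, hmemX]
  refine ⟨Φ, hΦ, T, ψ, L, fun b hb => ⟨hXU (hBX hb), fun k => ?_⟩, fun t ht => ?_,
    commutator_le.2 fun t ht k _ => by rw [← commutatorElement_inv]; exact B.inv_mem (ht.2 k), hX⟩
  · rw [commutatorElement_def]
    exact mul_mem (hBn.conj_mem b hb k) (inv_mem hb)
  · rw [hX t ht.1, (L.ker t ht.1).2 ht]; rfl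

end Cfsg.Agent.PushUp2
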