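/-
Rank-one pushing up, part 4: the hypothesis that no characteristic subgroup of `S` is normal, the first
module `V` and the subgroup `W` generated by its images under the automorphisms of `S`.
The automorphisms of `S` are realised by permutations of `G` normalising the image of `S`.
-/
import Cfsg.Agent.Lib.PushUp.Rank1
import Cfsg.Agent.Lib.PushUp2.Layer
import Mathlib.GroupTheory.Complement

set_option autoImplicit false

namespace Cfsg.Agent.PushUp2

open Subgroup PushUp Matrix
open scoped commutatorElement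

variable {G : Type*} [Group G]

/-- The regular representation. -/
def reg : G →* Equiv.Perm G := MulAction.toPermHom G G

theorem reg_apply (x y : G) : reg x y = x * y := rfl

theorem reg_inj : Function.Injective (reg : G → Equiv.Perm G) := fun x y e => by
  simpa [reg_apply] using Equiv.congr_fun e 1

/-- Permutations normalising the image of `S`. -/
def autPerm (S : Subgroup G) : Subgroup (Equiv.Perm G) :=
  normalizer ((S.map reg : Subgroup (Equiv.Perm G)) : Set (Equiv.Perm G))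

theorem reg_mem_autPerm {S : Subgroup G} {x : G} (hx : x ∈ normalizer (S : Set G)) :
    reg x ∈ autPerm S := by
  rw [autPerm, mem_normalizer_iff]
  intro y
  constructor
  · rintro ⟨s, hs, rfl⟩
    exact ⟨x * s * x⁻¹, (mem_normalizer_iff.1 hx s).1 hs, by simp [map_mul]⟩
  · rintro ⟨s, hs, e⟩
    refine ⟨x⁻¹ * s * x, ?_, ?_⟩
    · exact (mem_normalizer_iff.1 hx _).2 (by simpa [mul_assoc] using hs)
    · rw [map_mul, map_mul, e, map_inv]; group

theorem exists_conj_eq {S : Subgroup G} {a : Equiv.Perm G} (ha : a ∈ autPerm S) {s : G} (hs : s ∈ S) :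
    ∃ s' ∈ S, reg s' = a * reg s * a⁻¹ :=
  (mem_normalizer_iff.1 ha _).1 (mem_map_of_mem reg hs)

/-- Every automorphism of `S` is realised. -/
theorem exists_autPerm (S : Subgroup G) (β : ↥S ≃* ↥S) :
    ∃ a ∈ autPerm S, ∀ s : ↥S, a * reg (s : G) * a⁻¹ = reg (β s : G) := by
  obtain ⟨T, hT, -⟩ := exists_isComplement_right S (1 : G)
  set e := hT.equiv
  let a : Equiv.Perm G := e.trans (((β.toEquiv).prodCongr (Equiv.refl _)).trans e.symm)
  have key : ∀ s : ↥S, a * reg (s : G) * a⁻¹ = reg (β s : G) := by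
    intro s
    rw [mul_inv_eq_iff_eq_mul]
    refine Equiv.ext fun y => ?_
    show a ((s : G) * y) = (β s : G) * a y
    have h1 := hT.equiv_mul_left s y
    show e.symm ((β.toEquiv.prodCongr (Equiv.refl _)) (e ((s : G) * y))) =
      (β s : G) * e.symm ((β.toEquiv.prodCongr (Equiv.refl _)) (e y))
    rw [h1]
    show e.symm (β (s * (e y).1), (e y).2) = _ * e.symm (β (e y).1, (e y).2)
    rw [IsComplement.equiv_symm_apply, IsComplement.equiv_symm_apply, map_mul, Subgroup.coe_mul,
      mul_assoc]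
  refine ⟨a, ?_, key⟩
  rw [autPerm, mem_normalizer_iff]
  intro y
  constructor
  · rintro ⟨s, hs, rfl⟩
    exact ⟨β ⟨s, hs⟩, (β ⟨s, hs⟩).2, (key ⟨s, hs⟩).symm⟩
  · rintro ⟨s, hs, e'⟩
    obtain ⟨t, ht⟩ := β.surjective ⟨s, hs⟩
    refine ⟨t, t.2, ?_⟩
    have h2 := key t
    rw [ht] at h2
    change a * reg (t : G) * a⁻¹ = reg s at h2
    rw [← h2] at e'
    exact mul_left_cancel (mul_right_cancel e')

/-- Invariance of a subgroup under the automorphisms of `S`. -/
def AutInv (S C : Subgroup G) : Prop :=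
  ∀ a ∈ autPerm S, ∀ c ∈ C, a * reg c * a⁻¹ ∈ C.map reg

theorem AutInv.map_conj {S C : Subgroup G} (h : AutInv S C) {a : Equiv.Perm G} (ha : a ∈ autPerm S) :
    (C.map reg).map (MulAut.conj a).toMonoidHom = C.map reg := by
  refine le_antisymm ?_ fun y hy => ?_
  · rintro _ ⟨_, ⟨c, hc, rfl⟩, rfl⟩; exact h a ha c hc
  · obtain ⟨c, hc, rfl⟩ := hy
    obtain ⟨d, hd, e⟩ := h a⁻¹ (inv_mem ha) c hc
    refine ⟨reg d, mem_map_of_mem reg hd, ?_⟩
    show a * reg d * a⁻¹ = reg c
    rw [e]; group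

theorem autInv_self (S : Subgroup G) : AutInv S S := fun a ha c hc => by
  obtain ⟨s, hs, e⟩ := exists_conj_eq ha hc
  exact e ▸ mem_map_of_mem reg hs

theorem autInv_of_eq {S C : Subgroup G}
    (h : ∀ a ∈ autPerm S, (C.map reg).map (MulAut.conj a).toMonoidHom = C.map reg) : AutInv S C :=
  fun a ha c hc => (h a ha).le ⟨_, mem_map_of_mem reg hc, rfl⟩

/-- The centre of `S`. -/
def zc (S : Subgroup G) : Subgroup G := S ⊓ centralizer (S : Set G)

theorem zc_comm {S : Subgroup G} {z s : G} (hz : z ∈ zc S) (hs : s ∈ S) : s * z = z * s :=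
  mem_centralizer_iff.1 hz.2 s hs

theorem autInv_zc (S : Subgroup G) : AutInv S (zc S) := fun a ha c hc => by
  obtain ⟨s, hs, e⟩ := exists_conj_eq ha hc.1
  refine e ▸ mem_map_of_mem reg ⟨hs, mem_centralizer_iff.2 fun t ht => ?_⟩
  obtain ⟨t', ht', e'⟩ := exists_conj_eq (inv_mem ha) ht
  apply reg_inj
  rw [map_mul, map_mul, e, show reg t = a * reg t' * a⁻¹ by rw [e']; group]
  calc a * reg t' * a⁻¹ * (a * reg c * a⁻¹) = a * reg (t' * c) * a⁻¹ := by rw [map_mul]; group
    _ = a * reg (c * t') * a⁻¹ := by rw [zc_comm hc ht']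
    _ = _ := by rw [map_mul]; group

theorem AutInv.inf_centralizer {S C : Subgroup G} (h : AutInv S C) :
    AutInv S (S ⊓ centralizer (C : Set G)) := fun a ha c hc => by
  obtain ⟨s, hs, e⟩ := exists_conj_eq ha hc.1
  refine e ▸ mem_map_of_mem reg ⟨hs, mem_centralizer_iff.2 fun t ht => ?_⟩
  obtain ⟨t', ht', e'⟩ := h _ (inv_mem ha) t ht
  apply reg_inj
  rw [map_mul, map_mul, e, show reg t = a * reg t' * a⁻¹ by rw [e']; group]
  calc a * reg t' * a⁻¹ * (a * reg c * a⁻¹) = a * reg (t' * c) * a⁻¹ := by rw [map_mul]; group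
    _ = a * reg (c * t') * a⁻¹ := by rw [mem_centralizer_iff.1 hc.2 t' ht']
    _ = _ := by rw [map_mul]; group

theorem AutInv.inf {S C D : Subgroup G} (hC : AutInv S C) (hD : AutInv S D) : AutInv S (C ⊓ D) :=
  fun a ha c hc => by
    obtain ⟨x, hx, e⟩ := hC a ha c hc.1
    obtain ⟨y, hy, e'⟩ := hD a ha c hc.2
    have : x = y := reg_inj (e.trans e'.symm)
    exact e ▸ mem_map_of_mem reg ⟨hx, this ▸ hy⟩

theorem AutInv.commutator {S C D : Subgroup G} (hC : AutInv S C) (hD : AutInv S D) :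
    AutInv S ⁅C, D⁆ := autInv_of_eq fun a ha => by
  rw [map_commutator, map_commutator, hC.map_conj ha, hD.map_conj ha]

theorem autInv_closure {S : Subgroup G} {X : Set G}
    (h : ∀ a ∈ autPerm S, ∀ c ∈ X, a * reg c * a⁻¹ ∈ (closure X).map reg) : AutInv S (closure X) := by
  intro a ha c hc
  induction hc using closure_induction with
  | mem x hx => exact h a ha x hx
  | one => simp
  | mul x y _ _ hx hy =>
    have := mul_mem hx hy
    rw [map_mul]
    convert this using 1
    group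
  | inv x _ hx =>
    have := inv_mem hx
    rw [map_inv]
    convert this using 1
    group

theorem AutInv.pow_closure {S C : Subgroup G} (hC : AutInv S C) (n : ℕ) :
    AutInv S (closure ((fun c => c ^ n) '' (C : Set G))) := autInv_closure fun a ha c hc => by
  obtain ⟨d, hd, rfl⟩ := hc
  obtain ⟨x, hx, e⟩ := hC a ha d hd
  refine ⟨x ^ n, subset_closure ⟨x, hx, rfl⟩, ?_⟩
  rw [map_pow, map_pow, e, conj_pow]

theorem autInv_lowerCentralSeries (S : Subgroup G) (n : ℕ) :
    AutInv S (Nat.rec S (fun _ C => ⁅C, S⁆) n) := by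
  induction n with
  | zero => exact autInv_self S
  | succ n ih => exact ih.commutator (autInv_self S)

variable [Finite G] {p : ℕ} [hp : Fact p.Prime] {S : Subgroup G}

theorem autInv_zJ : AutInv S (ZJ.zJ p False S) := autInv_of_eq fun a ha => by
  have h1 := ZJ.zJ_map (p := p) (e := False) (S := S) reg reg_inj.injOn
  have h2 := ZJ.zJ_map (p := p) (e := False) (S := S.map reg) (MulAut.conj a).toMonoidHom
    (MulAut.conj a).injective.injOn
  rw [h1, h2, (autInv_self S).map_conj ha]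

variable {g : G} {F : Type} [Field F] {φ : G →* Matrix.ProjectiveSpecialLinearGroup (Fin 2) F}

/-- The hypothesis. -/
structure Hyp (p : ℕ) (S : Subgroup G) (g : G) {F : Type} [Field F]
    (φ : G →* Matrix.ProjectiveSpecialLinearGroup (Fin 2) F) : Prop where
  frame : Frame p S g φ
  situation : Cfsg.IsPushingUpSituation p S
  nochar : ∀ C : Subgroup G, C ≤ S → C.Normal → AutInv S C → C = ⊥

theorem exists_hyp (P : Sylow p G)
    (hC : centralizer (Cfsg.pCore p G : Set G) ≤ Cfsg.pCore p G)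
    (hM : ∃! M : Subgroup G, IsCoatom M ∧ (P : Subgroup G) ≤ M) (K : Subgroup G) [K.Normal]
    (F : Type) [Field F] [Fintype F] (n : ℕ) (hq : Fintype.card F = p ^ n)
    (e : G ⧸ K ≃* Matrix.ProjectiveSpecialLinearGroup (Fin 2) F)
    (hd : ∀ T : Subgroup ↥(P : Subgroup G), T ≠ ⊥ → T.Characteristic →
      ¬ (T.map (P : Subgroup G).subtype).Normal) :
    ∃ (φ : G →* Matrix.ProjectiveSpecialLinearGroup (Fin 2) F) (g : G),
      Hyp p (P : Subgroup G) g φ ∧ φ.ker = K := by
  obtain ⟨φ, g, hF, hK⟩ := exists_frame P hC hM K F n hq e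
  refine ⟨φ, g, ⟨hF, PushUp.situation_of P hC hM K F n hq ⟨e⟩, fun C hCS hCn hinv => ?_⟩, hK⟩
  by_contra hne
  have hchar : (C.subgroupOf (P : Subgroup G)).Characteristic := by
    refine characteristic_iff_comap_le.2 fun β x hx => ?_
    obtain ⟨a, ha, hβ⟩ := exists_autPerm (P : Subgroup G) β.symm
    obtain ⟨c, hc, e'⟩ := hinv a ha _ hx
    show ((x : ↥(P : Subgroup G)) : G) ∈ C
    change reg c = a * reg ((β x : ↥(P : Subgroup G)) : G) * a⁻¹ at e'
    rw [hβ] at e'
    have e2 : β.symm (β.toMonoidHom x) = x := β.symm_apply_apply x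
    rw [show β x = β.toMonoidHom x from rfl, e2] at e'
    exact reg_inj e' ▸ hc
  refine hd _ (fun h0 => hne (le_bot_iff.1 fun c hc => ?_)) hchar
    (by rw [map_subgroupOf_eq_of_le hCS]; exact hCn)
  have : (⟨c, hCS hc⟩ : ↥(P : Subgroup G)) ∈ (⊥ : Subgroup ↥(P : Subgroup G)) := h0 ▸ hc
  exact congrArg Subtype.val (mem_bot.1 this)

theorem Hyp.not_normal (h : Hyp p S g φ) : ¬ S.Normal := fun hn =>
  h.frame.not_le_core (FittingCores.le_pCore hn h.frame.sit.pgroup)

theorem Hyp.zc_ne_bot (h : Hyp p S g φ) : zc S ≠ ⊥ := by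
  intro h0
  have hne : Nontrivial ↥S := by
    rw [nontrivial_iff_ne_bot]
    rintro rfl
    exact h.not_normal inferInstance
  have := h.frame.sit.pgroup.center_nontrivial
  obtain ⟨c, hc⟩ := exists_ne (1 : ↥(Subgroup.center ↥S))
  have hmem : ((c : ↥S) : G) ∈ zc S := ⟨(c : ↥S).2, mem_centralizer_iff.2 fun t ht =>
    congrArg Subtype.val (mem_center_iff.1 c.2 ⟨t, ht⟩)⟩
  rw [h0, mem_bot] at hmem
  exact hc (Subtype.ext (Subtype.ext hmem))

theorem Hyp.zc_not_central (h : Hyp p S g φ) : ¬ zc S ≤ center G := fun hle =>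
  h.zc_ne_bot (h.nochar _ inf_le_left (normal_of_central hle) (autInv_zc S))

theorem Hyp.jTilde_not_normal (h : Hyp p S g φ) :
    ¬ (S ⊓ centralizer (ZJ.zJ p False S : Set G)).Normal := fun hn => by
  have h0 := h.nochar _ inf_le_left hn autInv_zJ.inf_centralizer
  refine h.zc_ne_bot (le_bot_iff.1 (le_trans (le_inf inf_le_left ?_) h0.le))
  exact inf_le_right.trans (centralizer_le (ZJ.zJ_le S))

theorem Hyp.jSub_not_le (h : Hyp p S g φ) : ¬ ZJ.jSub p False S ≤ Cfsg.pCore p G := fun hJ =>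
  h.jTilde_not_normal (jTilde_normal_of_le h.frame.sit hJ h.zc_not_central)

theorem Hyp.zc_pow (h : Hyp p S g φ) {z : G} (hz : z ∈ zc S) : z ^ p = 1 := by
  rcases powerClosure_or_jTilde (p := p) h.situation with hn | hn
  · have hle : Cfsg.powerClosure p 1 (zc S) ≤ S := (closure_le _).2 (by
      rintro _ ⟨x, hx, rfl⟩; exact S.pow_mem hx.1 _)
    have h0 : Cfsg.powerClosure p 1 (zc S) = ⊥ := h.nochar _ hle hn (by
      refine autInv_closure fun a ha c hc => ?_
      obtain ⟨d, hd, rfl⟩ := hc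
      obtain ⟨x, hx, e⟩ := autInv_zc S a ha d hd
      exact ⟨x ^ p ^ 1, subset_closure ⟨x, hx, rfl⟩, by rw [map_pow, map_pow, e, conj_pow]⟩)
    have h1 : z ^ p ^ 1 ∈ Cfsg.powerClosure p 1 (zc S) := subset_closure ⟨z, hz, rfl⟩
    have h2 : z ^ p ^ 1 ∈ (⊥ : Subgroup G) := h0 ▸ h1
    rwa [pow_one, mem_bot] at h2
  · exact absurd hn h.jTilde_not_normal

/-- The module `V`. -/
def vm (S : Subgroup G) : Subgroup G := normalClosure (zc S : Set G)

omit [Finite G] in
theorem zc_le_vm : zc S ≤ vm S := subset_normalClosure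

omit [Finite G] in
theorem vm_normal : (vm S).Normal := normalClosure_normal

theorem Hyp.fixGen (h : Hyp p S g φ) : FixGen p S (vm S) (zc S) :=
  fixGen_of _ le_rfl h.zc_not_central

theorem Hyp.vm_le_core (h : Hyp p S g φ) : vm S ≤ Cfsg.pCore p G :=
  (h.fixGen.le_core h.frame.sit).trans inf_le_left

theorem Hyp.vm_le (h : Hyp p S g φ) : vm S ≤ S := h.vm_le_core.trans h.frame.sit.core_le

theorem Hyp.core_comm (h : Hyp p S g φ) {o v : G} (ho : o ∈ Cfsg.pCore p G) (hv : v ∈ vm S) :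
    o * v = v * o :=
  (mem_centralizer_iff.1 (h.fixGen.core_cent h.frame.sit ho) v hv).symm

theorem Hyp.vm_pow (h : Hyp p S g φ) {v : G} (hv : v ∈ vm S) : v ^ p = 1 := by
  refine closure_induction (fun y hy => ?_) (one_pow _) ?_ ?_ hv
  · obtain ⟨w, hw, hwc⟩ := Group.mem_conjugatesOfSet_iff.1 hy
    obtain ⟨x, rfl⟩ := isConj_iff.1 hwc
    rw [conj_pow, h.zc_pow hw]; simp
  · intro a b ha hb e1 e2
    have hc : Commute a b := h.fixGen.comm h.frame.sit ha hb
    rw [hc.mul_pow, e1, e2, one_mul]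
  · intro a _ e1; rw [inv_pow, e1, inv_one]

theorem Hyp.zc_eq (h : Hyp p S g φ) : vm S ⊓ centralizer (S : Set G) = zc S :=
  le_antisymm (fun _ hx => ⟨h.vm_le hx.1, hx.2⟩) (le_inf zc_le_vm inf_le_right)

/-- `V` is natural modulo the centre. -/
theorem Hyp.exists_first (h : Hyp p S g φ) :
    ∃ Φ : G →* Matrix.SpecialLinearGroup (Fin 2) F, Lifts S g φ Φ ∧
      ∃ ψ : G → Fin 2 → F, Layer Φ (vm S) (vm S ⊓ center G) ψ ∧
        ∀ v ∈ vm S, (v ∈ zc S ↔ ψ v 1 = 0) := by
  obtain ⟨⟨-, -, hcard⟩, hquad⟩ := h.fixGen.tight_top h.situation h.frame.sit h.jSub_not_le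
  rw [h.zc_eq, h.frame.card_S] at hcard
  have := vm_normal (S := S)
  obtain ⟨Φ, hΦ, T, ψ, L, -, -, hT, hX⟩ := exists_layer h.frame (vm S) ⊥ (zc S) bot_le zc_le_vm
    (commutator_le.2 fun u hu v hv => mem_bot.2 (commutatorElement_eq_one_iff_mul_comm.2
      (h.fixGen.comm h.frame.sit hu hv)))
    (commutator_le.2 fun u hu o ho => mem_bot.2 (commutatorElement_eq_one_iff_mul_comm.2
      (h.core_comm ho hu).symm))
    (commutator_le.2 fun z hz s hs => mem_bot.2 (commutatorElement_eq_one_iff_mul_comm.2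
      (zc_comm hz hs).symm))
    (commutator_le.2 fun u hu s hs => by
      refine ⟨?_, hquad u hu s hs⟩
      rw [commutatorElement_def]
      exact S.mul_mem (S.mul_mem (S.mul_mem (h.vm_le hu) hs) (S.inv_mem (h.vm_le hu))) (S.inv_mem hs))
    (by
      have hO : 0 < Nat.card ↥(Cfsg.pCore p G) := Nat.card_pos
      refine Nat.le_of_mul_le_mul_left (le_of_eq ?_) hO
      rw [← hcard, mul_assoc])
    (fun H hH htop => by
      refine h.zc_ne_bot (h.nochar _ inf_le_left ?_ (autInv_zc S))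
      refine normalizer_eq_top_iff.1 (eq_top_iff.2 (htop ▸ sup_le ?_ ?_))
      · exact fun x hx => centralizer_le_normalizer _ (mem_centralizer_iff.2 fun z hz =>
          commutatorElement_eq_one_iff_mul_comm.1 (mem_bot.1 (hH (commutator_mem_commutator
            (zc_le_vm hz) hx))))
      · exact fun x hx => centralizer_le_normalizer _ (mem_centralizer_iff.2 fun z hz =>
          (zc_comm hz hx).symm))
  have hTeq : T = vm S ⊓ center G := le_antisymm
    (le_inf L.le fun t ht => mem_center_iff.2 fun k =>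
      (commutatorElement_eq_one_iff_mul_comm.1 (mem_bot.1 (hT (commutator_mem_commutator ht (mem_top k))))).symm)
    (fun t ht => (L.ker t ht.1).1 (h.frame.fixed_eq_zero hΦ fun k => by
      rw [← L.conj k t ht.1, mem_center_iff.1 ht.2 k, mul_inv_cancel_right]))
  exact ⟨Φ, hΦ, ψ, hTeq ▸ L, hX⟩

end Cfsg.Agent.PushUp2
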