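/-
Rank-one pushing up, part 5: the graph of conjugates of `G` inside the permutations of `G`.
-/
import Cfsg.Agent.Lib.PushUp2.Core

set_option autoImplicit false

namespace Cfsg.Agent.PushUp2

open Subgroup PushUp Matrix
open scoped commutatorElement

variable {G : Type*} [Group G]

/-- The copy of `G` at the vertex `w`. -/
def tau (w : Equiv.Perm G) : G →* Equiv.Perm G := (MulAut.conj w).toMonoidHom.comp reg

theorem tau_apply (w : Equiv.Perm G) (x : G) : tau w x = w * reg x * w⁻¹ := rfl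

theorem tau_inj (w : Equiv.Perm G) : Function.Injective (tau w) :=
  (MulAut.conj w).injective.comp reg_inj

theorem tau_one : tau (1 : Equiv.Perm G) = reg := by ext x : 1; simp [tau_apply]

theorem tau_mul (γ w : Equiv.Perm G) (x : G) : tau (γ * w) x = γ * tau w x * γ⁻¹ := by
  simp only [tau_apply]; group

theorem tau_mul_reg (w : Equiv.Perm G) (k x : G) : tau (w * reg k) x = tau w (k * x * k⁻¹) := by
  simp only [tau_apply, map_mul, map_inv]; group

theorem map_tau_mul (γ w : Equiv.Perm G) (N : Subgroup G) :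
    N.map (tau (γ * w)) = (N.map (tau w)).map (MulAut.conj γ).toMonoidHom := by
  rw [Subgroup.map_map]
  congr 1

theorem map_tau_reg (w : Equiv.Perm G) (k : G) (N : Subgroup G) [hN : N.Normal] :
    N.map (tau (w * reg k)) = N.map (tau w) := by
  refine le_antisymm ?_ ?_
  · rintro _ ⟨x, hx, rfl⟩
    exact ⟨k * x * k⁻¹, hN.conj_mem x hx k, (tau_mul_reg w k x).symm⟩
  · rintro _ ⟨x, hx, rfl⟩
    refine ⟨k⁻¹ * x * k, by simpa using hN.conj_mem x hx k⁻¹, ?_⟩
    rw [tau_mul_reg]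
    congr 1
    group

/-- Neighbours. -/
def Step (S : Subgroup G) (w w' : Equiv.Perm G) : Prop :=
  ∃ (h k : G) (a : Equiv.Perm G), a ∈ autPerm S ∧ w' = w * reg h * a * reg k

variable {S : Subgroup G}

theorem Step.refl (w : Equiv.Perm G) : Step S w w := ⟨1, 1, 1, one_mem _, by simp⟩

theorem Step.symm {w w' : Equiv.Perm G} (h : Step S w w') : Step S w' w := by
  obtain ⟨x, k, a, ha, rfl⟩ := h
  exact ⟨k⁻¹, x⁻¹, a⁻¹, inv_mem ha, by simp only [map_inv]; group⟩

theorem Step.mul_left {w w' : Equiv.Perm G} (h : Step S w w') (γ : Equiv.Perm G) :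
    Step S (γ * w) (γ * w') := by
  obtain ⟨x, k, a, ha, rfl⟩ := h
  exact ⟨x, k, a, ha, by group⟩

theorem Step.reg_right {w w' : Equiv.Perm G} (h : Step S w w') (m : G) : Step S w (w' * reg m) := by
  obtain ⟨x, k, a, ha, rfl⟩ := h
  exact ⟨x, k * m, a, ha, by rw [map_mul]; group⟩

theorem Step.reg_left {w w' : Equiv.Perm G} (h : Step S w w') (m : G) : Step S (w * reg m) w' :=
  (h.symm.reg_right m).symm

theorem step_of_mem {w a : Equiv.Perm G} (ha : a ∈ autPerm S) : Step S w (w * a) :=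
  ⟨1, 1, a, ha, by simp⟩

/-- Distance at most `n`. -/
inductive Near (S : Subgroup G) : ℕ → Equiv.Perm G → Equiv.Perm G → Prop
  | zero (w : Equiv.Perm G) : Near S 0 w w
  | snoc {n : ℕ} {w w' w'' : Equiv.Perm G} : Near S n w w' → Step S w' w'' → Near S (n + 1) w w''

theorem Near.one {w w' : Equiv.Perm G} (h : Step S w w') : Near S 1 w w' := (Near.zero w).snoc h

theorem Near.cons {n : ℕ} {w w' w'' : Equiv.Perm G} (h : Step S w w') (h' : Near S n w' w'') :
    Near S (n + 1) w w'' := by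
  induction h' with
  | zero v => exact Near.one h
  | snoc _ hs ih => exact (ih h).snoc hs

theorem Near.symm {n : ℕ} {w w' : Equiv.Perm G} (h : Near S n w w') : Near S n w' w := by
  induction h with
  | zero v => exact Near.zero v
  | snoc _ hs ih => exact Near.cons hs.symm ih

theorem Near.mul_left {n : ℕ} {w w' : Equiv.Perm G} (h : Near S n w w') (γ : Equiv.Perm G) :
    Near S n (γ * w) (γ * w') := by
  induction h with
  | zero v => exact Near.zero _
  | snoc _ hs ih => exact ih.snoc (hs.mul_left γ)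

theorem Near.mono {n m : ℕ} {w w' : Equiv.Perm G} (h : Near S n w w') (hnm : n ≤ m) :
    Near S m w w' := by
  induction hnm with
  | refl => exact h
  | step _ ih => exact ih.snoc (Step.refl _)

theorem Near.trans {n m : ℕ} {w w' w'' : Equiv.Perm G} (h : Near S n w w') (h' : Near S m w' w'') :
    Near S (n + m) w w'' := by
  induction h' with
  | zero v => exact h
  | snoc _ hs ih => exact (ih h).snoc hs

theorem Near.head {n : ℕ} {w w'' : Equiv.Perm G} (h : Near S (n + 1) w w'') :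
    ∃ w', Step S w w' ∧ Near S n w' w'' := by
  induction n generalizing w'' with
  | zero =>
    cases h with
    | snoc h0 hs => cases h0 with | zero => exact ⟨w'', hs, Near.zero _⟩
  | succ n ih =>
    cases h with
    | snoc h0 hs =>
      obtain ⟨w', h1, h2⟩ := ih h0
      exact ⟨w', h1, h2.snoc hs⟩

theorem Near.last {n : ℕ} {w w'' : Equiv.Perm G} (h : Near S (n + 1) w w'') :
    ∃ w', Near S n w w' ∧ Step S w' w'' := by
  cases h with
  | snoc h0 hs => exact ⟨_, h0, hs⟩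

/-- The image of `V` at a vertex. -/
def vv (S : Subgroup G) (w : Equiv.Perm G) : Subgroup (Equiv.Perm G) := (vm S).map (tau w)

/-- The image of `O_p(G)` at a vertex. -/
def ov (p : ℕ) (w : Equiv.Perm G) : Subgroup (Equiv.Perm G) := (Cfsg.pCore p G).map (tau w)

theorem vv_mul (γ w : Equiv.Perm G) : vv S (γ * w) = (vv S w).map (MulAut.conj γ).toMonoidHom :=
  map_tau_mul γ w _

theorem ov_mul (p : ℕ) (γ w : Equiv.Perm G) :
    (ov p (γ * w) : Subgroup (Equiv.Perm G)) = (ov p w).map (MulAut.conj γ).toMonoidHom :=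
  map_tau_mul γ w _

theorem vv_reg (w : Equiv.Perm G) (k : G) : vv S (w * reg k) = vv S w :=
  have := vm_normal (S := S); map_tau_reg w k _

theorem ov_reg (p : ℕ) (w : Equiv.Perm G) (k : G) : (ov p (w * reg k) : Subgroup (Equiv.Perm G)) = ov p w :=
  have := FittingCores.pCore_normal (G := G) p; map_tau_reg w k _

theorem vv_le_ov_mul (p : ℕ) (γ : Equiv.Perm G) {w w' : Equiv.Perm G} :
    vv S (γ * w) ≤ ov p (γ * w') ↔ vv S w ≤ ov p w' := by
  rw [vv_mul, ov_mul, map_le_map_iff_of_injective (MulAut.conj γ).injective]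

theorem range_tau_mul (γ w : Equiv.Perm G) :
    (tau (γ * w)).range = (tau w).range.map (MulAut.conj γ).toMonoidHom := by
  rw [MonoidHom.range_eq_map, MonoidHom.range_eq_map, map_tau_mul]

/-- `W`: generated by the images of `V` under the automorphisms of `S`. -/
def wSub (S : Subgroup G) : Subgroup G :=
  (⨆ a : ↥(autPerm S), vv S (a : Equiv.Perm G)).comap reg

/-- `U`: the normal closure of `W`. -/
def um (S : Subgroup G) : Subgroup G := normalClosure (wSub S : Set G)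

theorem um_normal : (um S).Normal := normalClosure_normal

/-- The image of `U` at a vertex. -/
def uv (S : Subgroup G) (w : Equiv.Perm G) : Subgroup (Equiv.Perm G) := (um S).map (tau w)

theorem uv_mul (γ w : Equiv.Perm G) : uv S (γ * w) = (uv S w).map (MulAut.conj γ).toMonoidHom :=
  map_tau_mul γ w _

theorem uv_reg (w : Equiv.Perm G) (k : G) : uv S (w * reg k) = uv S w :=
  have := um_normal (S := S); map_tau_reg w k _

variable [Finite G] {p : ℕ} [hp : Fact p.Prime] {g : G} {F : Type} [Field F]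
  {φ : G →* Matrix.ProjectiveSpecialLinearGroup (Fin 2) F}

local notation "O" => Cfsg.pCore p G

theorem Layer.card_line {Φ : G →* Matrix.SpecialLinearGroup (Fin 2) F} {U T X : Subgroup G}
    {ψ : G → Fin 2 → F} (L : Layer Φ U T ψ) [Finite F] (hXU : X ≤ U)
    (hX : ∀ u ∈ U, (u ∈ X ↔ ψ u 1 = 0)) : Nat.card ↥X = Nat.card F * Nat.card ↥T := by
  have hTX : T ≤ X := fun t ht => (hX t (L.le ht)).2 (by rw [(L.ker t (L.le ht)).2 ht]; rfl)
  let f : ↥X →* Multiplicative F :=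
    { toFun := fun u => Multiplicative.ofAdd (ψ u 0)
      map_one' := by simp [L.map_one]
      map_mul' := fun u v => by
        rw [← ofAdd_add, Subgroup.coe_mul, L.map_mul u (hXU u.2) v (hXU v.2)]; rfl }
  have hs : Function.Surjective f := fun x => by
    obtain ⟨u, hu, e⟩ := L.surj ![Multiplicative.toAdd x, 0]
    refine ⟨⟨u, (hX u hu).2 (by rw [e]; rfl)⟩, ?_⟩
    show Multiplicative.ofAdd (ψ u 0) = x
    rw [e]; rfl
  have hk : f.ker = T.subgroupOf X := by
    ext u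
    rw [MonoidHom.mem_ker, mem_subgroupOf, ← L.ker u (hXU u.2)]
    refine ⟨fun e => funext fun i => ?_, fun e => ?_⟩
    · fin_cases i
      · exact Multiplicative.ofAdd.injective e
      · exact (hX u (hXU u.2)).1 u.2
    · show Multiplicative.ofAdd (ψ u 0) = 1
      rw [e]; rfl
  rw [← f.ker.index_mul_card, index_ker, MonoidHom.range_eq_top.2 hs, Subgroup.card_top, hk,
    Nat.card_congr (subgroupOfEquivOfLe hTX).toEquiv, Nat.card_congr (Multiplicative.toAdd (α := F))]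

/-- All the data attached to `V`. -/
structure Data (p : ℕ) (S : Subgroup G) (g : G) {F : Type} [Field F]
    (φ : G →* Matrix.ProjectiveSpecialLinearGroup (Fin 2) F)
    (Φ : G →* Matrix.SpecialLinearGroup (Fin 2) F) (ψ : G → Fin 2 → F) : Prop where
  hyp : Hyp p S g φ
  lifts : Lifts S g φ Φ
  layer : Layer Φ (vm S) (vm S ⊓ center G) ψ
  line : ∀ v ∈ vm S, (v ∈ zc S ↔ ψ v 1 = 0)

theorem Hyp.exists_data (h : Hyp p S g φ) : ∃ Φ ψ, Data p S g φ Φ ψ := by
  obtain ⟨Φ, hΦ, ψ, L, hX⟩ := h.exists_first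
  exact ⟨Φ, ψ, ⟨h, hΦ, L, hX⟩⟩

theorem Frame.exists_conj_le (h : Frame p S g φ) {Q : Subgroup G} (hQ : IsPGroup p ↥Q) :
    ∃ x : G, ∀ q ∈ Q, x⁻¹ * q * x ∈ S := by
  obtain ⟨P, hP⟩ := hQ.exists_le_sylow
  obtain ⟨x, hx⟩ := MulAction.exists_smul_eq G (h.sit.pgroup.toSylow h.sit.not_dvd) P
  refine ⟨x, fun q hq => ?_⟩
  have := hP hq
  rw [← hx, Sylow.coe_subgroup_smul] at this
  obtain ⟨s, hs, e⟩ := this
  change x * s * x⁻¹ = q at e
  rw [← e]
  show x⁻¹ * (x * s * x⁻¹) * x ∈ S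
  rw [show x⁻¹ * (x * s * x⁻¹) * x = s by group]
  exact hs

variable {Φ : G →* Matrix.SpecialLinearGroup (Fin 2) F} {ψ : G → Fin 2 → F}

theorem Data.card_vm (h : Data p S g φ Φ ψ) :
    Nat.card ↥(vm S) = Nat.card F * Nat.card ↥(zc S) := by
  have := h.hyp.frame.finite
  rw [h.layer.card_eq, h.layer.card_line zc_le_vm h.line, mul_assoc]

theorem Data.zc_lt (h : Data p S g φ Φ ψ) : Nat.card ↥(zc S) < Nat.card ↥(vm S) := by
  have := h.hyp.frame.finite
  rw [h.card_vm]
  exact lt_mul_of_one_lt_left Nat.card_pos Finite.one_lt_card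

theorem Data.fix_line (h : Data p S g φ Φ ψ) {x v : G} (hx : x ∈ S) (hxO : x ∉ O) (hv : v ∈ vm S)
    (hfix : ⁅x, v⁆ ∈ vm S ⊓ center G) : v ∈ zc S :=
  (h.line v hv).2 (h.layer.line_of_fixed h.hyp.frame h.lifts hx hxO hv hfix)

theorem Data.cent_le_core (h : Data p S g φ Φ ψ) {Q : Subgroup G} (hQ : IsPGroup p ↥Q)
    (hc : Q ≤ centralizer (vm S : Set G)) : Q ≤ O := by
  obtain ⟨x, hx⟩ := h.hyp.frame.exists_conj_le hQ
  have hn := FittingCores.pCore_normal (G := G) p
  have hV := vm_normal (S := S)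
  intro q hq
  suffices x⁻¹ * q * x ∈ O by
    have e := hn.conj_mem _ this x
    rwa [show x * (x⁻¹ * q * x) * x⁻¹ = q by group] at e
  by_contra hO
  obtain ⟨v, hv, e⟩ := h.layer.surj ![0, 1]
  have hcv : ⁅x⁻¹ * q * x, v⁆ = 1 := by
    rw [commutatorElement_eq_one_iff_mul_comm]
    have e1 := mem_centralizer_iff.1 (hc hq) _ (hV.conj_mem v hv x)
    calc x⁻¹ * q * x * v = x⁻¹ * (q * (x * v * x⁻¹)) * x := by group
      _ = x⁻¹ * ((x * v * x⁻¹) * q) * x := by rw [e1]
      _ = _ := by group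
  have := (h.line v hv).1 (h.fix_line (hx q hq) hO hv (hcv ▸ one_mem _))
  rw [e] at this
  simp at this

theorem Data.card_fix (h : Data p S g φ Φ ψ) {Q : Subgroup G} (hQ : IsPGroup p ↥Q) (hQO : ¬ Q ≤ O) :
    Nat.card ↥(vm S ⊓ centralizer (Q : Set G)) = Nat.card ↥(zc S) := by
  obtain ⟨x, hx⟩ := h.hyp.frame.exists_conj_le hQ
  obtain ⟨q, hq, hqO⟩ := Set.not_subset.1 hQO
  have hV := vm_normal (S := S)
  have hn := FittingCores.pCore_normal (G := G) p
  have heq : vm S ⊓ centralizer (Q : Set G) = (zc S).map (MulAut.conj x).toMonoidHom := by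
    refine le_antisymm ?_ ?_
    · intro v hv
      refine ⟨x⁻¹ * v * x, ?_, by simp [mul_assoc]⟩
      refine h.fix_line (hx q hq) (fun hh => hqO ?_) (by simpa using hV.conj_mem v hv.1 x⁻¹) ?_
      · have e := hn.conj_mem _ hh x
        rwa [show x * (x⁻¹ * q * x) * x⁻¹ = q by group] at e
      · have e : ⁅x⁻¹ * q * x, x⁻¹ * v * x⁆ = 1 := by
          rw [commutatorElement_eq_one_iff_mul_comm]
          calc x⁻¹ * q * x * (x⁻¹ * v * x) = x⁻¹ * (q * v) * x := by group
            _ = x⁻¹ * (v * q) * x := by rw [mem_centralizer_iff.1 hv.2 q hq]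
            _ = _ := by group
        rw [e]; exact one_mem _
    · rintro _ ⟨z, hz, rfl⟩
      refine ⟨hV.conj_mem z (zc_le_vm hz) x, mem_centralizer_iff.2 fun t ht => ?_⟩
      show t * (x * z * x⁻¹) = x * z * x⁻¹ * t
      calc t * (x * z * x⁻¹) = x * ((x⁻¹ * t * x) * z) * x⁻¹ := by group
        _ = x * (z * (x⁻¹ * t * x)) * x⁻¹ := by rw [zc_comm hz (hx t ht)]
        _ = _ := by group
  rw [heq]
  exact card_map_of_injective (MulAut.conj x).injective

/-- A `p`-group with a subgroup covering a Sylow group modulo the core is covered by it. -/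
theorem Frame.cover (h : Frame p S g φ) {A B : Subgroup G} (hB : IsPGroup p ↥B) (hAB : A ≤ B)
    (hA : Nat.card F * Nat.card ↥(A ⊓ O) ≤ Nat.card ↥A) {b : G} (hb : b ∈ B) :
    ∃ a ∈ A, a⁻¹ * b ∈ B ⊓ O := by
  have := FittingCores.pCore_normal (G := G) p
  have hpg : IsPGroup p ↥(B ⊔ O) := hB.to_sup_of_normal_right (h.sit.pgroup.to_le h.sit.core_le)
  obtain ⟨P, hP⟩ := hpg.exists_le_sylow
  have hc : Nat.card ↥(P : Subgroup G) = Nat.card ↥O * Nat.card F := by
    rw [← h.card_S]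
    exact P.card_eq_multiplicity.trans (h.sit.pgroup.toSylow h.sit.not_dvd).card_eq_multiplicity.symm
  have h2 := card_sup_eq (H := A) (K := O) (by rw [normalizer_eq_top (H := O)]; exact le_top)
  have hge : Nat.card ↥(P : Subgroup G) ≤ Nat.card ↥(A ⊔ O) := by
    refine Nat.le_of_mul_le_mul_right ?_ (Nat.card_pos (α := ↥(A ⊓ O)))
    rw [h2, hc, mul_assoc, mul_comm (Nat.card ↥A)]
    exact Nat.mul_le_mul_left _ hA
  have he : A ⊔ O = (P : Subgroup G) :=
    eq_of_le_of_card_ge ((sup_le_sup_right hAB _).trans hP) hge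
  obtain ⟨a, ha, o, ho, rfl⟩ := mem_sup_of_normal_right.1 (he.ge (hP (mem_sup_left hb)))
  refine ⟨a, ha, B.mul_mem (B.inv_mem (hAB ha)) hb, ?_⟩
  rwa [inv_mul_cancel_left]

omit [Finite G] hp in
theorem card_vv (w : Equiv.Perm G) : Nat.card ↥(vv S w) = Nat.card ↥(vm S) :=
  card_map_of_injective (tau_inj w)

theorem Data.isPGroup_vv (h : Data p S g φ Φ ψ) (w : Equiv.Perm G) : IsPGroup p ↥(vv S w) :=
  (h.hyp.frame.sit.pgroup.to_le h.hyp.vm_le).map (tau w)

theorem Data.vv_le_ov_self (h : Data p S g φ Φ ψ) (w : Equiv.Perm G) : vv S w ≤ ov p w :=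
  Subgroup.map_mono h.hyp.vm_le_core

theorem Data.commute_ov (h : Data p S g φ Φ ψ) {w : Equiv.Perm G} {x v : Equiv.Perm G}
    (hx : x ∈ ov p w) (hv : v ∈ vv S w) : x * v = v * x := by
  obtain ⟨o, ho, rfl⟩ := hx
  obtain ⟨u, hu, rfl⟩ := hv
  rw [← map_mul, ← map_mul, h.hyp.core_comm ho hu]

omit hp in
theorem ov_le_range_of_step (hS : O ≤ S) {w w' : Equiv.Perm G} (hs : Step S w w') :
    ov p w ≤ (tau w').range := by
  obtain ⟨x, k, a, ha, rfl⟩ := hs
  rintro _ ⟨o, ho, rfl⟩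
  have hn := FittingCores.pCore_normal (G := G) p
  obtain ⟨s, -, e⟩ := exists_conj_eq (inv_mem ha) (hS (by simpa using hn.conj_mem o ho x⁻¹) :
    x⁻¹ * o * x ∈ S)
  refine ⟨k⁻¹ * s * k, ?_⟩
  rw [tau_mul_reg, show k * (k⁻¹ * s * k) * k⁻¹ = s by group]
  simp only [tau_apply, e, map_mul, map_inv]
  group

/-- All pairs at distance less than `b` commute. -/
def Small (p : ℕ) (S : Subgroup G) (b : ℕ) : Prop :=
  ∀ (m : ℕ) (w w' : Equiv.Perm G), m < b → Near S m w w' → vv S w ≤ ov p w'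

theorem Data.vv_le_range (h : Data p S g φ Φ ψ) {b : ℕ} (hb : Small p S b) {m : ℕ}
    {w w' : Equiv.Perm G} (hm : m ≤ b) (hn : Near S m w w') : vv S w ≤ (tau w').range := by
  cases hn with
  | zero => exact MonoidHom.range_eq_map (tau w) ▸ Subgroup.map_mono le_top
  | snoc h0 hs => exact (hb _ _ _ (by omega) h0).trans (ov_le_range_of_step h.hyp.frame.sit.core_le hs)

theorem Data.commute_vv (h : Data p S g φ Φ ψ) {b : ℕ} (hb : Small p S b) {m : ℕ}
    {w w' : Equiv.Perm G} (hm : m < b) (hn : Near S m w w') {x y : Equiv.Perm G} (hx : x ∈ vv S w)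
    (hy : y ∈ vv S w') : x * y = y * x :=
  h.commute_ov (hb _ _ _ hm hn hx) hy

theorem Data.pull (h : Data p S g φ Φ ψ) {w v : Equiv.Perm G} (hle : vv S w ≤ (tau v).range) :
    IsPGroup p ↥((vv S w).comap (tau v)) ∧ Nat.card ↥((vv S w).comap (tau v)) = Nat.card ↥(vm S) ∧
      ((vv S w).comap (tau v)).map (tau v) = vv S w := by
  have e : ((vv S w).comap (tau v)).map (tau v) = vv S w := map_comap_eq_self hle
  refine ⟨(h.isPGroup_vv w).comap_of_injective _ (tau_inj v), ?_, e⟩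
  rw [← card_vv w]
  conv_rhs => rw [← e]
  exact (card_map_of_injective (tau_inj v)).symm

theorem Data.crit_symm (h : Data p S g φ Φ ψ) {w w' : Equiv.Perm G} (h1 : vv S w ≤ (tau w').range)
    (h2 : ¬ vv S w ≤ ov p w') : ¬ vv S w' ≤ ov p w := by
  intro hle
  obtain ⟨hQ, -, e⟩ := h.pull h1
  refine h2 ?_
  rw [← e]
  refine Subgroup.map_mono (h.cent_le_core hQ fun q hq => mem_centralizer_iff.2 fun v hv => ?_)
  apply tau_inj w'
  rw [map_mul, map_mul]
  exact h.commute_ov (hle (mem_map_of_mem _ hv)) hq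

theorem Data.crit_pull (h : Data p S g φ Φ ψ) {w w' : Equiv.Perm G} (h1 : vv S w ≤ (tau w').range)
    (h2 : ¬ vv S w ≤ ov p w') (h3 : vv S w' ≤ (tau w).range) :
    Nat.card ↥((vv S w).comap (tau w') ⊓ O) = Nat.card ↥(zc S) ∧
      Nat.card ↥((vv S w).comap (tau w')) = Nat.card F * Nat.card ↥((vv S w).comap (tau w') ⊓ O) := by
  obtain ⟨hQ, hQc, e⟩ := h.pull h1
  obtain ⟨hQ', -, e'⟩ := h.pull h3
  set A := (vv S w).comap (tau w') with hA
  set B := (vv S w').comap (tau w) with hB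
  have hBO : ¬ B ≤ O := fun hle => h.crit_symm h1 h2 (e' ▸ Subgroup.map_mono hle)
  have key : (A ⊓ O).map (tau w') = (vm S ⊓ centralizer (B : Set G)).map (tau w) := by
    refine le_antisymm ?_ ?_
    · rintro _ ⟨a, ⟨ha, haO⟩, rfl⟩
      obtain ⟨v, hv, hv'⟩ := (ha : tau w' a ∈ vv S w)
      refine ⟨v, ⟨hv, mem_centralizer_iff.2 fun t ht => ?_⟩, hv'⟩
      apply tau_inj w
      rw [map_mul, map_mul, hv']
      exact (h.commute_ov (mem_map_of_mem _ haO : tau w' a ∈ ov p w') ht).symm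
    · rintro _ ⟨v, ⟨hv, hvB⟩, rfl⟩
      obtain ⟨a, ha⟩ := h1 (mem_map_of_mem (tau w) hv)
      have haA : a ∈ A := by show tau w' a ∈ vv S w; rw [ha]; exact mem_map_of_mem _ hv
      refine ⟨a, ⟨haA, h.cent_le_core ((hQ.to_le (zpowers_le.2 haA))) (zpowers_le.2 ?_) (mem_zpowers a)⟩, ha⟩
      rw [mem_centralizer_iff]
      intro u hu
      apply tau_inj w'
      obtain ⟨t, ht⟩ := h3 (mem_map_of_mem (tau w') hu)
      have htB : t ∈ B := by show tau w t ∈ vv S w'; rw [ht]; exact mem_map_of_mem _ hu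
      rw [map_mul, map_mul, ha, ← ht, ← map_mul, ← map_mul, mem_centralizer_iff.1 hvB t htB]
  have hc : Nat.card ↥(A ⊓ O) = Nat.card ↥(zc S) := by
    rw [← h.card_fix hQ' hBO]
    exact (card_map_of_injective (tau_inj w')).symm.trans
      ((congrArg (fun H : Subgroup (Equiv.Perm G) => Nat.card ↥H) key).trans
        (card_map_of_injective (tau_inj w)))
  exact ⟨hc, by rw [hQc, hc, h.card_vm]⟩

/-- A critical pair exists. -/
theorem Data.exists_crit (h : Data p S g φ Φ ψ) :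
    ∃ b, Small p S b ∧ 1 ≤ b ∧ ∃ w w', Near S b w w' ∧ ¬ vv S w ≤ ov p w' := by
  classical
  have hex : ∃ n, ∃ w w', Near S n w w' ∧ ¬ vv S w ≤ ov p w' := by
    by_contra hno
    push Not at hno
    set Y := ⨆ w : {w : Equiv.Perm G // ∃ n, Near S n 1 w}, vv S (w : Equiv.Perm G) with hY
    have hYO : Y ≤ ov p 1 := iSup_le fun ⟨w, n, hn⟩ => hno n w 1 hn.symm
    have hYS : Y.comap reg ≤ S := fun x hx => by
      obtain ⟨o, ho, e⟩ := hYO hx
      rw [tau_one] at e
      exact reg_inj e ▸ h.hyp.frame.sit.core_le ho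
    have hinv : ∀ γ : Equiv.Perm G, (∃ n, Near S n 1 γ) → ∀ y ∈ Y, γ * y * γ⁻¹ ∈ Y := by
      rintro γ ⟨n, hγ⟩ y hy
      refine (?_ : Y ≤ Y.comap (MulAut.conj γ).toMonoidHom) hy
      refine iSup_le fun ⟨w, m, hm⟩ => ?_
      rw [← map_le_iff_le_comap, ← vv_mul]
      refine le_iSup_of_le ⟨γ * w, n + m, ?_⟩ le_rfl
      have := hm.mul_left γ
      rw [mul_one] at this
      exact hγ.trans this
    have h0 := h.hyp.nochar _ hYS ⟨fun x hx k => by
      show reg (k * x * k⁻¹) ∈ Y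
      rw [map_mul, map_mul, map_inv]
      refine hinv _ ⟨1, Near.one ⟨1, k, 1, one_mem _, by simp⟩⟩ _ hx⟩ (fun a ha c hc => by
        have := hinv a ⟨1, Near.one ⟨1, 1, a, ha, by simp⟩⟩ _ hc
        obtain ⟨o, ho, e⟩ := hYO this
        rw [tau_one] at e
        exact ⟨o, by show reg o ∈ Y; rw [e]; exact this, e⟩)
    refine h.hyp.zc_ne_bot (le_bot_iff.1 fun z hz => ?_)
    refine h0.le (?_ : reg z ∈ Y)
    refine le_iSup (fun w : {w : Equiv.Perm G // ∃ n, Near S n 1 w} => vv S (w : Equiv.Perm G))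
      ⟨1, 0, Near.zero 1⟩ ⟨z, zc_le_vm hz, ?_⟩
    rw [tau_one]
  refine ⟨Nat.find hex, fun m w w' hm hn => ?_, ?_, Nat.find_spec hex⟩
  · by_contra hle
    exact Nat.find_min hex hm ⟨w, w', hn, hle⟩
  · obtain ⟨w, w', hn, hle⟩ := Nat.find_spec hex
    by_contra h0
    rw [show Nat.find hex = 0 by omega] at hn
    cases hn
    exact hle (h.vv_le_ov_self _)

theorem Data.vv_le_wSub (a : Equiv.Perm G) (ha : a ∈ autPerm S) (hle : vv S a ≤ (reg : G →* _).range) :
    (vv S a).comap reg ≤ wSub S ∧ ((vv S a).comap reg).map reg = vv S a :=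
  ⟨comap_mono (le_iSup (fun a : ↥(autPerm S) => vv S (a : Equiv.Perm G)) ⟨a, ha⟩), map_comap_eq_self hle⟩

theorem Data.vv_le_S (h : Data p S g φ Φ ψ) {a : Equiv.Perm G} (ha : a ∈ autPerm S) :
    vv S a ≤ S.map reg := by
  rintro _ ⟨v, hv, rfl⟩
  obtain ⟨s, hs, e⟩ := exists_conj_eq ha (h.hyp.vm_le hv)
  exact ⟨s, hs, e⟩

theorem Data.wSub_map (h : Data p S g φ Φ ψ) :
    (wSub S).map reg = ⨆ a : ↥(autPerm S), vv S (a : Equiv.Perm G) :=
  map_comap_eq_self (iSup_le fun a => (h.vv_le_S a.2).trans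
    (MonoidHom.range_eq_map (reg : G →* _) ▸ Subgroup.map_mono le_top))

theorem Data.wSub_le (h : Data p S g φ Φ ψ) : wSub S ≤ S := fun x hx => by
  obtain ⟨s, hs, e⟩ := (iSup_le fun a : ↥(autPerm S) => h.vv_le_S a.2) hx
  exact reg_inj e ▸ hs

theorem Data.vm_le_wSub (h : Data p S g φ Φ ψ) : vm S ≤ wSub S := fun v hv =>
  le_iSup (fun a : ↥(autPerm S) => vv S (a : Equiv.Perm G)) ⟨1, one_mem _⟩
    ⟨v, hv, by rw [tau_one]⟩

theorem Data.autInv_wSub (h : Data p S g φ Φ ψ) : AutInv S (wSub S) := fun a ha c hc => by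
  rw [h.wSub_map]
  refine (?_ : (⨆ b : ↥(autPerm S), vv S (b : Equiv.Perm G)) ≤
    (⨆ b : ↥(autPerm S), vv S (b : Equiv.Perm G)).comap (MulAut.conj a).toMonoidHom) hc
  refine iSup_le fun b => ?_
  rw [← map_le_iff_le_comap, ← vv_mul]
  exact le_iSup (fun b : ↥(autPerm S) => vv S (b : Equiv.Perm G)) ⟨a * b, mul_mem ha b.2⟩

/-- Neighbours lie in `U`. -/
theorem Data.vv_le_uv (h : Data p S g φ Φ ψ) {w w' : Equiv.Perm G} (hs : Step S w w') :
    vv S w' ≤ uv S w := by
  obtain ⟨x, k, a, ha, rfl⟩ := hs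
  rw [vv_reg, ← uv_reg w x, vv_mul, show uv S (w * reg x) = uv S (w * reg x * 1) by rw [mul_one], uv_mul]
  refine Subgroup.map_mono (le_trans ?_ (le_of_eq (show (um S).map reg = uv S 1 by rw [uv, tau_one])))
  refine le_trans ?_ (Subgroup.map_mono (subset_normalClosure : wSub S ≤ um S))
  rw [h.wSub_map]
  exact le_iSup (fun b : ↥(autPerm S) => vv S (b : Equiv.Perm G)) ⟨a, ha⟩

/-- `U` is generated by the neighbours. -/
theorem Data.um_le (h : Data p S g φ Φ ψ) {X : Subgroup (Equiv.Perm G)}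
    (hX : ∀ w, Step S 1 w → vv S w ≤ X) : (um S).map reg ≤ X := by
  rw [map_le_iff_le_comap, um, normalClosure, closure_le]
  intro y hy
  obtain ⟨w, hw, hwy⟩ := Group.mem_conjugatesOfSet_iff.1 hy
  obtain ⟨k, rfl⟩ := isConj_iff.1 hwy
  show reg (k * w * k⁻¹) ∈ X
  have hw' : reg w ∈ ⨆ b : ↥(autPerm S), vv S (b : Equiv.Perm G) := hw
  rw [map_mul, map_mul, map_inv]
  refine (?_ : (⨆ b : ↥(autPerm S), vv S (b : Equiv.Perm G)) ≤
    X.comap (MulAut.conj (reg k)).toMonoidHom) hw'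
  refine iSup_le fun b => ?_
  rw [← map_le_iff_le_comap, ← vv_mul]
  exact hX _ ⟨k, 1, b, b.2, by simp⟩

theorem Data.comm_vm_S (h : Data p S g φ Φ ψ) {v s : G} (hv : v ∈ vm S) (hs : s ∈ S) :
    ⁅s, v⁆ ∈ zc S :=
  (h.line _ (h.layer.comm_mem s hv)).2 (h.layer.comm_line h.hyp.frame h.lifts hs hv)

theorem Data.comm_wSub_S (h : Data p S g φ Φ ψ) {w : G} (hw : w ∈ wSub S) {s : G} (hs : s ∈ S) :
    ⁅s, w⁆ ∈ zc S := by
  let Y : Subgroup G :=
    { carrier := {w | w ∈ S ∧ ∀ s ∈ S, ⁅s, w⁆ ∈ zc S}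
      one_mem' := ⟨one_mem _, fun s _ => by
        rw [show ⁅s, (1 : G)⁆ = 1 by rw [commutatorElement_def]; group]
        exact one_mem _⟩
      mul_mem' := fun {a b} ha hb => ⟨mul_mem ha.1 hb.1, fun s hs => by
        rw [show ⁅s, a * b⁆ = ⁅s, a⁆ * (a * ⁅s, b⁆ * a⁻¹) by
          rw [commutatorElement_def, commutatorElement_def, commutatorElement_def]; group,
          zc_comm (hb.2 s hs) ha.1, mul_inv_cancel_right]
        exact mul_mem (ha.2 s hs) (hb.2 s hs)⟩
      inv_mem' := fun {a} ha => ⟨inv_mem ha.1, fun s hs => by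
        rw [show ⁅s, a⁻¹⁆ = a⁻¹ * ⁅s, a⁆⁻¹ * a by
          rw [commutatorElement_def, commutatorElement_def]; group,
          zc_comm (inv_mem (ha.2 s hs)) (inv_mem ha.1), inv_mul_cancel_right]
        exact inv_mem (ha.2 s hs)⟩ }
  suffices hY : (⨆ a : ↥(autPerm S), vv S (a : Equiv.Perm G)) ≤ Y.map reg by
    obtain ⟨y, hy, e⟩ := hY hw
    exact reg_inj e ▸ hy.2 s hs
  refine iSup_le fun a => ?_
  rintro _ ⟨v, hv, rfl⟩
  obtain ⟨w', hw', e⟩ := exists_conj_eq a.2 (h.hyp.vm_le hv)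
  refine ⟨w', ⟨hw', fun t ht => ?_⟩, e⟩
  obtain ⟨t', ht', e'⟩ := exists_conj_eq (inv_mem a.2) ht
  obtain ⟨z, hz, ez⟩ := autInv_zc S a a.2 _ (h.comm_vm_S hv ht')
  have : ⁅t, w'⁆ = z := by
    apply reg_inj
    rw [ez, map_commutatorElement, map_commutatorElement, e, e']
    rw [commutatorElement_def, commutatorElement_def]
    group
  exact this ▸ hz

end Cfsg.Agent.PushUp2
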