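/-
Rank-one pushing up, part 6: critical pairs and the module `U / T`.
-/
import Cfsg.Agent.Lib.PushUp2.Graph

set_option autoImplicit false

namespace Cfsg.Agent.PushUp2

open Subgroup PushUp Matrix
open scoped commutatorElement

variable {G : Type*} [Group G]

theorem map_inf_comap' {H : Type*} [Group H] (f : G →* H) (A : Subgroup G) (B : Subgroup H) :
    (A ⊓ B.comap f).map f = A.map f ⊓ B := by
  refine le_antisymm ?_ ?_
  · rintro _ ⟨a, ⟨ha, hb⟩, rfl⟩
    exact ⟨mem_map_of_mem f ha, hb⟩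
  · rintro x ⟨⟨a, ha, e⟩, hb⟩
    refine ⟨a, ⟨ha, ?_⟩, e⟩
    show f a ∈ B
    rw [e]; exact hb

theorem le_normalizer_of_conj_mem {K A : Subgroup G}
    (h : ∀ x ∈ K, ∀ a ∈ A, x * a * x⁻¹ ∈ A) : K ≤ normalizer (A : Set G) := by
  intro x hx
  rw [mem_normalizer_iff]
  refine fun a => ⟨fun ha => h x hx a ha, fun ha => ?_⟩
  have := h _ (inv_mem hx) _ ha
  simpa [mul_assoc] using this

theorem range_tau_le_normalizer {S : Subgroup G} (w : Equiv.Perm G) (N : Subgroup G) [hN : N.Normal] :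
    (tau w).range ≤ normalizer ((N.map (tau w) : Subgroup (Equiv.Perm G)) : Set (Equiv.Perm G)) := by
  refine le_normalizer_of_conj_mem ?_
  rintro _ ⟨x, rfl⟩ _ ⟨n, hn, rfl⟩
  exact ⟨x * n * x⁻¹, hN.conj_mem n hn x, by simp⟩

variable {S : Subgroup G}

theorem conj_mem_vv {w x v : Equiv.Perm G} (hx : x ∈ (tau w).range) (hv : v ∈ vv S w) :
    x * v * x⁻¹ ∈ vv S w := by
  have := vm_normal (S := S)
  exact (mem_normalizer_iff.1 (range_tau_le_normalizer (S := S) w (vm S) hx) v).1 hv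

theorem conj_mem_uv {w x v : Equiv.Perm G} (hx : x ∈ (tau w).range) (hv : v ∈ uv S w) :
    x * v * x⁻¹ ∈ uv S w := by
  have := um_normal (S := S)
  exact (mem_normalizer_iff.1 (range_tau_le_normalizer (S := S) w (um S) hx) v).1 hv

/-- An edge, normalised at its first vertex. -/
def Edge (S : Subgroup G) (w w' : Equiv.Perm G) : Prop :=
  ∃ a ∈ autPerm S, ∃ k : G, w' = w * a * reg k

theorem Step.exists_edge {w w' : Equiv.Perm G} (h : Step S w w') : ∃ x : G, Edge S (w * reg x) w' := by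
  obtain ⟨x, k, a, ha, rfl⟩ := h
  exact ⟨x, a, ha, k, rfl⟩

theorem Edge.step {w w' : Equiv.Perm G} (h : Edge S w w') : Step S w w' := by
  obtain ⟨a, ha, k, rfl⟩ := h
  exact ⟨1, k, a, ha, by simp⟩

theorem Edge.reg_right {w w' : Equiv.Perm G} (h : Edge S w w') (m : G) : Edge S w (w' * reg m) := by
  obtain ⟨a, ha, k, rfl⟩ := h
  exact ⟨a, ha, k * m, by rw [map_mul]; group⟩

theorem map_tau_aut {C : Subgroup G} (hC : AutInv S C) (w : Equiv.Perm G) {a : Equiv.Perm G}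
    (ha : a ∈ autPerm S) : C.map (tau (w * a)) = C.map (tau w) := by
  have e : C.map (tau a) = C.map reg := by
    rw [← mul_one a, map_tau_mul, tau_one, hC.map_conj ha]
  rw [map_tau_mul w a, e, ← tau_one, ← map_tau_mul, mul_one]

/-- The same edge normalised at the other vertex. -/
theorem Edge.flip {w w' : Equiv.Perm G} (h : Edge S w w') :
    ∃ k : G, Edge S (w' * reg k) w ∧
      (zc S).map (tau (w' * reg k)) = (zc S).map (tau w) ∧ S.map (tau (w' * reg k)) = S.map (tau w) := by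
  obtain ⟨a, ha, k, rfl⟩ := h
  refine ⟨k⁻¹, ⟨a⁻¹, inv_mem ha, 1, by simp⟩, ?_, ?_⟩
  · rw [show w * a * reg k * reg k⁻¹ = w * a by simp, map_tau_aut (autInv_zc S) w ha]
  · rw [show w * a * reg k * reg k⁻¹ = w * a by simp, map_tau_aut (autInv_self S) w ha]

theorem Edge.zc_le {w w' : Equiv.Perm G} (h : Edge S w w') : (zc S).map (tau w) ≤ vv S w' := by
  obtain ⟨a, ha, k, rfl⟩ := h
  rw [vv_reg]
  rintro _ ⟨z, hz, rfl⟩
  obtain ⟨z', hz', e⟩ := autInv_zc S _ (inv_mem ha) z hz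
  refine ⟨z', zc_le_vm hz', ?_⟩
  simp only [tau_apply, e]
  group

theorem Edge.vv_le {w w' : Equiv.Perm G} (h : Edge S w w') (hS : vm S ≤ S) :
    vv S w' ≤ (wSub S).map (tau w) := by
  obtain ⟨a, ha, k, rfl⟩ := h
  rw [vv_reg]
  rintro _ ⟨v, hv, rfl⟩
  obtain ⟨s, hs, e⟩ := exists_conj_eq ha (hS hv)
  refine ⟨s, le_iSup (fun b : ↥(autPerm S) => vv S (b : Equiv.Perm G)) ⟨a, ha⟩ ⟨v, hv, e.symm⟩, ?_⟩
  simp only [tau_apply, e]
  group

variable [Finite G] {p : ℕ} [hp : Fact p.Prime] {g : G} {F : Type} [Field F]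
  {φ : G →* Matrix.ProjectiveSpecialLinearGroup (Fin 2) F}
  {Φ : G →* Matrix.SpecialLinearGroup (Fin 2) F} {ψ : G → Fin 2 → F}

local notation "O" => Cfsg.pCore p G

omit hp in
theorem Edge.ov_le {w w' : Equiv.Perm G} (h : Edge S w w') (hS : O ≤ S) :
    ov p w' ≤ S.map (tau w) := by
  obtain ⟨a, ha, k, rfl⟩ := h
  rw [ov_reg]
  rintro _ ⟨o, ho, rfl⟩
  obtain ⟨s, hs, e⟩ := exists_conj_eq ha (hS ho)
  refine ⟨s, hs, ?_⟩
  simp only [tau_apply, e]
  group

theorem Data.uv_le (h : Data p S g φ Φ ψ) {v : Equiv.Perm G} {X : Subgroup (Equiv.Perm G)}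
    (hX : ∀ ν, Step S v ν → vv S ν ≤ X) : uv S v ≤ X := by
  rw [show uv S v = uv S (v * 1) by rw [mul_one], uv_mul, map_le_iff_le_comap]
  rw [show uv S (1 : Equiv.Perm G) = (um S).map reg by rw [uv, tau_one]]
  refine h.um_le fun w hw => ?_
  rw [← map_le_iff_le_comap, ← vv_mul]
  exact hX _ (by simpa using hw.mul_left v)

theorem Data.vm_le_um (h : Data p S g φ Φ ψ) : vm S ≤ um S :=
  h.vm_le_wSub.trans subset_normalClosure

theorem Data.vv_le_uv_self (h : Data p S g φ Φ ψ) (w : Equiv.Perm G) : vv S w ≤ uv S w :=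
  Subgroup.map_mono h.vm_le_um

/-- `[U, O] ≤ V`. -/
theorem Data.comm_um_core (h : Data p S g φ Φ ψ) {o u : G} (ho : o ∈ O) (hu : u ∈ um S) :
    ⁅o, u⁆ ∈ vm S := by
  have hV := vm_normal (S := S)
  have hn := FittingCores.pCore_normal (G := G) p
  let Y : Subgroup G :=
    { carrier := {u | ∀ o ∈ O, ⁅o, u⁆ ∈ vm S}
      one_mem' := fun o _ => by
        rw [show ⁅o, (1 : G)⁆ = 1 by rw [commutatorElement_def]; group]
        exact one_mem _
      mul_mem' := fun {a b} ha hb o ho => by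
        rw [show ⁅o, a * b⁆ = ⁅o, a⁆ * (a * ⁅o, b⁆ * a⁻¹) by
          rw [commutatorElement_def, commutatorElement_def, commutatorElement_def]; group]
        exact mul_mem (ha o ho) (hV.conj_mem _ (hb o ho) a)
      inv_mem' := fun {a} ha o ho => by
        rw [show ⁅o, a⁻¹⁆ = a⁻¹ * ⁅o, a⁆⁻¹ * a⁻¹⁻¹ by
          rw [commutatorElement_def, commutatorElement_def]; group]
        exact hV.conj_mem _ (inv_mem (ha o ho)) _ }
  have hY : Y.Normal := ⟨fun u hu k o ho => by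
    rw [show ⁅o, k * u * k⁻¹⁆ = k * ⁅k⁻¹ * o * k, u⁆ * k⁻¹ by
      rw [commutatorElement_def, commutatorElement_def]; group]
    exact hV.conj_mem _ (hu _ (by simpa using hn.conj_mem o ho k⁻¹)) k⟩
  exact (normalClosure_le_normal (N := Y) fun w hw o' ho' =>
    zc_le_vm (h.comm_wSub_S hw (h.hyp.frame.sit.core_le ho'))) hu o ho

theorem Data.um_le_core (h : Data p S g φ Φ ψ) {b : ℕ} (hb : Small p S b) (h2 : 2 ≤ b) :
    um S ≤ O := by
  have := h.um_le (X := (O).map reg) fun w hw => by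
    have := hb 1 w 1 h2 (Near.one hw).symm
    rwa [ov, tau_one] at this
  exact (map_le_map_iff_of_injective reg_inj).1 this

theorem Data.layer_mem_iff (h : Data p S g φ Φ ψ) {T : Subgroup G} {χ : G → Fin 2 → F}
    (L : Layer Φ (um S) T χ) (hVT : vm S ≤ T) (hTV : ⁅T, (⊤ : Subgroup G)⁆ ≤ vm S) (u : G) :
    u ∈ T ↔ u ∈ um S ∧ ∀ k : G, ⁅k, u⁆ ∈ vm S := by
  refine ⟨fun hu => ⟨L.le hu, fun k => ?_⟩, fun ⟨hu, hk⟩ => (L.ker u hu).1 ?_⟩
  · rw [← commutatorElement_inv]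
    exact inv_mem (hTV (commutator_mem_commutator hu (mem_top k)))
  · refine h.hyp.frame.fixed_eq_zero h.lifts fun k => sub_eq_zero.1 ?_
    rw [← L.map_comm k hu]
    exact (L.ker _ (L.comm_mem k hu)).2 (hVT (hk k))

/-- The module `U / T` seen from a critical pair `(w, v)` with `w₁` next to `w`. -/
theorem Data.crit_layer (h : Data p S g φ Φ ψ) {b : ℕ} (hb : Small p S b) (h2 : 2 ≤ b)
    {w w₁ v : Equiv.Perm G} (hs : Step S w w₁) (hn : Near S (b - 1) w₁ v) (hc : ¬ vv S w ≤ ov p v) :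
    ∃ (T : Subgroup G) (χ : G → Fin 2 → F), Layer Φ (um S) T χ ∧ vm S ≤ T ∧
      ⁅T, (⊤ : Subgroup G)⁆ ≤ vm S ∧ T.map (tau v) ≤ ov p w₁ ∧ ¬ uv S v ≤ ov p w₁ := by
  have hF := h.hyp.frame
  have := hF.finite
  have hOn := FittingCores.pCore_normal (G := G) p
  have hVn := vm_normal (S := S)
  have hUn := um_normal (S := S)
  have hUO := h.um_le_core hb h2
  have hwv : Near S b w v := (Near.cons hs hn).mono (by omega)
  have h1 := h.vv_le_range hb le_rfl hwv
  obtain ⟨x, hx⟩ := hF.exists_conj_le (h.pull h1).1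
  obtain ⟨v', hv'⟩ : ∃ v', v' = v * reg x := ⟨_, rfl⟩
  have hvv : vv S v' = vv S v := by rw [hv', vv_reg]
  have hov : (ov p v' : Subgroup (Equiv.Perm G)) = ov p v := by rw [hv', ov_reg]
  have huv : uv S v' = uv S v := by rw [hv', uv_reg]
  have hwv' : Near S b w v' := by
    obtain ⟨m, rfl⟩ : ∃ m, b = m + 1 := ⟨b - 1, by omega⟩
    obtain ⟨u, hu, hu'⟩ := hwv.last
    exact hv' ▸ hu.snoc (hu'.reg_right x)
  have h1' := h.vv_le_range hb le_rfl hwv'
  have h3 := h.vv_le_range hb le_rfl hwv'.symm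
  have hc' : ¬ vv S w ≤ ov p v' := hov.symm ▸ hc
  set A₀ := (vv S w).comap (tau v') with hA₀
  have hA₀S : A₀ ≤ S := fun a ha => by
    have ha' : tau v (x * a * x⁻¹) ∈ vv S w := by rw [← tau_mul_reg, ← hv']; exact ha
    have := hx (x * a * x⁻¹) ha'
    rwa [show x⁻¹ * (x * a * x⁻¹) * x = a by group] at this
  have hA₀q : Nat.card F * Nat.card ↥(A₀ ⊓ O) ≤ Nat.card ↥A₀ := (h.crit_pull h1' hc' h3).2.ge
  have hcov : ∀ s ∈ S, ∃ a ∈ A₀, a⁻¹ * s ∈ O := fun s hs' => by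
    obtain ⟨a, ha, ha'⟩ := hF.cover hF.sit.pgroup hA₀S hA₀q hs'
    exact ⟨a, ha, ha'.2⟩
  set X := um S ⊓ (ov p w₁).comap (tau v') with hX
  have hXmap : X.map (tau v') = uv S v ⊓ ov p w₁ := by rw [hX, map_inf_comap', ← huv]; rfl
  have hw₁v : Near S (b - 1) v w₁ := hn.symm
  have hUr : uv S v ≤ (tau w₁).range := h.uv_le fun ν hν =>
    h.vv_le_range hb (by omega : b - 1 + 1 ≤ b) (Near.cons hν.symm hw₁v)
  have hV1 : vv S v ≤ ov p w₁ := hb _ _ _ (by omega) hw₁v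
  have hVX : vm S ≤ X := fun u hu => ⟨h.vm_le_um hu, hV1 (hvv ▸ mem_map_of_mem _ hu)⟩
  have hcard : Nat.card ↥(um S) ≤ Nat.card F * Nat.card ↥X := by
    set Q := (uv S v).comap (tau w₁) with hQ
    have eQ : Q.map (tau w₁) = uv S v := map_comap_eq_self hUr
    have hQp : IsPGroup p ↥Q :=
      ((hF.sit.pgroup.to_le (hUO.trans hF.sit.core_le)).map (tau v)).comap_of_injective _ (tau_inj w₁)
    have c1 : Nat.card ↥Q = Nat.card ↥(um S) := by
      rw [← card_map_of_injective (tau_inj v) (K := um S), ← card_map_of_injective (tau_inj w₁) (K := Q),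
        eQ]
      rfl
    have c2 : Nat.card ↥(Q ⊓ O) = Nat.card ↥X := by
      rw [← card_map_of_injective (tau_inj w₁), ← card_map_of_injective (tau_inj v') (K := X), hXmap,
        inf_comm Q, hQ, map_inf_comap', inf_comm]
      rfl
    rw [← c1, ← c2]
    exact hF.card_le hQp
  have hXS : ⁅X, S⁆ ≤ vm S := by
    have key : ∀ a ∈ A₀, ∀ u ∈ X, ⁅a, u⁆ ∈ vm S := by
      intro a ha u hu
      set B := (uv S v ⊓ ov p w₁).comap (tau w) with hB
      have hBp : IsPGroup p ↥B :=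
        (((hF.sit.pgroup.to_le (hUO.trans hF.sit.core_le)).map (tau v)).to_le inf_le_left
          : IsPGroup p ↥(uv S v ⊓ ov p w₁)).comap_of_injective _ (tau_inj w)
      have hAB : (vv S v').comap (tau w) ≤ B := comap_mono (le_inf
        (hvv.le.trans (h.vv_le_uv_self v)) (hvv.le.trans hV1))
      have hmem : tau v' u ∈ uv S v ⊓ ov p w₁ := hXmap.le (mem_map_of_mem _ hu)
      obtain ⟨u', hu'⟩ := ov_le_range_of_step hF.sit.core_le hs.symm hmem.2
      obtain ⟨c, hc1, hc2⟩ := hF.cover hBp hAB (h.crit_pull h3 (h.crit_symm h1' hc') h1').2.ge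
        (show u' ∈ B from show tau w u' ∈ uv S v ⊓ ov p w₁ from hu'.symm ▸ hmem)
      obtain ⟨v₀, hv₀, hv₀'⟩ : ∃ v₀ ∈ vm S, tau v' v₀ = tau w c := hc1
      have hy : tau v' (v₀⁻¹ * u) = tau w (c⁻¹ * u') := by
        rw [map_mul, map_mul, map_inv, map_inv, hu', hv₀']
      have hcomm : a * (v₀⁻¹ * u) = v₀⁻¹ * u * a := by
        apply tau_inj v'
        rw [map_mul (tau v') a, map_mul (tau v') (v₀⁻¹ * u) a, hy]
        exact (h.commute_ov (mem_map_of_mem _ hc2.2) ha).symm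
      have e : ⁅a, u⁆ = ⁅a, v₀⁆ := by
        rw [commutatorElement_def, commutatorElement_def]
        calc a * u * a⁻¹ * u⁻¹ = a * v₀ * (v₀⁻¹ * u) * a⁻¹ * u⁻¹ := by group
          _ = a * v₀ * (a⁻¹ * (a * (v₀⁻¹ * u))) * a⁻¹ * u⁻¹ := by group
          _ = a * v₀ * (a⁻¹ * (v₀⁻¹ * u * a)) * a⁻¹ * u⁻¹ := by rw [hcomm]
          _ = _ := by group
      rw [e]
      exact h.layer.comm_mem a hv₀
    refine commutator_le.2 fun u hu s hs' => ?_
    obtain ⟨a, ha, ho⟩ := hcov s hs'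
    rw [← commutatorElement_inv]
    refine inv_mem ?_
    rw [show ⁅s, u⁆ = a * ⁅a⁻¹ * s, u⁆ * a⁻¹ * ⁅a, u⁆ by
      rw [commutatorElement_def, commutatorElement_def, commutatorElement_def]; group]
    exact mul_mem (hVn.conj_mem _ (h.comm_um_core ho hu.1) a) (key a ha u hu)
  have hUS : ⁅um S, S⁆ ≤ X := by
    refine commutator_le.2 fun u hu s hs' => ?_
    obtain ⟨a, ha, ho⟩ := hcov s hs'
    rw [← commutatorElement_inv]
    refine inv_mem ?_
    rw [show ⁅s, u⁆ = a * ⁅a⁻¹ * s, u⁆ * a⁻¹ * ⁅a, u⁆ by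
      rw [commutatorElement_def, commutatorElement_def, commutatorElement_def]; group]
    refine mul_mem (hVX (hVn.conj_mem _ (h.comm_um_core ho hu) a)) ⟨?_, ?_⟩
    · rw [commutatorElement_def]
      exact (um S).mul_mem (hUn.conj_mem u hu a) ((um S).inv_mem hu)
    · show tau v' ⁅a, u⁆ ∈ ov p w₁
      have huw : tau v' u ∈ (tau w₁).range := hUr (huv ▸ mem_map_of_mem _ hu)
      have haU : tau v' a ∈ uv S w₁ := h.vv_le_uv hs.symm ha
      have hUov : uv S w₁ ≤ ov p w₁ := Subgroup.map_mono hUO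
      rw [map_commutatorElement, commutatorElement_def]
      have := conj_mem_uv huw (inv_mem haU)
      refine hUov ?_
      rw [show tau v' a * tau v' u * (tau v' a)⁻¹ * (tau v' u)⁻¹ =
        tau v' a * (tau v' u * (tau v' a)⁻¹ * (tau v' u)⁻¹) by group]
      exact mul_mem haU this
  have hker : ∀ H : Subgroup G, ⁅um S, H⁆ ≤ vm S → H ⊔ S ≠ ⊤ := by
    intro H hH htop
    have hWV : vm S ≤ wSub S := h.vm_le_wSub
    have hWn : (wSub S).Normal := by
      refine normalizer_eq_top_iff.1 (eq_top_iff.2 (htop ▸ sup_le ?_ ?_))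
      · refine le_normalizer_of_conj_mem fun k hk w' hw' => ?_
        rw [show k * w' * k⁻¹ = ⁅w', k⁆⁻¹ * w' by rw [commutatorElement_def]; group]
        exact mul_mem (inv_mem (hWV (hH (commutator_mem_commutator (subset_normalClosure hw') hk)))) hw'
      · refine le_normalizer_of_conj_mem fun k hk w' hw' => ?_
        rw [show k * w' * k⁻¹ = ⁅k, w'⁆ * w' by rw [commutatorElement_def]; group]
        exact mul_mem (hWV (zc_le_vm (h.comm_wSub_S hw' hk))) hw'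
    have h0 := h.hyp.nochar _ h.wSub_le hWn h.autInv_wSub
    exact h.hyp.zc_ne_bot (le_bot_iff.1 ((zc_le_vm.trans hWV).trans h0.le))
  obtain ⟨Φ', hΦ', T, χ, L, hVT, hTX, hTV, hXl⟩ := exists_layer hF (um S) (vm S) X hVX inf_le_left
    ((commutator_mono le_rfl hUO).trans (commutator_le.2 fun u hu o ho => by
      rw [← commutatorElement_inv]; exact inv_mem (h.comm_um_core ho hu)))
    (commutator_le.2 fun u hu o ho => by
      rw [← commutatorElement_inv]; exact inv_mem (h.comm_um_core ho hu))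
    hXS hUS hcard hker
  obtain rfl := h.lifts.unique hF hΦ'
  refine ⟨T, χ, L, hVT, hTV, ?_, fun hle => ?_⟩
  · have : T.Normal := L.normalT
    rw [← map_tau_reg v x T, ← hv']
    exact (Subgroup.map_mono hTX).trans (hXmap.le.trans inf_le_right)
  · obtain ⟨u, hu, e⟩ := L.surj ![0, 1]
    have := (hXl u hu).1 ⟨hu, hle (huv ▸ mem_map_of_mem _ hu)⟩
    rw [e] at this
    simp at this

/-- The situation at distance at least two. -/
structure Deep (p : ℕ) (S : Subgroup G) (g : G) {F : Type} [Field F]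
    (φ : G →* Matrix.ProjectiveSpecialLinearGroup (Fin 2) F)
    (Φ : G →* Matrix.SpecialLinearGroup (Fin 2) F) (ψ : G → Fin 2 → F) (b : ℕ) (T : Subgroup G)
    (χ : G → Fin 2 → F) : Prop where
  data : Data p S g φ Φ ψ
  small : Small p S b
  two_le : 2 ≤ b
  layer : Layer Φ (um S) T χ
  vm_le : vm S ≤ T
  comm : ⁅T, (⊤ : Subgroup G)⁆ ≤ vm S
  tov : ∀ w w₁ v : Equiv.Perm G, Step S w w₁ → Near S (b - 1) w₁ v → ¬ vv S w ≤ ov p v →
    T.map (tau v) ≤ ov p w₁ ∧ ¬ uv S v ≤ ov p w₁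

theorem Data.exists_deep (h : Data p S g φ Φ ψ) {b : ℕ} (hb : Small p S b) (h2 : 2 ≤ b)
    (hc : ∃ w v, Near S b w v ∧ ¬ vv S w ≤ ov p v) : ∃ T χ, Deep p S g φ Φ ψ b T χ := by
  obtain ⟨w, v, hn, hcr⟩ := hc
  obtain ⟨m, rfl⟩ : ∃ m, b = m + 1 := ⟨b - 1, by omega⟩
  obtain ⟨w₁, hs, hn'⟩ := hn.head
  obtain ⟨T, χ, L, hVT, hTV, -, -⟩ := h.crit_layer hb h2 hs hn' hcr
  refine ⟨T, χ, h, hb, h2, L, hVT, hTV, fun u u₁ z hs' hn'' hc' => ?_⟩
  obtain ⟨T', χ', L', hVT', hTV', a, b'⟩ := h.crit_layer hb h2 hs' hn'' hc'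
  have e : T = T' := by
    ext x
    rw [h.layer_mem_iff L hVT hTV, h.layer_mem_iff L' hVT' hTV']
  exact ⟨e ▸ a, b'⟩

end Cfsg.Agent.PushUp2
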