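/-
Rank-one pushing up, part 7: critical paths, kernels and hypercentral sections.
-/
import Cfsg.Agent.Lib.PushUp2.Crit

set_option autoImplicit false

namespace Cfsg.Agent.PushUp2

open Subgroup PushUp Matrix
open scoped commutatorElement

variable {G : Type*} [Group G] [Finite G] {p : ℕ} [hp : Fact p.Prime] {S : Subgroup G} {g : G}
  {F : Type} [Field F] {φ : G →* Matrix.ProjectiveSpecialLinearGroup (Fin 2) F}
  {Φ : G →* Matrix.SpecialLinearGroup (Fin 2) F} {ψ : G → Fin 2 → F}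
  {b : ℕ} {T : Subgroup G} {χ : G → Fin 2 → F}

local notation "O" => Cfsg.pCore p G

/-- An element of order prime to `p` which moves a `p`-element by a fixed one centralises it. -/
theorem commute_of_fixed {Q : Subgroup G} (hQ : IsPGroup p ↥Q) {c t : G} {k : ℕ}
    (hk : ¬ p ∣ k) (hck : c ^ k = 1) (hmem : ⁅c, t⁆ ∈ Q) (hfix : c * ⁅c, t⁆ = ⁅c, t⁆ * c) :
    c * t = t * c := by
  set v := ⁅c, t⁆ with hv
  have key : ∀ n : ℕ, c ^ n * t * (c ^ n)⁻¹ = v ^ n * t := by
    intro n
    induction n with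
    | zero => simp
    | succ n ih =>
      have e : c * t * c⁻¹ = v * t := by rw [hv, commutatorElement_def]; group
      have e2 : c ^ n * v = v * c ^ n := (Commute.pow_left (hfix : Commute c v) n).eq
      rw [pow_succ c n, _root_.mul_inv_rev]
      calc c ^ n * c * t * (c⁻¹ * (c ^ n)⁻¹) = c ^ n * (c * t * c⁻¹) * (c ^ n)⁻¹ := by group
        _ = c ^ n * v * t * (c ^ n)⁻¹ := by rw [e]; group
        _ = v * (c ^ n * t * (c ^ n)⁻¹) := by rw [e2]; group
        _ = _ := by rw [ih, pow_succ', mul_assoc]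
  have hvk : v ^ k = 1 := by
    have := key k
    rw [hck] at this
    simpa using this.symm
  obtain ⟨n, hn⟩ := IsPGroup.iff_orderOf.1 hQ ⟨v, hmem⟩
  rw [Subgroup.orderOf_mk] at hn
  have hcop : Nat.Coprime (p ^ n) k := ((hp.out.coprime_iff_not_dvd).2 hk).pow_left n
  have hv1 : v = 1 := by
    rw [← orderOf_eq_one_iff]
    exact Nat.eq_one_of_dvd_coprimes hcop (hn ▸ dvd_rfl) (orderOf_dvd_of_pow_eq_one hvk)
  rw [hv, commutatorElement_eq_one_iff_mul_comm] at hv1
  exact hv1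

/-- Powers of `p` and numbers prime to `p` generate. -/
theorem mem_of_split {H : Subgroup G} {c : G}
    (h1 : ∀ d ∈ zpowers c, (∃ n, d ^ p ^ n = 1) → d ∈ H)
    (h2 : ∀ d ∈ zpowers c, (∃ k, ¬ p ∣ k ∧ d ^ k = 1) → d ∈ H) : c ∈ H := by
  obtain ⟨n, m, hm, e⟩ := Nat.exists_eq_pow_mul_and_not_dvd
    (orderOf_pos c).ne' p hp.out.ne_one
  have a1 : c ^ m ∈ H := h1 _ (pow_mem (mem_zpowers c) m) ⟨n, by
    rw [← pow_mul, mul_comm, ← e, pow_orderOf_eq_one]⟩
  have a2 : c ^ p ^ n ∈ H := h2 _ (pow_mem (mem_zpowers c) _) ⟨m, hm, by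
    rw [← pow_mul, ← e, pow_orderOf_eq_one]⟩
  have hcop : Nat.Coprime m (p ^ n) := (((hp.out.coprime_iff_not_dvd).2 hm).pow_left n).symm
  have e2 : c = (c ^ m) ^ (Nat.gcdA m (p ^ n)) * (c ^ p ^ n) ^ (Nat.gcdB m (p ^ n)) := by
    rw [← zpow_natCast, ← zpow_natCast, ← _root_.zpow_mul, ← _root_.zpow_mul, ← _root_.zpow_add,
      ← Nat.gcd_eq_gcd_ab, hcop.gcd_eq_one, Nat.cast_one, zpow_one]
  rw [e2]
  exact mul_mem (zpow_mem a1 _) (zpow_mem a2 _)

/-- The `p`-elements of the kernel lie in the core. -/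
theorem Lifts.mem_core_of_pow (h : Frame p S g φ) (hΦ : Lifts S g φ Φ) {c : G} (hc : c ∈ Φ.ker)
    {n : ℕ} (hn : c ^ p ^ n = 1) : c ∈ O := by
  have hOn := FittingCores.pCore_normal (G := G) p
  have hQ : IsPGroup p ↥(zpowers c) := fun ⟨d, hd⟩ => by
    obtain ⟨i, rfl⟩ := mem_zpowers_iff.1 hd
    refine ⟨n, Subtype.ext ?_⟩
    show (c ^ i) ^ p ^ n = 1
    rw [← zpow_natCast, ← _root_.zpow_mul, mul_comm, _root_.zpow_mul, zpow_natCast, hn, _root_.one_zpow]
  obtain ⟨x, hx⟩ := h.exists_conj_le hQ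
  have : x⁻¹ * c * x ∈ O := (hΦ.mem_core_iff h (hx c (mem_zpowers c))).2 (by
    rw [map_mul, map_mul, MonoidHom.mem_ker.1 hc, map_inv]; simp)
  simpa [mul_assoc] using hOn.conj_mem _ this x

/-- A group acting trivially modulo a normal subgroup on the core, hypercentrally. -/
theorem Frame.hypercentral_step (h : Frame p S g φ) {A B : Subgroup G} [hB : B.Normal] (hBO : B ≤ O)
    (hcov : ∀ s ∈ S, ∃ a ∈ A, a⁻¹ * s ∈ O) (hAB : ∀ a ∈ A, ∀ o ∈ O, ⁅a, o⁆ ∈ B) (k : ℕ) :
    ⁅B ⊔ (O).lowerCentralSeries k, (⊤ : Subgroup G)⁆ ≤ B ⊔ (O).lowerCentralSeries (k + 1) := by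
  have hOn := FittingCores.pCore_normal (G := G) p
  have hLn : ∀ i, ((O).lowerCentralSeries i).Normal := by
    intro i
    induction i with
    | zero => exact hOn
    | succ i ih => rw [Subgroup.lowerCentralSeries_succ]; infer_instance
  have hLO : (O).lowerCentralSeries k ≤ O := by
    induction k with
    | zero => exact le_rfl
    | succ k ih => rw [Subgroup.lowerCentralSeries_succ]; exact commutator_le_right _ _
  have := hLn k
  have := hLn (k + 1)
  set D := B ⊔ (O).lowerCentralSeries k with hD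
  set A' := B ⊔ (O).lowerCentralSeries (k + 1) with hA'
  have hA'n : A'.Normal := inferInstance
  have hDn : D.Normal := inferInstance
  let N : Subgroup G :=
    { carrier := {x | ∀ d ∈ D, ⁅x, d⁆ ∈ A'}
      one_mem' := fun d _ => by
        rw [show ⁅(1 : G), d⁆ = 1 by rw [commutatorElement_def]; group]
        exact one_mem _
      mul_mem' := fun {x y} hx hy d hd => by
        rw [show ⁅x * y, d⁆ = x * ⁅y, d⁆ * x⁻¹ * ⁅x, d⁆ by
          rw [commutatorElement_def, commutatorElement_def, commutatorElement_def]; group]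
        exact mul_mem (hA'n.conj_mem _ (hy d hd) x) (hx d hd)
      inv_mem' := fun {x} hx d hd => by
        rw [show ⁅x⁻¹, d⁆ = x⁻¹ * ⁅x, d⁆⁻¹ * x⁻¹⁻¹ by
          rw [commutatorElement_def, commutatorElement_def]; group]
        exact hA'n.conj_mem _ (inv_mem (hx d hd)) _ }
  have hNn : N.Normal := ⟨fun x hx y d hd => by
    rw [show ⁅y * x * y⁻¹, d⁆ = y * ⁅x, y⁻¹ * d * y⁆ * y⁻¹ by
      rw [commutatorElement_def, commutatorElement_def]; group]
    exact hA'n.conj_mem _ (hx _ (by simpa using hDn.conj_mem d hd y⁻¹)) y⟩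
  have hON : O ≤ N := fun o ho d hd => by
    obtain ⟨c, hc, l, hl, rfl⟩ := mem_sup_of_normal_left.1 hd
    rw [show ⁅o, c * l⁆ = o * c * o⁻¹ * c⁻¹ * (c * ⁅o, l⁆ * c⁻¹) by
      rw [commutatorElement_def, commutatorElement_def]; group]
    refine mul_mem (mem_sup_left (mul_mem (hB.conj_mem c hc o) (inv_mem hc)))
      (hA'n.conj_mem _ (mem_sup_right ?_) c)
    rw [Subgroup.lowerCentralSeries_succ, ← commutatorElement_inv]
    exact inv_mem (commutator_mem_commutator hl ho)
  have hSN : S ≤ N := fun s hs => by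
    obtain ⟨a, ha, ho⟩ := hcov s hs
    rw [show s = a * (a⁻¹ * s) by group]
    exact mul_mem (fun d hd => mem_sup_left (hAB a ha d ((sup_le hBO hLO) hd))) (hON ho)
  have hN : N = ⊤ := h.gen hSN (by
    rintro _ ⟨s, hs, rfl⟩
    exact hNn.conj_mem s (hSN hs) g)
  refine commutator_le.2 fun d hd x _ => ?_
  rw [← commutatorElement_inv]
  exact inv_mem ((hN.ge (mem_top x) : x ∈ N) d hd)

/-- Descending induction along the hypercentral series. -/
theorem Frame.hypercentral_induction (h : Frame p S g φ) {A B : Subgroup G} [B.Normal] (hBO : B ≤ O)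
    (hcov : ∀ s ∈ S, ∃ a ∈ A, a⁻¹ * s ∈ O) (hAB : ∀ a ∈ A, ∀ o ∈ O, ⁅a, o⁆ ∈ B)
    (P : Subgroup G → Prop) (hbase : P B)
    (hstep : ∀ D D' : Subgroup G, D.Normal → D'.Normal → B ≤ D' → D' ≤ D → D ≤ O →
      ⁅D, (⊤ : Subgroup G)⁆ ≤ D' → P D' → P D) : P (O) := by
  have hOn := FittingCores.pCore_normal (G := G) p
  have := (PBasic.pCore_isPGroup p G).isNilpotent
  obtain ⟨n, hn⟩ := (Subgroup.isNilpotent_iff_lowerCentralSeries (O)).1 this
  have hLn : ∀ i, ((O).lowerCentralSeries i).Normal := by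
    intro i
    induction i with
    | zero => exact hOn
    | succ i ih => rw [Subgroup.lowerCentralSeries_succ]; infer_instance
  have hLO : ∀ i, (O).lowerCentralSeries i ≤ O := by
    intro i
    induction i with
    | zero => exact le_rfl
    | succ i ih => rw [Subgroup.lowerCentralSeries_succ]; exact commutator_le_right _ _
  suffices ∀ j i, i + j = n → P (B ⊔ (O).lowerCentralSeries i) by
    have h0 := this n 0 (zero_add n)
    rwa [show B ⊔ (O).lowerCentralSeries 0 = O from sup_eq_right.2 hBO] at h0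
  intro j
  induction j with
  | zero =>
    intro i hi
    obtain rfl : i = n := by omega
    rwa [hn, sup_bot_eq]
  | succ j ih =>
    intro i hi
    have := hLn i
    have := hLn (i + 1)
    exact hstep _ _ inferInstance inferInstance le_sup_left
      (sup_le_sup_left (by
        rw [Subgroup.lowerCentralSeries_succ]; exact commutator_le_left _ _) _)
      (sup_le hBO (hLO i)) (h.hypercentral_step hBO hcov hAB i) (ih (i + 1) (by omega))

theorem Frame.exists_iterCommutator_le (h : Frame p S g φ) {A B : Subgroup G} [B.Normal] (hBO : B ≤ O)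
    (hcov : ∀ s ∈ S, ∃ a ∈ A, a⁻¹ * s ∈ O) (hAB : ∀ a ∈ A, ∀ o ∈ O, ⁅a, o⁆ ∈ B) :
    ∃ k : ℕ, Cfsg.iterCommutator (O) ⊤ k ≤ B := by
  suffices ∀ k, Cfsg.iterCommutator (O) ⊤ k ≤ B ⊔ (O).lowerCentralSeries k by
    have hnil := (PBasic.pCore_isPGroup p G).isNilpotent
    obtain ⟨n, hn⟩ := (Subgroup.isNilpotent_iff_lowerCentralSeries (O)).1 hnil
    exact ⟨n, (this n).trans (by rw [hn, sup_bot_eq])⟩
  intro k
  induction k with
  | zero => exact le_sup_right
  | succ k ih => exact (commutator_mono ih le_rfl).trans (h.hypercentral_step hBO hcov hAB k)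

theorem Deep.um_le_core (hd : Deep p S g φ Φ ψ b T χ) : um S ≤ O :=
  hd.data.um_le_core hd.small hd.two_le

/-- The elements of the kernel prime to `p` centralise `U`. -/
theorem Deep.cent_um (hd : Deep p S g φ Φ ψ b T χ) {c : G} (hc : c ∈ Φ.ker) {k : ℕ} (hk : ¬ p ∣ k)
    (hck : c ^ k = 1) : c ∈ centralizer (um S : Set G) := by
  have hO : IsPGroup p ↥(O) := PBasic.pCore_isPGroup p G
  have hV : ∀ v ∈ vm S, c * v = v * c := by
    intro v hv
    have hm : ⁅c, v⁆ ∈ vm S ⊓ center G := (hd.data.layer.ker _ (hd.data.layer.comm_mem c hv)).1 (by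
      rw [hd.data.layer.map_comm c hv, MonoidHom.mem_ker.1 hc]; simp)
    exact commute_of_fixed hO hk hck (hd.data.hyp.vm_le_core hm.1) (mem_center_iff.1 hm.2 c)
  have hT : ∀ t ∈ T, c * t = t * c := by
    intro t ht
    have hm : ⁅c, t⁆ ∈ vm S := by
      rw [← commutatorElement_inv]
      exact inv_mem (hd.comm (commutator_mem_commutator ht (mem_top c)))
    exact commute_of_fixed hO hk hck (hd.data.hyp.vm_le_core hm) (hV _ hm)
  rw [mem_centralizer_iff]
  intro u hu
  have hm : ⁅c, u⁆ ∈ T := (hd.layer.ker _ (hd.layer.comm_mem c hu)).1 (by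
    rw [hd.layer.map_comm c hu, MonoidHom.mem_ker.1 hc]; simp)
  exact (commute_of_fixed hO hk hck (hd.um_le_core (hd.layer.le hm)) (hT _ hm)).symm

theorem Deep.ker_le (hd : Deep p S g φ Φ ψ b T χ) :
    Φ.ker ≤ O ⊔ centralizer (um S : Set G) := fun c hc =>
  mem_of_split (fun d hd' ⟨n, hn⟩ => mem_sup_left
      (hd.data.lifts.mem_core_of_pow hd.data.hyp.frame (zpowers_le.2 hc hd') hn))
    (fun d hd' ⟨k, hk, hdk⟩ => mem_sup_right (hd.cent_um (zpowers_le.2 hc hd') hk hdk))

/-- The kernel normalises the modules of the neighbours. -/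
theorem Deep.ker_normalizer (hd : Deep p S g φ Φ ψ b T χ) {w w' : Equiv.Perm G} (hs : Step S w w')
    {c : G} (hc : c ∈ Φ.ker) :
    tau w c ∈ normalizer ((vv S w' : Subgroup (Equiv.Perm G)) : Set (Equiv.Perm G)) := by
  refine (?_ : O ⊔ centralizer (um S : Set G) ≤
    (normalizer ((vv S w' : Subgroup (Equiv.Perm G)) : Set (Equiv.Perm G))).comap (tau w)) (hd.ker_le hc)
  refine sup_le (fun o ho => ?_) fun d hd' => ?_
  · have := vm_normal (S := S)
    exact range_tau_le_normalizer (S := S) w' (vm S)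
      (ov_le_range_of_step hd.data.hyp.frame.sit.core_le hs (mem_map_of_mem _ ho))
  · refine centralizer_le_normalizer _ (mem_centralizer_iff.2 fun x hx => ?_)
    obtain ⟨u, hu, rfl⟩ := hd.data.vv_le_uv hs hx
    rw [← map_mul, ← map_mul, mem_centralizer_iff.1 hd' u hu]

/-- A path all of whose windows of length `b` are critical. -/
structure Path (p : ℕ) (S : Subgroup G) (b : ℕ) (f : ℕ → Equiv.Perm G) : Prop where
  step : ∀ i, Step S (f i) (f (i + 1))
  crit : ∀ i, ¬ vv S (f i) ≤ ov p (f (i + b))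

omit [Finite G] hp in
theorem near_of_steps {f : ℕ → Equiv.Perm G} (hs : ∀ i, Step S (f i) (f (i + 1))) (i m : ℕ) :
    Near S m (f i) (f (i + m)) := by
  induction m with
  | zero => exact Near.zero _
  | succ m ih => exact ih.snoc (hs (i + m))

section path

variable {f : ℕ → Equiv.Perm G}

theorem Path.near' (hf : Path p S b f) (i j m : ℕ) (h : i ≤ j + m) (h' : j ≤ i + m) :
    Near S m (f i) (f j) := by
  rcases le_total i j with hij | hij
  · obtain ⟨d, rfl⟩ := Nat.exists_eq_add_of_le hij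
    exact (near_of_steps hf.step i d).mono (by omega)
  · obtain ⟨d, rfl⟩ := Nat.exists_eq_add_of_le hij
    exact (near_of_steps hf.step j d).symm.mono (by omega)

theorem Path.small (hd : Deep p S g φ Φ ψ b T χ) (hf : Path p S b f) (i j : ℕ) (h : i < j + b)
    (h' : j < i + b) : vv S (f i) ≤ ov p (f j) :=
  hd.small (b - 1) _ _ (by have := hd.two_le; omega) (hf.near' i j _ (by omega) (by omega))

theorem Path.range (hd : Deep p S g φ Φ ψ b T χ) (hf : Path p S b f) (i j : ℕ) (h : i ≤ j + b)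
    (h' : j ≤ i + b) : vv S (f i) ≤ (tau (f j)).range :=
  hd.data.vv_le_range hd.small le_rfl (hf.near' i j b h h')

theorem Path.crit' (hd : Deep p S g φ Φ ψ b T χ) (hf : Path p S b f) (i j : ℕ)
    (h : j = i + b ∨ i = j + b) : ¬ vv S (f i) ≤ ov p (f j) := by
  rcases h with rfl | rfl
  · exact hf.crit i
  · exact hd.data.crit_symm (hf.range hd j (j + b) (by omega) le_rfl) (hf.crit j)

theorem Path.tov (hd : Deep p S g φ Φ ψ b T χ) (hf : Path p S b f) (i j : ℕ)
    (h : j + 1 = i + b ∨ (i + 1 = j + b ∧ 1 ≤ j)) : T.map (tau (f i)) ≤ ov p (f j) := by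
  have := hd.two_le
  rcases h with h | ⟨h, hj⟩
  · exact (hd.tov (f (j + 1)) (f j) (f i) (hf.step j).symm (hf.near' j i _ (by omega) (by omega))
      (hf.crit' hd _ _ (by omega))).1
  · obtain ⟨j', rfl⟩ : ∃ j', j = j' + 1 := ⟨j - 1, by omega⟩
    exact (hd.tov (f j') (f (j' + 1)) (f i) (hf.step j') (hf.near' _ i _ (by omega) (by omega))
      (hf.crit' hd _ _ (by omega))).1

/-- Neighbours on the path are good. -/
theorem Path.good (hd : Deep p S g φ Φ ψ b T χ) (hf : Path p S b f) (i j : ℕ)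
    (h : j = i + 1 ∨ (i = j + 1 ∧ b + 1 ≤ i)) : ¬ vv S (f i) ≤ T.map (tau (f j)) := by
  intro hle
  have := hd.two_le
  rcases h with h | ⟨h, hb⟩
  · exact hf.crit' hd i (i + b) (Or.inl rfl) (hle.trans (hf.tov hd j (i + b) (by omega)))
  · exact hf.crit' hd i (i - b) (by omega) (hle.trans (hf.tov hd j (i - b) (by omega)))

end path

theorem Deep.extend (hd : Deep p S g φ Φ ψ b T χ) {u : ℕ → Equiv.Perm G}
    (hu : ∀ i < b, Step S (u i) (u (i + 1))) (hc : ¬ vv S (u 0) ≤ ov p (u b)) :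
    ∃ ν, Step S (u b) ν ∧ ¬ vv S (u 1) ≤ ov p ν := by
  have h2 := hd.two_le
  have hn : ∀ j, 1 + j ≤ b → Near S j (u 1) (u (1 + j)) := by
    intro j
    induction j with
    | zero => intro _; exact Near.zero _
    | succ j ih => intro hj; exact (ih (by omega)).snoc (hu (1 + j) (by omega))
  have hn1 : Near S (b - 1) (u 1) (u b) := by
    have := hn (b - 1) (by omega)
    rwa [show 1 + (b - 1) = b by omega] at this
  have h' := (hd.tov (u 0) (u 1) (u b) (hu 0 (by omega)) hn1 hc).2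
  obtain ⟨ν, hν, hν'⟩ : ∃ ν, Step S (u b) ν ∧ ¬ vv S ν ≤ ov p (u 1) := by
    by_contra hno
    push Not at hno
    exact h' (hd.data.uv_le hno)
  refine ⟨ν, hν, hd.data.crit_symm (hd.data.vv_le_range hd.small le_rfl ?_) hν'⟩
  exact (Near.cons hν.symm hn1.symm).mono (by omega)

theorem Deep.exists_path (hd : Deep p S g φ Φ ψ b T χ)
    (hc : ∃ w v, Near S b w v ∧ ¬ vv S w ≤ ov p v) : ∃ f, Path p S b f := by
  classical
  have h2 := hd.two_le
  let St := {u : ℕ → Equiv.Perm G // (∀ i < b, Step S (u i) (u (i + 1))) ∧ ¬ vv S (u 0) ≤ ov p (u b)}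
  obtain ⟨s₀⟩ : Nonempty St := by
    obtain ⟨w, v, hn, hcr⟩ := hc
    suffices ∀ n w v, Near S n w v →
        ∃ u : ℕ → Equiv.Perm G, u 0 = w ∧ u n = v ∧ ∀ i < n, Step S (u i) (u (i + 1)) by
      obtain ⟨u, h0, hb', hu⟩ := this b w v hn
      exact ⟨⟨u, hu, by rw [h0, hb']; exact hcr⟩⟩
    intro n
    induction n with
    | zero =>
      intro w v hn
      cases hn
      exact ⟨fun _ => w, rfl, rfl, fun i hi => absurd hi (Nat.not_lt_zero i)⟩
    | succ n ih =>
      intro w v hn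
      obtain ⟨w', hw, hn'⟩ := hn.head
      obtain ⟨u, h0, h1, hu⟩ := ih w' v hn'
      refine ⟨fun i => if i = 0 then w else u (i - 1), by simp, by simp [h1], fun i hi => ?_⟩
      rcases i with _ | i
      · simpa [h0] using hw
      · simpa using hu i (by omega)
  have hext : ∀ s : St, ∃ s' : St, ∀ i < b, s'.1 i = s.1 (i + 1) := by
    rintro ⟨u, hu, hcr⟩
    obtain ⟨ν, hν, hν'⟩ := hd.extend hu hcr
    refine ⟨⟨fun i => if i < b then u (i + 1) else ν, fun i hi => ?_, ?_⟩, fun i hi => by simp [hi]⟩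
    · by_cases hi' : i + 1 < b
      · simpa [hi, hi'] using hu (i + 1) hi'
      · obtain rfl : b = i + 1 := by omega
        simpa using hν
    · simpa [show 0 < b by omega] using hν'
  choose next hnext using hext
  let s : ℕ → St := fun n => Nat.rec s₀ (fun _ t => next t) n
  have key : ∀ i, i ≤ b → ∀ n, (s (n + i)).1 0 = (s n).1 i := by
    intro i
    induction i with
    | zero => intro _ n; rfl
    | succ i ih =>
      intro hi n
      rw [show n + (i + 1) = n + 1 + i by omega, ih (by omega) (n + 1)]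
      exact hnext (s n) i (by omega)
  refine ⟨fun n => (s n).1 0, fun i => ?_, fun i => ?_⟩
  · show Step S ((s i).1 0) ((s (i + 1)).1 0)
    rw [key 1 (by omega)]
    exact (s i).2.1 0 (by omega)
  · show ¬ vv S ((s i).1 0) ≤ ov p ((s (i + b)).1 0)
    rw [key b le_rfl]
    exact (s i).2.2

/-- An element of the preimage of the Borel subgroup normalises `S` modulo the kernel. -/
theorem Frame.split_borel (hF : Frame p S g φ) (hΦ : Lifts S g φ Φ) {h : G}
    (h10 : ((Φ h : Matrix.SpecialLinearGroup (Fin 2) F) : Matrix (Fin 2) (Fin 2) F) 1 0 = 0) :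
    ∃ c ∈ Φ.ker, c⁻¹ * h ∈ normalizer (S : Set G) := by
  -- `h` normalises `S` modulo the kernel
  have hle : S.map (MulAut.conj h).toMonoidHom ≤ Φ.ker ⊔ S := by
    rintro _ ⟨s, hs, rfl⟩
    obtain ⟨c, hc⟩ := hF.exists_coord hs
    set M := Φ h with hM
    obtain ⟨s', hs', hc'⟩ := hF.exists_elem
      ((M : Matrix (Fin 2) (Fin 2) F) 0 0 * c * (M : Matrix (Fin 2) (Fin 2) F) 0 0)
    have e : Φ ((MulAut.conj h).toMonoidHom s) = Φ s' := by
      show Φ (h * s * h⁻¹) = _
      rw [map_mul, map_mul, map_inv, hΦ.up_S s hs c hc, hΦ.up_S s' hs' _ hc', ← hM,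
        mul_inv_eq_iff_eq_mul]
      apply Matrix.SpecialLinearGroup.ext
      intro a a'
      have hdet : (M : Matrix (Fin 2) (Fin 2) F) 0 0 * (M : Matrix (Fin 2) (Fin 2) F) 1 1 = 1 := by
        have := M.det_coe
        rw [Matrix.det_fin_two, h10, mul_zero, sub_zero] at this
        exact this
      rw [Matrix.SpecialLinearGroup.coe_mul, Matrix.SpecialLinearGroup.coe_mul, coe_up, coe_up]
      fin_cases a <;> fin_cases a' <;> simp [Matrix.mul_apply, Fin.sum_univ_two, h10]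
      linear_combination -((M : Matrix (Fin 2) (Fin 2) F) 0 0 * c) * hdet
    rw [mem_sup_of_normal_left]
    exact ⟨(MulAut.conj h).toMonoidHom s * s'⁻¹, by
      rw [MonoidHom.mem_ker, map_mul, map_inv, e, mul_inv_cancel], s', hs', inv_mul_cancel_right _ _⟩
  set H := Φ.ker ⊔ S with hH
  have hSc := hF.sit.pgroup.toSylow hF.sit.not_dvd
  obtain ⟨x, hxH, hx⟩ : ∃ x ∈ H, S.map (MulAut.conj h).toMonoidHom = S.map (MulAut.conj x).toMonoidHom := by
    let P : Sylow p G := hF.sit.pgroup.toSylow hF.sit.not_dvd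
    let Q : Sylow p G := h • P
    have hP : (P : Subgroup G) ≤ H := le_sup_right
    have hQ : (Q : Subgroup G) = S.map (MulAut.conj h).toMonoidHom := Sylow.coe_subgroup_smul
    have hQH : (Q : Subgroup G) ≤ H := hQ.trans_le hle
    obtain ⟨x, hx⟩ := MulAction.exists_smul_eq ↥H (P.subtype hP) (Q.subtype hQH)
    refine ⟨x, x.2, ?_⟩
    rw [Sylow.smul_subtype] at hx
    rw [← hQ, ← Sylow.subtype_injective hx]
    exact Sylow.coe_subgroup_smul
  obtain ⟨c, hc, s, hs, rfl⟩ := mem_sup_of_normal_left.1 hxH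
  refine ⟨c, hc, ?_⟩
  have hx' : S.map (MulAut.conj h).toMonoidHom = S.map (MulAut.conj c).toMonoidHom := by
    rw [hx]
    refine le_antisymm ?_ ?_
    · rintro _ ⟨t, ht, rfl⟩
      exact ⟨s * t * s⁻¹, S.mul_mem (S.mul_mem hs ht) (S.inv_mem hs), by simp [mul_assoc]⟩
    · rintro _ ⟨t, ht, rfl⟩
      exact ⟨s⁻¹ * t * s, S.mul_mem (S.mul_mem (S.inv_mem hs) ht) hs, by simp [mul_assoc]⟩
  refine mem_normalizer_iff.2 fun t => ⟨fun ht => ?_, fun ht => ?_⟩
  · obtain ⟨t', ht', e⟩ := hx'.le (mem_map_of_mem _ ht)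
    change c * t' * c⁻¹ = h * t * h⁻¹ at e
    rw [show c⁻¹ * h * t * (c⁻¹ * h)⁻¹ = c⁻¹ * (h * t * h⁻¹) * c by group, ← e,
      show c⁻¹ * (c * t' * c⁻¹) * c = t' by group]
    exact ht'
  · obtain ⟨t', ht', e⟩ := hx'.ge (mem_map_of_mem _ ht)
    change h * t' * h⁻¹ = c * (c⁻¹ * h * t * (c⁻¹ * h)⁻¹) * c⁻¹ at e
    rw [show c * (c⁻¹ * h * t * (c⁻¹ * h)⁻¹) * c⁻¹ = h * t * h⁻¹ by group] at e
    exact mul_left_cancel (mul_right_cancel e) ▸ ht'

/-- Consecutive edges of a path determine different lines. -/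
theorem Path.distinct {f : ℕ → Equiv.Perm G} (hd : Deep p S g φ Φ ψ b T χ) (hf : Path p S b f) (i : ℕ)
    {u : Equiv.Perm G} {m h : G} (hu : u = f (i + 1) * reg m) (he : Edge S u (f i))
    (he' : Edge S (u * reg h) (f (i + 2))) :
    ((Φ h : Matrix.SpecialLinearGroup (Fin 2) F) : Matrix (Fin 2) (Fin 2) F) 1 0 ≠ 0 := by
  intro h10
  have hF := hd.data.hyp.frame
  have hΦ := hd.data.lifts
  have h2 := hd.two_le
  obtain ⟨c, hc, hn⟩ := hF.split_borel hΦ h10
  obtain ⟨a, ha, k, hk⟩ := he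
  obtain ⟨a', ha', k', hk'⟩ := he'
  set ν := tau u c * f i with hν
  have hγ : tau u c = u * reg c * u⁻¹ := rfl
  have hstep : Step S ν (f (i + 2)) := by
    refine ⟨k⁻¹, k', a⁻¹ * reg (c⁻¹ * h) * a', mul_mem (mul_mem (inv_mem ha) (reg_mem_autPerm hn)) ha', ?_⟩
    rw [hν, hγ, hk, hk']
    simp only [map_mul, map_inv]
    group
  have hsu : Step S u (f i) := Edge.step ⟨a, ha, k, hk⟩
  have hvv : vv S ν = vv S (f i) := by
    rw [hν, vv_mul]
    refine le_antisymm ?_ fun x hx => ?_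
    · rintro _ ⟨x, hx, rfl⟩
      exact (mem_normalizer_iff.1 (hd.ker_normalizer hsu hc) x).1 hx
    · exact ⟨(tau u c)⁻¹ * x * tau u c, (mem_normalizer_iff.1 (hd.ker_normalizer hsu hc) _).2
        (by simpa [mul_assoc] using hx), by simp [mul_assoc]⟩
  refine hf.crit i (hvv ▸ hd.small (b - 1) ν (f (i + b)) (by omega) ?_)
  obtain ⟨d, rfl⟩ := Nat.exists_eq_add_of_le h2
  refine (Near.cons hstep (hf.near' (i + 2) (i + (2 + d)) d (by omega) (by omega))).mono (by omega)

end Cfsg.Agent.PushUp2
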