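/-
Rank-one pushing up for `p ≥ 5`: the decomposition given by the central involution of `SL₂`.
-/
import Cfsg.Agent.Lib.PushUp2.Main
import Mathlib.Algebra.Polynomial.Roots

set_option autoImplicit false
set_option linter.unusedSectionVars false
set_option linter.unusedSimpArgs false
set_option linter.unnecessarySimpa false

namespace Cfsg.Agent.PushUp2

open Subgroup PushUp Matrix
open scoped commutatorElement

variable {G : Type*} [Group G] [Finite G] {p : ℕ} [hp : Fact p.Prime] {S : Subgroup G} {g : G}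
  {F : Type} [Field F] {φ : G →* Matrix.ProjectiveSpecialLinearGroup (Fin 2) F}
  {Φ : G →* Matrix.SpecialLinearGroup (Fin 2) F} {ψ : G → Fin 2 → F}

local notation "O" => Cfsg.pCore p G

/-- At distance one, elements of order prime to `p` move the core only inside `V`. -/
theorem Short.comm_coprime (h : Data p S g φ Φ ψ) {A : Subgroup G} (hA : Short p S A) :
    ∀ c : G, ∀ k : ℕ, ¬ p ∣ k → c ^ k = 1 → ∀ y ∈ O, ⁅c, y⁆ ∈ vm S := by
  have hVn := vm_normal (S := S)
  have hOS := h.hyp.frame.sit.core_le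
  refine h.hyp.frame.hypercentral_induction h.hyp.vm_le_core hA.cov
    (fun _ ha _ ho => zc_le_vm (hA.comm_core hOS ha ho))
    (fun D => ∀ c : G, ∀ k : ℕ, ¬ p ∣ k → c ^ k = 1 → ∀ y ∈ D, ⁅c, y⁆ ∈ vm S) ?_ ?_
  · intro c k _ _ y hy
    rw [commutatorElement_def]
    exact mul_mem (hVn.conj_mem y hy c) (inv_mem hy)
  · intro D D' _ _ _ hD'D hDO hDD' ih c k hk hck y hy
    set π := QuotientGroup.mk' (vm S) with hπ
    have hm : ⁅c, y⁆ ∈ D' := by
      rw [← commutatorElement_inv]; exact inv_mem (hDD' (commutator_mem_commutator hy (mem_top c)))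
    have h1 : π c * π ⁅c, y⁆ = π ⁅c, y⁆ * π c := by
      rw [← commutatorElement_eq_one_iff_mul_comm, ← map_commutatorElement]
      exact (QuotientGroup.eq_one_iff _).2 (ih c k hk hck _ hm)
    have h2 := commute_of_fixed (p := p) (Q := (O).map π) (c := π c) (t := π y)
      ((PBasic.pCore_isPGroup p G).map π) hk (by rw [← map_pow, hck, map_one])
      (by rw [← map_commutatorElement]; exact mem_map_of_mem _ (hDO (hD'D hm)))
      (by rw [← map_commutatorElement]; exact h1)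
    rw [← commutatorElement_eq_one_iff_mul_comm, ← map_commutatorElement] at h2
    exact (QuotientGroup.eq_one_iff _).1 h2

/-- The decomposition by an involution above `-1`. -/
structure Torus (p : ℕ) (S : Subgroup G) (g : G) {F : Type} [Field F]
    (φ : G →* Matrix.ProjectiveSpecialLinearGroup (Fin 2) F)
    (Φ : G →* Matrix.SpecialLinearGroup (Fin 2) F) (ψ : G → Fin 2 → F) (t : G)
    (V₀ E : Subgroup G) : Prop where
  data : Data p S g φ Φ ψ
  five : 5 ≤ p
  ker : Φ.ker = Cfsg.pCore p G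
  coprime : ∀ c : G, ∀ k : ℕ, ¬ p ∣ k → c ^ k = 1 → ∀ y ∈ Cfsg.pCore p G, ⁅c, y⁆ ∈ vm S
  cls : ∀ x ∈ S, ∀ y ∈ S, ⁅x, y⁆ ∈ zc S
  pow : ∀ s ∈ S, s ^ p = 1
  sq : t * t = 1
  img : ((Φ t : Matrix.SpecialLinearGroup (Fin 2) F) : Matrix (Fin 2) (Fin 2) F) = -1
  mem_V : ∀ v, v ∈ V₀ ↔ v ∈ vm S ∧ t * v * t⁻¹ = v⁻¹
  eq_E : E = Cfsg.pCore p G ⊓ centralizer ({t} : Set G)

theorem Data.exists_torus (h : Data p S g φ Φ ψ) (hc : ∃ w v, Near S 1 w v ∧ ¬ vv S w ≤ ov p v)
    (h5 : 5 ≤ p) : ∃ t V₀ E, Torus p S g φ Φ ψ t V₀ E := by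
  obtain ⟨A, hA⟩ := h.exists_short hc
  have hker := hA.ker_eq h
  obtain ⟨m, hm⟩ : ∃ m : Matrix.SpecialLinearGroup (Fin 2) F, (m : Matrix (Fin 2) (Fin 2) F) = -1 :=
    ⟨⟨-1, by simp [Matrix.det_neg, Matrix.det_one]⟩, rfl⟩
  obtain ⟨t₀, ht₀⟩ := h.lifts.surjective h.hyp.frame m
  have hm2 : m * m = 1 := Matrix.SpecialLinearGroup.ext _ _ fun i j => by
    rw [Matrix.SpecialLinearGroup.coe_mul, hm, Matrix.SpecialLinearGroup.coe_one]; simp
  obtain ⟨k, hk⟩ := PBasic.pCore_isPGroup p G ⟨t₀ * t₀, by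
    rw [← hker, MonoidHom.mem_ker, map_mul, ht₀, hm2]⟩
  have hk' : (t₀ * t₀) ^ p ^ k = 1 := congrArg Subtype.val hk
  have hodd : Odd (p ^ k) := (hp.out.odd_of_ne_two (by omega)).pow
  obtain ⟨t, ht⟩ : ∃ t, t = t₀ ^ p ^ k := ⟨_, rfl⟩
  have hsq : t * t = 1 := by rw [ht, ← (Commute.refl t₀).mul_pow, hk']
  have himg : Φ t = m := by
    obtain ⟨j, hj⟩ := hodd
    rw [ht, map_pow, ht₀, hj, pow_succ, pow_mul, pow_two, hm2, one_pow, one_mul]
  have hab : ∀ {a b : G}, a ∈ vm S → b ∈ vm S → a * b = b * a := fun ha hb =>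
    h.hyp.core_comm (h.hyp.vm_le_core ha) hb
  let V₀ : Subgroup G :=
    { carrier := {v | v ∈ vm S ∧ t * v * t⁻¹ = v⁻¹}
      one_mem' := ⟨one_mem _, by simp⟩
      mul_mem' := fun {a b} ha hb => ⟨mul_mem ha.1 hb.1, by
        rw [show t * (a * b) * t⁻¹ = t * a * t⁻¹ * (t * b * t⁻¹) by group, ha.2, hb.2,
          _root_.mul_inv_rev, hab (inv_mem ha.1) (inv_mem hb.1)]⟩
      inv_mem' := fun {a} ha => ⟨inv_mem ha.1, by
        rw [show t * a⁻¹ * t⁻¹ = (t * a * t⁻¹)⁻¹ by group, ha.2]⟩ }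
  refine ⟨t, V₀, _, h, h5, hker, hA.comm_coprime h, fun x hx y hy => ?_, ?_, hsq,
    by rw [himg, hm], fun v => Iff.rfl, rfl⟩
  · have hxy : ⁅x, y⁆ ∈ ⁅S, S⁆ := commutator_mem_commutator hx hy
    refine ⟨lcs_le' S hxy, mem_centralizer_iff.2 fun s hs => ?_⟩
    have : ⁅⁅x, y⁆, s⁆ = 1 := mem_bot.1 ((hA.class_two h).1.le
      (commutator_mem_commutator (H₁ := ⁅S, S⁆) (H₂ := S) hxy hs))
    exact (commutatorElement_eq_one_iff_mul_comm.1 this).symm
  · exact hA.pow_eq_one' h dvd_rfl (hp.out.dvd_choose_self two_ne_zero (by omega))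

section torus

variable {t : G} {V₀ E : Subgroup G}

theorem Torus.t_inv (h : Torus p S g φ Φ ψ t V₀ E) : t⁻¹ = t := inv_eq_of_mul_eq_one_right h.sq

theorem Torus.two_ne (h : Torus p S g φ Φ ψ t V₀ E) : (2 : F) ≠ 0 := by
  intro e
  have hb := congrArg (fun z : ℤ => (z : F)) (Nat.gcd_eq_gcd_ab 2 p)
  have hc : Nat.gcd 2 p = 1 := (Nat.coprime_primes Nat.prime_two hp.out).2 (by have := h.five; omega)
  simp only [hc, Nat.cast_one, Int.cast_one, Int.cast_add, Int.cast_mul, Int.cast_natCast,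
    h.data.hyp.frame.natCast_eq_zero, zero_mul, add_zero, Nat.cast_ofNat, e] at hb
  simpa [e] using hb

theorem Torus.V_le (h : Torus p S g φ Φ ψ t V₀ E) : V₀ ≤ vm S := fun _ hv => ((h.mem_V _).1 hv).1

theorem Torus.V_comm (h : Torus p S g φ Φ ψ t V₀ E) {v o : G} (hv : v ∈ V₀) (ho : o ∈ O) :
    o * v = v * o := h.data.hyp.core_comm ho (h.V_le hv)

theorem Torus.mem_E (h : Torus p S g φ Φ ψ t V₀ E) {x : G} : x ∈ E ↔ x ∈ O ∧ t * x = x * t := by
  rw [h.eq_E, mem_inf, mem_centralizer_singleton_iff, eq_comm (a := x * t)]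

theorem Torus.conj_psi (h : Torus p S g φ Φ ψ t V₀ E) {v : G} (hv : v ∈ vm S) :
    ψ (t * v * t⁻¹) = -ψ v := by
  rw [h.data.layer.conj t v hv, h.img, Matrix.neg_mulVec, Matrix.one_mulVec]

theorem Torus.eq_one_of_sq (h : Torus p S g φ Φ ψ t V₀ E) {v : G} (hv : v ∈ O) (h2 : v * v = 1) :
    v = 1 := by
  have h1 := h.pow v (h.data.hyp.frame.sit.core_le hv)
  obtain ⟨j, hj⟩ := hp.out.odd_of_ne_two (by have := h.five; omega)
  rwa [hj, pow_succ, pow_mul, pow_two, h2, one_pow, one_mul] at h1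

theorem Torus.inf_eq (h : Torus p S g φ Φ ψ t V₀ E) : V₀ ⊓ E = ⊥ := by
  refine le_bot_iff.1 ?_
  rintro v ⟨hv, hvE⟩
  obtain ⟨hvO, hvt⟩ := h.mem_E.1 hvE
  have e := ((h.mem_V v).1 hv).2
  rw [hvt, mul_inv_cancel_right] at e
  exact mem_bot.2 (h.eq_one_of_sq hvO (by rwa [← eq_inv_iff_mul_eq_one]))

theorem Torus.sqrt (h : Torus p S g φ Φ ψ t V₀ E) {w : G} (hw : w ∈ V₀) :
    ∃ v ∈ V₀, v * v = w := by
  obtain ⟨j, hj⟩ := hp.out.odd_of_ne_two (by have := h.five; omega)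
  refine ⟨w ^ (j + 1), pow_mem hw _, ?_⟩
  rw [← pow_add, show j + 1 + (j + 1) = p + 1 by omega, pow_succ,
    h.pow w (h.data.hyp.vm_le (h.V_le hw)), one_mul]

theorem Torus.decomp_core (h : Torus p S g φ Φ ψ t V₀ E) {o : G} (ho : o ∈ O) :
    ∃ v ∈ V₀, ∃ e ∈ E, o = v * e := by
  have hn : ¬ p ∣ 2 := fun hd => by have := Nat.le_of_dvd two_pos hd; have := h.five; omega
  have hw : ⁅o, t⁆ ∈ V₀ := by
    refine (h.mem_V _).2 ⟨?_, ?_⟩
    · rw [← commutatorElement_inv]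
      exact inv_mem (h.coprime t 2 hn (by rw [pow_two, h.sq]) o ho)
    · rw [commutatorElement_inv, commutatorElement_def, commutatorElement_def]
      calc t * (o * t * o⁻¹ * t⁻¹) * t⁻¹ = t * o * t * o⁻¹ * (t * t)⁻¹ := by group
        _ = t * o * t⁻¹ * o⁻¹ := by rw [h.sq, inv_one, mul_one, h.t_inv]
  obtain ⟨v, hv, hvv⟩ := h.sqrt hw
  refine ⟨v, hv, v⁻¹ * o, h.mem_E.2 ⟨(O).mul_mem ((O).inv_mem (h.data.hyp.vm_le_core (h.V_le hv))) ho, ?_⟩,
    (mul_inv_cancel_left _ _).symm⟩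
  have e1 : t * v⁻¹ * t⁻¹ = v := by
    rw [show t * v⁻¹ * t⁻¹ = (t * v * t⁻¹)⁻¹ by group, ((h.mem_V v).1 hv).2, inv_inv]
  calc t * (v⁻¹ * o) = t * v⁻¹ * t⁻¹ * (⁅o, t⁆⁻¹ * o) * t := by rw [commutatorElement_def]; group
    _ = v * ((v * v)⁻¹ * o) * t := by rw [e1, hvv]
    _ = _ := by group

theorem Torus.V_normal (h : Torus p S g φ Φ ψ t V₀ E) : V₀.Normal := ⟨fun v hv k => by
  have hVn := vm_normal (S := S)
  obtain ⟨hvV, hvt⟩ := (h.mem_V v).1 hv
  refine (h.mem_V _).2 ⟨hVn.conj_mem v hvV k, ?_⟩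
  obtain ⟨o, ho, e⟩ : ∃ o ∈ O, t * k = k * o * t := ⟨k⁻¹ * t * k * t⁻¹, by
    rw [← h.ker, MonoidHom.mem_ker, map_mul, map_mul, map_mul, map_inv, map_inv]
    have hc : Φ t * Φ k = Φ k * Φ t := Matrix.SpecialLinearGroup.ext _ _ fun i j => by
      rw [Matrix.SpecialLinearGroup.coe_mul, Matrix.SpecialLinearGroup.coe_mul, h.img]; simp
    rw [mul_assoc (Φ k)⁻¹, hc, inv_mul_cancel_left, mul_inv_cancel], by group⟩
  calc t * (k * v * k⁻¹) * t⁻¹ = (t * k) * v * (t * k)⁻¹ := by group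
    _ = k * (o * (t * v * t⁻¹)) * o⁻¹ * k⁻¹ := by rw [e]; group
    _ = k * (v⁻¹ * o) * o⁻¹ * k⁻¹ := by
        rw [hvt, h.data.hyp.core_comm ho (inv_mem hvV)]
    _ = _ := by group⟩

theorem Torus.decomp (h : Torus p S g φ Φ ψ t V₀ E) (k : G) :
    ∃ w ∈ V₀, ∃ l, t * l = l * t ∧ k = w * l := by
  have hc : Φ t * Φ k = Φ k * Φ t := Matrix.SpecialLinearGroup.ext _ _ fun i j => by
    rw [Matrix.SpecialLinearGroup.coe_mul, Matrix.SpecialLinearGroup.coe_mul, h.img]; simp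
  have hO : ⁅k, t⁆ ∈ O := by
    rw [← h.ker, MonoidHom.mem_ker, map_commutatorElement, commutatorElement_eq_one_iff_mul_comm, hc]
  obtain ⟨v, hv, e, he, hve⟩ := h.decomp_core hO
  obtain ⟨heO, het⟩ := h.mem_E.1 he
  have hvt := ((h.mem_V v).1 hv).2
  have hinv : t * ⁅k, t⁆ * t⁻¹ = ⁅k, t⁆⁻¹ := by
    rw [commutatorElement_inv, commutatorElement_def, commutatorElement_def]
    calc t * (k * t * k⁻¹ * t⁻¹) * t⁻¹ = t * k * t * k⁻¹ * (t * t)⁻¹ := by group
      _ = t * k * t⁻¹ * k⁻¹ := by rw [h.sq, inv_one, mul_one, h.t_inv]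
  have he1 : e = 1 := by
    refine h.eq_one_of_sq heO ?_
    rw [hve, show t * (v * e) * t⁻¹ = t * v * t⁻¹ * (t * e * t⁻¹) by group, hvt, het, mul_inv_cancel_right,
      _root_.mul_inv_rev, show e⁻¹ * v⁻¹ = v⁻¹ * e⁻¹ from h.V_comm (inv_mem hv) ((O).inv_mem heO)] at hinv
    rwa [mul_right_inj, eq_inv_iff_mul_eq_one] at hinv
  rw [he1, mul_one] at hve
  obtain ⟨w, hw, hww⟩ := h.sqrt hv
  refine ⟨w, hw, w⁻¹ * k, ?_, (mul_inv_cancel_left _ _).symm⟩
  have e1 : t * w⁻¹ * t⁻¹ = w := by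
    rw [show t * w⁻¹ * t⁻¹ = (t * w * t⁻¹)⁻¹ by group, ((h.mem_V w).1 hw).2, inv_inv]
  calc t * (w⁻¹ * k) = t * w⁻¹ * t⁻¹ * (⁅k, t⁆⁻¹ * k) * t := by rw [commutatorElement_def]; group
    _ = w * ((w * w)⁻¹ * k) * t := by rw [e1, hve, hww]
    _ = _ := by group

theorem Torus.E_le (h : Torus p S g φ Φ ψ t V₀ E) : E ≤ O := fun _ he => (h.mem_E.1 he).1

theorem Torus.E_normal (h : Torus p S g φ Φ ψ t V₀ E) : E.Normal := ⟨fun e he k => by
  have hOn := FittingCores.pCore_normal (G := G) p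
  obtain ⟨heO, het⟩ := h.mem_E.1 he
  obtain ⟨w, hw, l, hl, rfl⟩ := h.decomp k
  have hce : Commute t (l * e * l⁻¹) := ((show Commute t l from hl).mul_right (show Commute t e from het)).mul_right
    (show Commute t l from hl).inv_right
  rw [show w * l * e * (w * l)⁻¹ = w * (l * e * l⁻¹) * w⁻¹ by group,
    ← h.V_comm hw (hOn.conj_mem e heO l), mul_inv_cancel_right]
  exact h.mem_E.2 ⟨hOn.conj_mem e heO l, hce.eq⟩⟩

theorem Torus.cz_le (h : Torus p S g φ Φ ψ t V₀ E) : cz S ≤ E := fun c hc =>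
  h.mem_E.2 ⟨h.data.hyp.vm_le_core hc.1, cz_comm hc t⟩

theorem Torus.psi_inj (h : Torus p S g φ Φ ψ t V₀ E) {v : G} (hv : v ∈ V₀) (h0 : ψ v = 0) : v = 1 :=
  mem_bot.1 (h.inf_eq.le ⟨hv, h.cz_le ((h.data.layer.ker v (h.V_le hv)).1 h0)⟩)

theorem Torus.psi_surj (h : Torus p S g φ Φ ψ t V₀ E) (x : Fin 2 → F) : ∃ v ∈ V₀, ψ v = x := by
  obtain ⟨u, hu, rfl⟩ := h.data.layer.surj x
  obtain ⟨v, hv, e, he, rfl⟩ := h.decomp_core (h.data.hyp.vm_le_core hu)
  have heV : e ∈ vm S := by simpa using mul_mem (inv_mem (h.V_le hv)) hu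
  have h0 : ψ e = 0 := by
    have e1 := h.conj_psi heV
    rw [(h.mem_E.1 he).2, mul_inv_cancel_right] at e1
    funext i
    have e2 := congrFun e1 i
    have e3 : (2 : F) * ψ e i = 0 := by simp only [Pi.neg_apply] at e2; linear_combination e2
    simpa [h.two_ne] using e3
  exact ⟨v, hv, by rw [h.data.layer.map_mul v (h.V_le hv) e heV, h0, add_zero]⟩

theorem Torus.psi_ext (h : Torus p S g φ Φ ψ t V₀ E) {v v' : G} (hv : v ∈ V₀) (hv' : v' ∈ V₀)
    (e : ψ v = ψ v') : v = v' := by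
  have := h.psi_inj (mul_mem (inv_mem hv') hv) (by
    rw [h.data.layer.map_mul _ (inv_mem (h.V_le hv')) _ (h.V_le hv), h.data.layer.map_inv (h.V_le hv'),
      e, neg_add_cancel])
  exact (inv_mul_eq_one.1 this).symm

/-- The centraliser of `E` inside that of `t`. -/
def lOne (t : G) (E : Subgroup G) : Subgroup G := centralizer ({t} : Set G) ⊓ centralizer (E : Set G)

theorem Torus.lift (h : Torus p S g φ Φ ψ t V₀ E) (M : Matrix.SpecialLinearGroup (Fin 2) F) :
    ∃ l ∈ lOne t E, Φ l = M := by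
  have hs := h.data.lifts.surjective h.data.hyp.frame
  have hF := h.data.hyp.frame.finite
  have hEn := h.E_normal
  have hcl : ∀ l, t * l = l * t → ∀ k : ℕ, ¬ p ∣ k → l ^ k = 1 → l ∈ lOne t E := by
    intro l hl k hk hlk
    refine ⟨mem_centralizer_singleton_iff.2 hl.symm, mem_centralizer_iff.2 fun e he => ?_⟩
    obtain ⟨heO, het⟩ := h.mem_E.1 he
    have hV : ⁅l, e⁆ ∈ vm S := h.coprime l k hk hlk e heO
    have hm : ⁅l, e⁆ ∈ cz S := by
      refine (h.data.layer.ker _ hV).1 ?_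
      have e1 := h.conj_psi hV
      have hc : Commute t ⁅l, e⁆ := by
        rw [commutatorElement_def]
        exact (((show Commute t l from hl).mul_right (show Commute t e from het)).mul_right
          (show Commute t l from hl).inv_right).mul_right (show Commute t e from het).inv_right
      rw [hc.eq, mul_inv_cancel_right] at e1
      funext i
      have e2 := congrFun e1 i
      have e3 : (2 : F) * ψ ⁅l, e⁆ i = 0 := by simp only [Pi.neg_apply] at e2; linear_combination e2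
      simpa [h.two_ne] using e3
    exact (commute_of_fixed (PBasic.pCore_isPGroup p G) hk hlk (h.data.hyp.vm_le_core hm.1)
      (cz_comm hm l)).symm
  set N := (lOne t E).map Φ with hN
  have hNn : N.Normal := by
    refine ⟨?_⟩
    rintro _ ⟨l, hl, rfl⟩ M
    obtain ⟨k, rfl⟩ := hs M
    obtain ⟨w, hw, l', hl', rfl⟩ := h.decomp k
    refine ⟨l' * l * l'⁻¹, ⟨?_, mem_centralizer_iff.2 fun e he => ?_⟩, ?_⟩
    · have c1 : Commute t l := (mem_centralizer_singleton_iff.1 hl.1).symm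
      have c2 : Commute t l' := hl'
      exact mem_centralizer_singleton_iff.2 ((c2.mul_right c1).mul_right c2.inv_right).eq.symm
    · have he' : l'⁻¹ * e * l' ∈ E := by simpa using hEn.conj_mem e he l'⁻¹
      have := mem_centralizer_iff.1 hl.2 _ he'
      calc e * (l' * l * l'⁻¹) = l' * ((l'⁻¹ * e * l') * l) * l'⁻¹ := by group
        _ = l' * (l * (l'⁻¹ * e * l')) * l'⁻¹ := by rw [this]
        _ = _ := by group
    · have hw1 : Φ w = 1 := h.data.lifts.core_le_ker h.data.hyp.frame (h.data.hyp.vm_le_core (h.V_le hw))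
      rw [map_mul Φ w l', hw1, one_mul, map_mul, map_mul, map_inv]
  -- a torus element lies in the image
  have h2 := h.two_ne
  have hdg : dg F 2 h2 ∈ N := by
    obtain ⟨k, hk⟩ := hs (dg F 2 h2)
    obtain ⟨w, hw, l, hl, rfl⟩ := h.decomp k
    have hw1 : Φ w = 1 := h.data.lifts.core_le_ker h.data.hyp.frame (h.data.hyp.vm_le_core (h.V_le hw))
    rw [map_mul, hw1, one_mul] at hk
    obtain ⟨a, m, hm, e⟩ := Nat.exists_eq_pow_mul_and_not_dvd (orderOf_pos l).ne' p hp.out.ne_one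
    have hmem : l ^ p ^ a ∈ lOne t E := hcl _ (((show Commute t l from hl).pow_right _).eq) m hm
      (by rw [← pow_mul, ← e, pow_orderOf_eq_one])
    obtain ⟨n, -, hn⟩ := h.data.hyp.frame.card_pow
    have hord : dg F 2 h2 ^ (Nat.card F - 1) = 1 := by
      have := Fintype.ofFinite F
      have h21 : (2 : F) ^ (Nat.card F - 1) = 1 := by
        rw [Nat.card_eq_fintype_card]; exact FiniteField.pow_card_sub_one_eq_one 2 h2
      have hgen : ∀ j : ℕ, ((dg F 2 h2 ^ j : Matrix.SpecialLinearGroup (Fin 2) F) : Matrix (Fin 2) (Fin 2) F)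
          = !![(2 : F) ^ j, 0; 0, ((2 : F) ^ j)⁻¹] := by
        intro j
        induction j with
        | zero => simp [Matrix.one_fin_two]
        | succ j ih =>
          rw [pow_succ, Matrix.SpecialLinearGroup.coe_mul, ih, dg]
          simp [Matrix.mul_fin_two, pow_succ, mul_comm]
      apply Subtype.ext
      rw [hgen, h21, Matrix.SpecialLinearGroup.coe_one, Matrix.one_fin_two, inv_one]
    have hcop : Nat.Coprime (p ^ a) (orderOf (dg F 2 h2)) := by
      refine Nat.Coprime.coprime_dvd_right (orderOf_dvd_of_pow_eq_one hord) (Nat.Coprime.pow_left a ?_)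
      refine hp.out.coprime_iff_not_dvd.2 fun hd => ?_
      have h1 : p ∣ Nat.card F := hn ▸ dvd_pow_self p (by
        intro e0; have := Finite.one_lt_card (α := F); rw [hn, e0] at this; simp at this)
      have hpos : 1 ≤ Nat.card F := Nat.card_pos
      have := Nat.dvd_sub h1 hd
      rw [show Nat.card F - (Nat.card F - 1) = 1 by omega] at this
      exact hp.out.not_dvd_one this
    obtain ⟨j, hj⟩ := exists_pow_eq_self_of_coprime hcop
    rw [← hj, ← hk, ← map_pow, ← map_pow]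
    exact mem_map_of_mem _ (pow_mem hmem j)
  have hup : ∀ c : F, up c ∈ N := by
    intro c
    have h3 : (3 : F) ≠ 0 := by
      intro e
      have hb := congrArg (fun z : ℤ => (z : F)) (Nat.gcd_eq_gcd_ab 3 p)
      have hc : Nat.gcd 3 p = 1 := (Nat.coprime_primes Nat.prime_three hp.out).2 (by have := h.five; omega)
      simp only [hc, Nat.cast_one, Int.cast_one, Int.cast_add, Int.cast_mul, Int.cast_natCast,
        h.data.hyp.frame.natCast_eq_zero, zero_mul, add_zero, Nat.cast_ofNat, e] at hb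
      simpa [e] using hb
    have hm := N.mul_mem hdg (hNn.conj_mem _ (N.inv_mem hdg) (up (c / 3)))
    have e : dg F 2 h2 * (up (c / 3) * (dg F 2 h2)⁻¹ * (up (c / 3))⁻¹) = up c := by
      rw [← mul_assoc, ← mul_assoc, dg_up, mul_inv_eq_iff_eq_mul, up_mul]
      congr 1
      field_simp
      ring
    exact e ▸ hm
  have htop : N = ⊤ := by
    refine eq_top_of_mem (fun y => ?_) one_ne_zero (hup 1)
    have := hNn.conj_mem _ (hup (-y)) PushUp.weyl
    rwa [weyl_up, neg_neg] at this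
  obtain ⟨l, hl, e⟩ : M ∈ N := htop ▸ mem_top M
  exact ⟨l, hl, e⟩

/-- Every element is a product from `V₀`, `E` and `lOne`. -/
theorem Torus.decomp3 (h : Torus p S g φ Φ ψ t V₀ E) (k : G) :
    ∃ w ∈ V₀, ∃ e ∈ E, ∃ l ∈ lOne t E, k = w * e * l := by
  obtain ⟨w, hw, l, hl, rfl⟩ := h.decomp k
  obtain ⟨l₁, hl₁, e₁⟩ := h.lift (Φ l)
  refine ⟨w, hw, l * l₁⁻¹, h.mem_E.2 ⟨by rw [← h.ker, MonoidHom.mem_ker, map_mul, map_inv, e₁, mul_inv_cancel], ?_⟩,
    l₁, hl₁, by group⟩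
  exact ((show Commute t l from hl).mul_right
    (Commute.inv_right (mem_centralizer_singleton_iff.1 hl₁.1).symm)).eq

theorem Torus.decomp_S (h : Torus p S g φ Φ ψ t V₀ E) {s : G} (hs : s ∈ S) :
    ∃ w ∈ V₀, ∃ e ∈ E, ∃ l ∈ lOne t E, l ∈ S ∧ s = w * e * l := by
  obtain ⟨w, hw, e, he, l, hl, rfl⟩ := h.decomp3 s
  refine ⟨w, hw, e, he, l, hl, ?_, rfl⟩
  have := S.mul_mem (S.inv_mem (S.mul_mem (h.data.hyp.vm_le (h.V_le hw))
    (h.data.hyp.frame.sit.core_le (h.E_le he)))) hs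
  rwa [show (w * e)⁻¹ * (w * e * l) = l by group] at this

theorem Torus.conj_line (h : Torus p S g φ Φ ψ t V₀ E) {x : G} {a : F} (hx : Φ x = up a) {v : G}
    (hv : v ∈ vm S) : ψ ⁅x, v⁆ = ![a * ψ v 1, 0] := by
  rw [h.data.layer.map_comm x hv, hx, up_mulVec]
  ext i
  fin_cases i <;> simp

/-- `S ∩ lOne` is abelian. -/
theorem Torus.abel (h : Torus p S g φ Φ ψ t V₀ E) {x y : G} (hx : x ∈ lOne t E) (hxS : x ∈ S)
    (hy : y ∈ lOne t E) (hyS : y ∈ S) : x * y = y * x := by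
  have hF := h.data.hyp.frame
  have hfin := hF.finite
  have hΦ := h.data.lifts
  -- lifts of the upper unitriangular elements
  have hr : ∀ a : F, ∃ r ∈ lOne t E, r ∈ S ∧ Φ r = up a := by
    intro a
    obtain ⟨s, hs, hc⟩ := hF.exists_elem a
    obtain ⟨w, hw, e, he, l, hl, hlS, rfl⟩ := h.decomp_S hs
    refine ⟨l, hl, hlS, ?_⟩
    have e1 := hΦ.up_S _ hs a hc
    rw [map_mul, map_mul, hΦ.core_le_ker hF (h.data.hyp.vm_le_core (h.V_le hw)),
      hΦ.core_le_ker hF (h.E_le he), one_mul, one_mul] at e1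
    exact e1
  choose r hr hrS hrΦ using hr
  have zc_of : ∀ z ∈ lOne t E, z ∈ O → ∀ l ∈ lOne t E, Commute z l := fun z hz hzO l hl =>
    mem_centralizer_iff.1 hl.2 z (h.mem_E.2 ⟨hzO, (mem_centralizer_singleton_iff.1 hz.1).symm⟩)
  have canon : ∀ u ∈ lOne t E, ∀ a : F, Φ u = up a → ∃ z, (∀ l ∈ lOne t E, Commute z l) ∧
      u = r a * z ∧ z ∈ lOne t E := by
    intro u hu a ha
    refine ⟨(r a)⁻¹ * u, zc_of _ (mul_mem (inv_mem (hr a)) hu) ?_, (mul_inv_cancel_left _ _).symm,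
      mul_mem (inv_mem (hr a)) hu⟩
    rw [← h.ker, MonoidHom.mem_ker, map_mul, map_inv, ha, hrΦ, inv_mul_cancel]
  let B : F → F → G := fun a b => ⁅r a, r b⁆
  have Bval : ∀ u ∈ lOne t E, ∀ v ∈ lOne t E, ∀ a b : F, Φ u = up a → Φ v = up b → ⁅u, v⁆ = B a b := by
    intro u hu v hv a b ha hb
    obtain ⟨z, hz, rfl, hzL⟩ := canon u hu a ha
    obtain ⟨z', hz', rfl, hz'L⟩ := canon v hv b hb
    rw [show ⁅r a * z, r b * z'⁆ = r a * z * r b * (z' * z⁻¹) * (r a)⁻¹ * z'⁻¹ * (r b)⁻¹ by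
      rw [commutatorElement_def]; group,
      (hz' z⁻¹ (inv_mem hzL)).eq, show r a * z * r b = r a * (r b * z) by
        rw [mul_assoc, (hz _ (hr b)).eq]]
    rw [show r a * (r b * z) * (z⁻¹ * z') * (r a)⁻¹ = r a * r b * (z' * (r a)⁻¹) by group,
      (hz' _ (inv_mem (hr a))).eq]
    show _ = ⁅r a, r b⁆
    rw [commutatorElement_def]
    group
  have Bc : ∀ a b : F, ∀ l ∈ lOne t E, Commute (B a b) l := fun a b => by
    refine zc_of _ ?_ ?_
    · exact mul_mem (mul_mem (mul_mem (hr a) (hr b)) (inv_mem (hr a))) (inv_mem (hr b))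
    · rw [← h.ker, MonoidHom.mem_ker, map_commutatorElement, hrΦ, hrΦ,
        commutatorElement_eq_one_iff_mul_comm, up_mul, up_mul, add_comm]
  have Badd : ∀ a a' b : F, B (a + a') b = B a b * B a' b := by
    intro a a' b
    rw [← Bval (r a * r a') (mul_mem (hr a) (hr a')) (r b) (hr b) (a + a') b
      (by rw [map_mul, hrΦ, hrΦ, up_mul]) (hrΦ b)]
    have e : ⁅r a * r a', r b⁆ = r a * B a' b * (r a)⁻¹ * B a b := by
      show _ = r a * ⁅r a', r b⁆ * (r a)⁻¹ * ⁅r a, r b⁆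
      rw [commutatorElement_def, commutatorElement_def, commutatorElement_def]; group
    rw [e, ← (Bc a' b _ (hr a)).eq, mul_inv_cancel_right]
    exact (Bc a' b _ (mul_mem (mul_mem (mul_mem (hr a) (hr b)) (inv_mem (hr a))) (inv_mem (hr b)))).eq
  have Badd' : ∀ a b b' : F, B a (b + b') = B a b * B a b' := by
    intro a b b'
    rw [← Bval (r a) (hr a) (r b * r b') (mul_mem (hr b) (hr b')) a (b + b') (hrΦ a)
      (by rw [map_mul, hrΦ, hrΦ, up_mul])]
    have e : ⁅r a, r b * r b'⁆ = B a b * (r b * B a b' * (r b)⁻¹) := by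
      show _ = ⁅r a, r b⁆ * (r b * ⁅r a, r b'⁆ * (r b)⁻¹)
      rw [commutatorElement_def, commutatorElement_def, commutatorElement_def]; group
    rw [e, ← (Bc a b' _ (hr b)).eq, mul_inv_cancel_right]
  have Bzero : ∀ a : F, B a 0 = 1 := fun a => by
    have := Badd' a 0 0
    rw [add_zero] at this
    exact left_eq_mul.1 this
  obtain ⟨a, ha⟩ := hF.exists_coord hxS
  obtain ⟨b, hb⟩ := hF.exists_coord hyS
  rw [← commutatorElement_eq_one_iff_mul_comm, Bval x hx y hy a b (hΦ.up_S x hxS a ha) (hΦ.up_S y hyS b hb)]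
  obtain ⟨n, hn0, hn⟩ := hF.card_pow
  by_cases hn1 : n = 1
  · -- prime field
    subst hn1
    rw [pow_one] at hn
    have hgen : ∀ c : F, ∃ i : ℕ, c = (i : F) := by
      have := Fintype.ofFinite F
      have hch : CharP F p := by
        obtain ⟨q, hq⟩ := CharP.exists F
        have hd : q ∣ p := (CharP.cast_eq_zero_iff F q p).1 hF.natCast_eq_zero
        rcases (Nat.dvd_prime hp.out).1 hd with e | e
        · subst e; exact absurd ((Nat.cast_one (R := F)).symm.trans ((CharP.cast_eq_zero_iff F 1 1).2 dvd_rfl)) one_ne_zero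
        · exact e ▸ hq
      have hbij : Function.Bijective (ZMod.castHom (dvd_refl p) F) :=
        (Fintype.bijective_iff_injective_and_card _).2 ⟨RingHom.injective _, by
          rw [ZMod.card, ← Nat.card_eq_fintype_card, hn]⟩
      intro c
      obtain ⟨z, rfl⟩ := hbij.2 c
      exact ⟨z.val, by rw [ZMod.castHom_apply, ZMod.cast_eq_val]⟩
    obtain ⟨j, rfl⟩ := hgen b
    obtain ⟨i, rfl⟩ := hgen a
    clear ha hb
    have h11 : B 1 1 = 1 := by
      show ⁅r 1, r 1⁆ = 1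
      simp
    have hi : B (i : F) 1 = 1 := by
      induction i with
      | zero =>
        have := Badd 0 0 1
        rw [add_zero] at this
        rw [Nat.cast_zero]
        exact left_eq_mul.1 this
      | succ i ih => rw [Nat.cast_succ, Badd, ih, h11, one_mul]
    induction j with
    | zero => rw [Nat.cast_zero]; exact Bzero _
    | succ j ihj => rw [Nat.cast_succ, Badd', ihj, hi, one_mul]
  · -- a larger field
    have := Fintype.ofFinite F
    have hq : 25 ≤ Fintype.card F := by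
      rw [← Nat.card_eq_fintype_card, hn]
      calc 25 = 5 ^ 2 := by norm_num
        _ ≤ p ^ 2 := Nat.pow_le_pow_left h.five 2
        _ ≤ p ^ n := Nat.pow_le_pow_right hp.out.pos (by omega)
    have Binv : ∀ u : F, u ≠ 0 → ∀ a b, B (u * u * a) (u * u * b) = B a b := by
      intro u hu a b
      obtain ⟨k, hk, hkΦ⟩ := h.lift (dg F u hu)
      have c1 : ∀ c, Φ (k * r c * k⁻¹) = up (u * u * c) := fun c => by
        rw [map_mul, map_mul, map_inv, hkΦ, hrΦ, dg_up]
      rw [← Bval _ (mul_mem (mul_mem hk (hr a)) (inv_mem hk)) _ (mul_mem (mul_mem hk (hr b)) (inv_mem hk))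
        _ _ (c1 a) (c1 b)]
      have : ⁅k * r a * k⁻¹, k * r b * k⁻¹⁆ = k * B a b * k⁻¹ := by
        show _ = k * ⁅r a, r b⁆ * k⁻¹
        rw [commutatorElement_def, commutatorElement_def]; group
      rw [this, ← (Bc a b k hk).eq, mul_inv_cancel_right]
    classical
    let P : Polynomial F := Polynomial.X * (Polynomial.X ^ 2 - 1) * (Polynomial.X ^ 2 + 1) *
      ((Polynomial.X ^ 2 - 1) ^ 4 + Polynomial.C 4 * Polynomial.X ^ 2 * (Polynomial.X ^ 2 - 1) ^ 2 +
        Polynomial.C 16 * Polynomial.X ^ 4)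
    have hP8 : ((Polynomial.X ^ 2 - 1) ^ 4 + Polynomial.C 4 * Polynomial.X ^ 2 * (Polynomial.X ^ 2 - 1) ^ 2 +
        Polynomial.C 16 * Polynomial.X ^ 4 : Polynomial F) ≠ 0 := by
      intro e
      have := congrArg (Polynomial.eval 0) e
      simp at this
    have hP : P ≠ 0 := by
      refine mul_ne_zero (mul_ne_zero (mul_ne_zero Polynomial.X_ne_zero ?_) ?_) hP8
      · intro e
        have := congrArg (Polynomial.eval 0) e
        simp at this
      · intro e
        have := congrArg (Polynomial.eval 0) e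
        simp at this
    have hdeg : P.natDegree < Fintype.card F := by
      have : P.natDegree ≤ 13 := by unfold P; compute_degree
      omega
    obtain ⟨m, hm⟩ := P.exists_eval_ne_zero_of_natDegree_lt_card hP (by
      rw [Cardinal.mk_fintype]; exact_mod_cast hdeg)
    simp only [P, Polynomial.eval_mul, Polynomial.eval_add, Polynomial.eval_sub, Polynomial.eval_pow,
      Polynomial.eval_X, Polynomial.eval_one, Polynomial.eval_C, mul_ne_zero_iff] at hm
    obtain ⟨⟨⟨hm0, hm1⟩, hm2⟩, hm8⟩ := hm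
    have hm2' : (2 : F) * m ≠ 0 := mul_ne_zero h.two_ne hm0
    set μ := (m ^ 2 - 1) * (m ^ 2 - 1) with hμ
    set ν := 2 * m * (2 * m) with hν
    have hμ0 : μ ≠ 0 := mul_ne_zero hm1 hm1
    have hν0 : ν ≠ 0 := mul_ne_zero hm2' hm2'
    have hco : ν / μ + μ / ν + 1 ≠ 0 := by
      intro e
      apply hm8
      field_simp at e
      rw [hμ, hν] at e
      linear_combination e
    have shiftμ : ∀ a c, B (μ * a) c = B a (c / μ) := fun a c => by
      conv_lhs => rw [show c = μ * (c / μ) by field_simp]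
      exact Binv _ hm1 a _
    have shiftν : ∀ a c, B (ν * a) c = B a (c / ν) := fun a c => by
      conv_lhs => rw [show c = ν * (c / ν) by field_simp]
      exact Binv _ hm2' a _
    have key : ∀ c : F, B a ((ν / μ + μ / ν + 1) * c) = 1 := by
      intro c
      have e1 := Binv (m ^ 2 + 1) hm2 a c
      rw [show (m ^ 2 + 1) * (m ^ 2 + 1) = μ + ν by rw [hμ, hν]; ring, add_mul μ ν a, add_mul μ ν c,
        Badd, shiftμ, shiftν, ← Badd',
        show (μ * c + ν * c) / μ + (μ * c + ν * c) / ν = c + (ν / μ + μ / ν + 1) * c by field_simp; ring,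
        Badd', mul_eq_left] at e1
      exact e1
    have := key (b / (ν / μ + μ / ν + 1))
    rwa [mul_div_cancel₀ _ hco] at this

end torus

end Cfsg.Agent.PushUp2
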