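/-
Rank-one pushing up for `p ≥ 5` when the Sylow normaliser is not in the group: the kernel part is central.
-/
import Cfsg.Agent.Lib.PushUp2.QdA

set_option autoImplicit false
set_option linter.unusedSectionVars false

namespace Cfsg.Agent.PushUp2

open Subgroup PushUp Matrix
open scoped commutatorElement

variable {G : Type*} [Group G] [Finite G] {p : ℕ} [hp : Fact p.Prime] {S : Subgroup G} {g : G}
  {F : Type} [Field F] {φ : G →* Matrix.ProjectiveSpecialLinearGroup (Fin 2) F}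
  {Φ : G →* Matrix.SpecialLinearGroup (Fin 2) F} {ψ : G → Fin 2 → F}

local notation "O" => Cfsg.pCore p G

/-- An automorphism of `S` coming from outside, seen through a pair of inverse maps. -/
structure Foreign (p : ℕ) (S : Subgroup G) (f f' : G → G) : Prop where
  mem : ∀ s ∈ S, f s ∈ S
  mem' : ∀ s ∈ S, f' s ∈ S
  inv : ∀ s ∈ S, f (f' s) = s
  inv' : ∀ s ∈ S, f' (f s) = s
  mul : ∀ s ∈ S, ∀ t ∈ S, f (s * t) = f s * f t
  no_map : ∀ R R' : Subgroup G, R.Normal → R'.Normal → R ≤ Cfsg.pCore p G → R' ≤ Cfsg.pCore p G →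
    R ≠ ⊥ → (∀ r ∈ R, f r ∈ R') → ¬ ∀ r ∈ R', f' r ∈ R
  pull : ∀ R : Subgroup G, R.Normal → R ≤ Cfsg.pCore p G → R ≠ ⊥ →
    ∀ x ∈ normalizer (S : Set G), (∀ r ∈ R, f (x * f' r * x⁻¹) ∈ R) →
      ∃ y, ∀ r ∈ R, y * r * y⁻¹ = f (x * f' r * x⁻¹)

variable {f f' : G → G}

theorem Foreign.map_one (hf : Foreign p S f f') : f 1 = 1 := by
  have := hf.mul 1 (one_mem _) 1 (one_mem _)
  rw [mul_one] at this
  exact left_eq_mul.1 this

theorem Foreign.map_inv (hf : Foreign p S f f') {s : G} (hs : s ∈ S) : f s⁻¹ = (f s)⁻¹ := by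
  refine eq_inv_of_mul_eq_one_left ?_
  rw [← hf.mul _ (inv_mem hs) _ hs, inv_mul_cancel, hf.map_one]

theorem Foreign.map_pow (hf : Foreign p S f f') {s : G} (hs : s ∈ S) (k : ℕ) : f (s ^ k) = f s ^ k := by
  induction k with
  | zero => rw [pow_zero, pow_zero, hf.map_one]
  | succ k ih => rw [pow_succ, pow_succ, hf.mul _ (pow_mem hs k) _ hs, ih]

theorem Foreign.map_comm (hf : Foreign p S f f') {s u : G} (hs : s ∈ S) (hu : u ∈ S) :
    f ⁅s, u⁆ = ⁅f s, f u⁆ := by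
  rw [commutatorElement_def, commutatorElement_def,
    hf.mul _ (mul_mem (mul_mem hs hu) (inv_mem hs)) _ (inv_mem hu),
    hf.mul _ (mul_mem hs hu) _ (inv_mem hs), hf.mul _ hs _ hu, hf.map_inv hs, hf.map_inv hu]

theorem Foreign.map_pow' (hf : Foreign p S f f') {s : G} (hs : s ∈ S) (k : ℕ) : f' (s ^ k) = f' s ^ k := by
  conv_lhs => rw [← hf.inv s hs, ← hf.map_pow (hf.mem' s hs) k]
  exact hf.inv' _ (pow_mem (hf.mem' s hs) k)

section torus

variable {t : G} {V₀ E : Subgroup G}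

theorem Torus.E_le_S (h : Torus p S g φ Φ ψ t V₀ E) : E ≤ S :=
  h.E_le.trans h.data.hyp.frame.sit.core_le

theorem Torus.l_comm_E (_h : Torus p S g φ Φ ψ t V₀ E) {l e : G} (hl : l ∈ lOne t E) (he : e ∈ E) :
    Commute e l := mem_centralizer_iff.1 hl.2 e he

theorem Torus.v_comm_E (h : Torus p S g φ Φ ψ t V₀ E) {v e : G} (hv : v ∈ V₀) (he : e ∈ E) :
    Commute e v := h.V_comm hv (h.E_le he)

/-- A commutator with an element of `E`, taken in `S`, is central and lies in `E`. -/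
theorem Torus.comm_E (h : Torus p S g φ Φ ψ t V₀ E) {e y : G} (he : e ∈ E) (hy : y ∈ S) :
    ⁅e, y⁆ ∈ E ∧ ∀ k : G, k * ⁅e, y⁆ = ⁅e, y⁆ * k := by
  have hc : ⁅e, y⁆ ∈ E := by
    rw [commutatorElement_def, mul_assoc e, mul_assoc e]
    exact E.mul_mem he (h.E_normal.conj_mem _ (inv_mem he) y)
  refine ⟨hc, fun k => ?_⟩
  obtain ⟨w, hw, e', he', l, hl, rfl⟩ := h.decomp3 k
  have c2 : Commute (⁅e, y⁆) e' := ((zc_comm (h.cls e (h.E_le_S he) y hy) (h.E_le_S he'))).symm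
  exact (((h.v_comm_E hw hc).mul_right c2).mul_right (h.l_comm_E hl hc)).eq.symm

/-- A foreign map sends such commutators into `V₀`. -/
theorem Torus.foreign_comm (h : Torus p S g φ Φ ψ t V₀ E) (hf : Foreign p S f f') {a b : G}
    (ha : a ∈ E) (hb : b ∈ E) : f ⁅a, b⁆ ∈ V₀ := by
  have hVn := h.V_normal
  -- images of elements of `E` centralise `E`
  have key : ∀ e ∈ E, ∀ c ∈ E, Commute (f e) c := by
    intro e he c hc
    have heS := h.E_le_S he
    have hcS := h.E_le_S hc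
    by_contra hne
    have hd : ⁅f e, c⁆ ≠ 1 := fun h1 => hne (commutatorElement_eq_one_iff_mul_comm.1 h1)
    obtain ⟨hdE, hdc⟩ : ⁅f e, c⁆ ∈ E ∧ ∀ k : G, k * ⁅f e, c⁆ = ⁅f e, c⁆ * k := by
      obtain ⟨h1, h2⟩ := h.comm_E hc (hf.mem e heS)
      rw [← commutatorElement_inv]
      exact ⟨inv_mem h1, fun k => (show Commute k ⁅c, f e⁆ from h2 k).inv_right⟩
    obtain ⟨hrE, hrc⟩ := h.comm_E he (hf.mem' c hcS)
    have hfr : f ⁅e, f' c⁆ = ⁅f e, c⁆ := by rw [hf.map_comm heS (hf.mem' c hcS), hf.inv c hcS]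
    have hr : ⁅e, f' c⁆ ≠ 1 := fun h1 => hd (by rw [← hfr, h1, hf.map_one])
    have hnorm : ∀ d : G, (∀ k, k * d = d * k) → (zpowers d).Normal := fun d hd' => ⟨fun x hx k => by
      obtain ⟨i, rfl⟩ := mem_zpowers_iff.1 hx
      rw [((show Commute k d from hd' k).zpow_right i).eq, mul_inv_cancel_right]
      exact hx⟩
    refine hf.no_map (zpowers ⁅e, f' c⁆) (zpowers ⁅f e, c⁆) (hnorm _ hrc) (hnorm _ hdc)
      ((zpowers_le).2 (h.E_le hrE)) ((zpowers_le).2 (h.E_le hdE)) (by rwa [Ne, zpowers_eq_bot]) ?_ ?_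
    · intro r hr'
      obtain ⟨i, rfl⟩ := mem_powers_iff_mem_zpowers.2 hr'
      show f (⁅e, f' c⁆ ^ i) ∈ _
      rw [hf.map_pow (h.E_le_S hrE), hfr]
      exact pow_mem (mem_zpowers _) _
    · intro r hr'
      obtain ⟨i, rfl⟩ := mem_powers_iff_mem_zpowers.2 hr'
      show f' (⁅f e, c⁆ ^ i) ∈ _
      rw [hf.map_pow' (h.E_le_S hdE), ← hfr, hf.inv' _ (h.E_le_S hrE)]
      exact pow_mem (mem_zpowers _) _
  rw [hf.map_comm (h.E_le_S ha) (h.E_le_S hb)]
  obtain ⟨w, hw, e, he, l, hl, hlS, e1⟩ := h.decomp_S (hf.mem a (h.E_le_S ha))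
  obtain ⟨w', hw', e', he', l', hl', hl'S, e2⟩ := h.decomp_S (hf.mem b (h.E_le_S hb))
  have cent : ∀ {s w e l : G}, (∀ c ∈ E, Commute s c) → w ∈ V₀ → l ∈ lOne t E → s = w * e * l →
      ∀ c ∈ E, Commute e c := by
    intro s w e l hs hw hl es c hc
    have : e = w⁻¹ * s * l⁻¹ := by rw [es]; group
    rw [this]
    exact ((h.v_comm_E hw hc).symm.inv_left.mul_left (hs c hc)).mul_left (h.l_comm_E hl hc).symm.inv_left
  have hee := cent (key a ha) hw hl e1 e' he'
  set π := QuotientGroup.mk' V₀ with hπ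
  have hπ1 : ∀ v ∈ V₀, π v = 1 := fun v hv => (QuotientGroup.eq_one_iff v).2 hv
  refine (QuotientGroup.eq_one_iff _).1 ?_
  show π ⁅f a, f b⁆ = 1
  rw [map_commutatorElement, e1, e2, mul_assoc w, mul_assoc w', map_mul π w, map_mul π w', hπ1 w hw,
    hπ1 w' hw', one_mul, one_mul, commutatorElement_eq_one_iff_mul_comm]
  have hll : Commute l l' := h.abel hl hlS hl' hl'S
  exact ((hee.mul_right (h.l_comm_E hl' he)).mul_left
    ((h.l_comm_E hl he').symm.mul_right hll)).map π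

/-- `E` is commutative. -/
theorem Torus.E_comm (h : Torus p S g φ Φ ψ t V₀ E) (hf : Foreign p S f f') (hf' : Foreign p S f' f)
    {a b : G} (ha : a ∈ E) (hb : b ∈ E) : a * b = b * a := by
  rw [← commutatorElement_eq_one_iff_mul_comm]
  by_contra hne
  obtain ⟨hdE, hdc⟩ := h.comm_E ha (h.E_le_S hb)
  set d := ⁅a, b⁆ with hd
  have hdS := h.E_le_S hdE
  obtain ⟨-, hvt⟩ := (h.mem_V _).1 (h.foreign_comm hf' ha hb)
  have hRn : (zpowers d).Normal := ⟨fun x hx k => by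
    obtain ⟨i, rfl⟩ := mem_zpowers_iff.1 hx
    rw [((show Commute k d from hdc k).zpow_right i).eq, mul_inv_cancel_right]
    exact hx⟩
  have hval : ∀ i : ℕ, f (t * f' (d ^ i) * t⁻¹) = (d ^ i)⁻¹ := fun i => by
    rw [hf.map_pow' hdS, ← conj_pow, hvt, inv_pow, hf.map_inv (pow_mem (hf.mem' d hdS) i),
      hf.map_pow (hf.mem' d hdS), hf.inv d hdS]
  have ht : t ∈ normalizer (S : Set G) := by
    refine le_normalizer_of_conj_mem (K := zpowers t) (fun x hx s hs => ?_) (mem_zpowers t)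
    have hO : ⁅x, s⁆ ∈ O := by
      rw [← h.ker, MonoidHom.mem_ker, map_commutatorElement, commutatorElement_eq_one_iff_mul_comm]
      obtain ⟨i, rfl⟩ := mem_zpowers_iff.1 hx
      rw [map_zpow]
      have : Commute (Φ t) (Φ s) := Matrix.SpecialLinearGroup.ext _ _ fun i j => by
        rw [Matrix.SpecialLinearGroup.coe_mul, Matrix.SpecialLinearGroup.coe_mul, h.img]; simp
      exact (this.zpow_left i).eq
    have e : x * s * x⁻¹ = ⁅x, s⁆ * s := by rw [commutatorElement_def]; group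
    rw [e]
    exact mul_mem (h.data.hyp.frame.sit.core_le hO) hs
  obtain ⟨y, hy⟩ := hf.pull (zpowers d) hRn ((zpowers_le).2 (h.E_le hdE)) (by rwa [Ne, zpowers_eq_bot]) t ht
    (fun r hr => by
      obtain ⟨i, rfl⟩ := mem_powers_iff_mem_zpowers.2 hr
      show f (t * f' (d ^ i) * t⁻¹) ∈ _
      rw [hval i]
      exact inv_mem (pow_mem (mem_zpowers _) _))
  have h1 := hy d (mem_zpowers d)
  have h2 := hval 1
  rw [pow_one] at h2
  rw [h2, hdc y, mul_inv_cancel_right] at h1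
  exact hne (h.eq_one_of_sq (h.E_le hdE) (by rwa [← eq_inv_iff_mul_eq_one]))

/-- `E` is central. -/
theorem Torus.E_central (h : Torus p S g φ Φ ψ t V₀ E) (hf : Foreign p S f f') (hf' : Foreign p S f' f)
    {e : G} (he : e ∈ E) (k : G) : Commute e k := by
  obtain ⟨w, hw, e', he', l, hl, rfl⟩ := h.decomp3 k
  exact ((h.v_comm_E hw he).mul_right (h.E_comm hf hf' he he')).mul_right (h.l_comm_E hl he)

end torus

end Cfsg.Agent.PushUp2
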