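/-
Rank-one pushing up for `p ≥ 5`: splitting off the central part.
-/
import Cfsg.Agent.Lib.PushUp2.QdB
import Cfsg.Agent.Lib.Solvable.Gaschutz
import Cfsg.Prelude.Def_LocalEven

set_option autoImplicit false
set_option linter.unusedSectionVars false

namespace Cfsg.Agent.PushUp2

open Subgroup PushUp Matrix
open scoped commutatorElement

variable {G : Type*} [Group G] [Finite G] {p : ℕ} [hp : Fact p.Prime] {S : Subgroup G} {g : G}
  {F : Type} [Field F] {φ : G →* Matrix.ProjectiveSpecialLinearGroup (Fin 2) F}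
  {Φ : G →* Matrix.SpecialLinearGroup (Fin 2) F} {ψ : G → Fin 2 → F}

local notation "O" => Cfsg.pCore p G

/-- The affine matrix of a linear part and a translation. -/
def aff (M : Matrix.SpecialLinearGroup (Fin 2) F) (x : Fin 2 → F) : Matrix.SpecialLinearGroup (Fin 3) F :=
  ⟨!![(M : Matrix (Fin 2) (Fin 2) F) 0 0, (M : Matrix (Fin 2) (Fin 2) F) 0 1, x 0;
      (M : Matrix (Fin 2) (Fin 2) F) 1 0, (M : Matrix (Fin 2) (Fin 2) F) 1 1, x 1; 0, 0, 1], by
    have h : (M : Matrix (Fin 2) (Fin 2) F) 0 0 * (M : Matrix (Fin 2) (Fin 2) F) 1 1 -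
        (M : Matrix (Fin 2) (Fin 2) F) 0 1 * (M : Matrix (Fin 2) (Fin 2) F) 1 0 = 1 := by
      rw [← Matrix.det_fin_two]; exact M.2
    rw [Matrix.det_fin_three]
    simpa using h⟩

theorem aff_mul (M N : Matrix.SpecialLinearGroup (Fin 2) F) (x y : Fin 2 → F) :
    aff M x * aff N y = aff (M * N) (x + (M : Matrix (Fin 2) (Fin 2) F) *ᵥ y) := by
  apply Subtype.ext
  rw [Matrix.SpecialLinearGroup.coe_mul]
  simp only [aff]
  ext i j
  fin_cases i <;> fin_cases j <;>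
    simp [Matrix.mul_apply, Fin.sum_univ_three, Fin.sum_univ_two, Matrix.SpecialLinearGroup.coe_mul,
      Matrix.mulVec, dotProduct, add_comm, add_left_comm]

theorem aff_inj {M : Matrix.SpecialLinearGroup (Fin 2) F} {x : Fin 2 → F} (h : aff M x = 1) :
    M = 1 ∧ x = 0 := by
  have e : ∀ i j : Fin 3, ((aff M x : Matrix.SpecialLinearGroup (Fin 3) F) : Matrix (Fin 3) (Fin 3) F) i j
      = (1 : Matrix (Fin 3) (Fin 3) F) i j := fun i j => by rw [h, Matrix.SpecialLinearGroup.coe_one]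
  refine ⟨Matrix.SpecialLinearGroup.ext _ _ fun i j => ?_, funext fun i => ?_⟩
  · have := e (Fin.castSucc i) (Fin.castSucc j)
    fin_cases i <;> fin_cases j <;> simpa [aff] using this
  · have := e (Fin.castSucc i) 2
    fin_cases i <;> simpa [aff] using this

section torus

variable {t : G} {V₀ E : Subgroup G} {f f' : G → G}

/-- A complement to `E` in the centraliser of `t`. -/
theorem Torus.exists_complement (h : Torus p S g φ Φ ψ t V₀ E)
    (hcen : ∀ e ∈ E, ∀ k : G, Commute e k) :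
    ∃ L₀ : Subgroup G, (∀ l ∈ L₀, t * l = l * t) ∧ (∀ M, ∃ l ∈ L₀, Φ l = M) ∧
      ∀ l ∈ L₀, Φ l = 1 → l = 1 := by
  have hF := h.data.hyp.frame
  have hΦ := h.data.lifts
  have hVn := h.V_normal
  set L : Subgroup G := centralizer ({t} : Set G) with hL
  have memL : ∀ {x : G}, x ∈ L ↔ t * x = x * t := fun {x} => by
    rw [hL, mem_centralizer_singleton_iff, eq_comm]
  have l1L : ∀ x ∈ L, x ∈ lOne t E := fun x hx =>
    ⟨hx, mem_centralizer_iff.2 fun e he => (hcen e he x).eq⟩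
  have kerL : ∀ x ∈ L, Φ x = 1 → x ∈ E := fun x hx h1 =>
    h.mem_E.2 ⟨by rw [← h.ker]; exact h1, memL.1 hx⟩
  have hEL : E ≤ L := fun e he => memL.2 (h.mem_E.1 he).2
  have hUS : ∀ x ∈ L, ∀ a : F, Φ x = up a → x ∈ S := by
    intro x hx a ha
    obtain ⟨s, hs, hc⟩ := hF.exists_elem a
    have hxs : x * s⁻¹ ∈ O := by
      rw [← h.ker, MonoidHom.mem_ker, map_mul, map_inv, ha, hΦ.up_S s hs a hc, mul_inv_cancel]
    simpa using S.mul_mem (hF.sit.core_le hxs) hs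
  have hcoord : ∀ x ∈ S, ∃ a : F, Φ x = up a := fun x hx => by
    obtain ⟨a, ha⟩ := hF.exists_coord hx
    exact ⟨a, hΦ.up_S x hx a ha⟩
  have hU : ∀ x ∈ S ⊓ L, ∀ y ∈ S ⊓ L, x * y = y * x := fun x hx y hy =>
    h.abel (l1L x hx.2) hx.1 (l1L y hy.2) hy.1
  obtain ⟨k, hk, hkΦ⟩ := h.lift (dg F 2 h.two_ne)
  have hkL : k ∈ L := hk.1
  have hconj : ∀ x ∈ S ⊓ L, ∀ a, Φ x = up a → k * x * k⁻¹ * x⁻¹ ∈ S ⊓ L ∧ Φ (k * x * k⁻¹ * x⁻¹) = up (3 * a) := by
    intro x hx a ha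
    have e : Φ (k * x * k⁻¹) = up (2 * 2 * a) := by rw [map_mul, map_mul, map_inv, hkΦ, ha, dg_up]
    refine ⟨mul_mem ⟨hUS _ (L.mul_mem (L.mul_mem hkL hx.2) (L.inv_mem hkL)) _ e,
      L.mul_mem (L.mul_mem hkL hx.2) (L.inv_mem hkL)⟩ (inv_mem hx), ?_⟩
    rw [map_mul, e, map_inv, ha, mul_inv_eq_iff_eq_mul, up_mul]
    congr 1
    ring
  have h3 : (3 : F) ≠ 0 := by
    intro e
    have hb := congrArg (fun z : ℤ => (z : F)) (Nat.gcd_eq_gcd_ab 3 p)
    have hc : Nat.gcd 3 p = 1 := (Nat.coprime_primes Nat.prime_three hp.out).2 (by have := h.five; omega)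
    simp only [hc, Nat.cast_one, Int.cast_one, Int.cast_add, Int.cast_mul, Int.cast_natCast,
      hF.natCast_eq_zero, zero_mul, add_zero, Nat.cast_ofNat, e] at hb
    simp [e] at hb
  let β : ↥(S ⊓ L) →* G :=
    { toFun := fun x => k * (x : G) * k⁻¹ * (x : G)⁻¹
      map_one' := by simp
      map_mul' := fun x y => by
        obtain ⟨a, ha⟩ := hcoord x x.2.1
        obtain ⟨b, hb⟩ := hcoord y y.2.1
        have hy' := (hconj y y.2 b hb).1
        have hc : Commute (k * (y : G) * k⁻¹ * (y : G)⁻¹) (x : G)⁻¹ :=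
          (show Commute _ _ from hU _ hy' _ x.2).inv_right
        have hxy : Commute (x : G)⁻¹ (y : G)⁻¹ := ((show Commute (x : G) (y : G) from hU _ x.2 _ y.2).inv_left).inv_right
        show k * ((x : G) * y) * k⁻¹ * ((x : G) * y)⁻¹ = _
        rw [_root_.mul_inv_rev, hxy.eq.symm]
        calc k * ((x : G) * y) * k⁻¹ * ((x : G)⁻¹ * (y : G)⁻¹)
            = (k * x * k⁻¹) * ((k * y * k⁻¹ * (y : G)⁻¹) * (x : G)⁻¹) := by
              rw [hxy.eq]; group
          _ = (k * x * k⁻¹) * ((x : G)⁻¹ * (k * y * k⁻¹ * (y : G)⁻¹)) := by rw [hc.eq]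
          _ = _ := by group }
  have hβ : ∀ x : ↥(S ⊓ L), β x ∈ S ⊓ L ∧ ∃ a, Φ (x : G) = up a ∧ Φ (β x) = up (3 * a) := fun x => by
    obtain ⟨a, ha⟩ := hcoord x x.2.1
    exact ⟨(hconj x x.2 a ha).1, a, ha, (hconj x x.2 a ha).2⟩
  have hAE : ∀ x : ↥(S ⊓ L), β x ∈ E → β x = 1 := by
    intro x hx
    obtain ⟨-, a, ha, hb⟩ := hβ x
    have h1 : Φ (β x) = 1 := by rw [← MonoidHom.mem_ker, h.ker]; exact h.E_le hx
    rw [hb] at h1
    have h0 : 3 * a = 0 := by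
      simpa [coe_up] using congrFun (congrFun (congrArg Subtype.val h1) 0) 1
    obtain rfl : a = 0 := (mul_eq_zero.1 h0).resolve_left h3
    have hxE := kerL x x.2.2 (by rw [ha, up_zero])
    show k * (x : G) * k⁻¹ * (x : G)⁻¹ = 1
    rw [← (hcen _ hxE k).eq, mul_inv_cancel_right, mul_inv_cancel]
  set K : Subgroup ↥L := E.subgroupOf L with hK
  set U : Subgroup ↥L := S.subgroupOf L with hUdef
  have hKn : K.Normal := h.E_normal.subgroupOf L
  have : IsMulCommutative ↥K := ⟨⟨fun a b => Subtype.ext (Subtype.ext (hcen _ a.2 _).eq)⟩⟩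
  have hKU : K ≤ U := fun x hx => h.E_le_S hx
  have hEp : IsPGroup p ↥E := (PBasic.pCore_isPGroup p G).to_le h.E_le
  have hidx : ¬ p ∣ U.index := by
    obtain ⟨P, hP⟩ := ((hF.sit.pgroup.to_le inf_le_left : IsPGroup p ↥(S ⊓ L)).comap_of_injective
      L.subtype L.subtype_injective).exists_le_sylow
    have hUP : U ≤ P := fun x hx => hP ⟨hx, x.2⟩
    have hpg : IsPGroup p ↥((P : Subgroup ↥L).map L.subtype ⊔ V₀) :=
      (P.2.map L.subtype).to_sup_of_normal_right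
        ((PBasic.pCore_isPGroup p G).to_le (h.V_le.trans h.data.hyp.vm_le_core))
    have hSle : S ≤ (P : Subgroup ↥L).map L.subtype ⊔ V₀ := by
      intro s hs
      obtain ⟨w, hw, e, he, l, hl, hlS, rfl⟩ := h.decomp_S hs
      refine mul_mem (mul_mem (mem_sup_right hw) (mem_sup_left ?_)) (mem_sup_left ?_)
      · exact ⟨⟨e, hEL he⟩, hUP (h.E_le_S he), rfl⟩
      · exact ⟨⟨l, hl.1⟩, hUP hlS, rfl⟩
    have heq := (hF.sit.pgroup.toSylow hF.sit.not_dvd).is_maximal' hpg hSle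
    have hPU : (P : Subgroup ↥L) = U := le_antisymm (fun (x : ↥L) hx =>
      (show (x : G) ∈ S from heq.le (mem_sup_left (mem_map_of_mem L.subtype hx)))) hUP
    rw [← hPU]
    exact P.not_dvd_index
  have hcop : (Nat.card K).Coprime U.index := by
    obtain ⟨m, hm⟩ := IsPGroup.iff_card.1 (hEp.comap_of_injective L.subtype L.subtype_injective)
    rw [show K = E.comap L.subtype from rfl, hm]
    exact Nat.Coprime.pow_left m ((Nat.Prime.coprime_iff_not_dvd hp.out).2 hidx)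
  obtain ⟨H, hH⟩ := SolvGaschutz.existence (K := K) (U := U) hKU hcop (A := β.range.subgroupOf L)
    (fun x hx => by
      obtain ⟨y, e⟩ := hx
      have := (hβ y).1.1
      rw [e] at this
      exact this)
    (le_bot_iff.1 fun x hx => by
      obtain ⟨y, e⟩ := hx.1
      have : β y = 1 := hAE y (by rw [e]; exact hx.2)
      rw [e] at this
      exact mem_bot.2 (Subtype.ext this))
    (le_antisymm (sup_le hKU fun x hx => by
      obtain ⟨y, e⟩ := hx
      have := (hβ y).1.1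
      rw [e] at this
      exact this) fun x hx => by
      obtain ⟨a, ha⟩ := hcoord x hx
      obtain ⟨y, hy, hyΦ⟩ := h.lift (up (a / 3))
      have hyU : y ∈ S ⊓ L := ⟨hUS y hy.1 _ hyΦ, hy.1⟩
      obtain ⟨⟨hzS, hzL⟩, hzΦ⟩ := hconj y hyU _ hyΦ
      rw [mul_div_cancel₀ a h3] at hzΦ
      have hxe : (x : G) * (k * y * k⁻¹ * y⁻¹)⁻¹ ∈ E := kerL _ (mul_mem x.2 (inv_mem hzL)) (by
        rw [map_mul, map_inv, ha, hzΦ, mul_inv_cancel])
      have hm := mul_mem (mem_sup_left (T := β.range.subgroupOf L)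
          (show (⟨_, hEL hxe⟩ : ↥L) ∈ K from hxe))
        (mem_sup_right (S := K) (show (⟨_, hzL⟩ : ↥L) ∈ β.range.subgroupOf L from ⟨⟨y, hyU⟩, rfl⟩))
      convert hm using 1
      exact Subtype.ext (inv_mul_cancel_right _ _).symm)
  refine ⟨H.map L.subtype, ?_, fun M => ?_, ?_⟩
  · rintro _ ⟨x, -, rfl⟩; exact memL.1 x.2
  · obtain ⟨l, hl, rfl⟩ := h.lift M
    obtain ⟨⟨⟨a, ha⟩, ⟨b, hb⟩⟩, e⟩ := hH.2 ⟨l, hl.1⟩
    refine ⟨b, mem_map_of_mem _ hb, ?_⟩
    have e' : (a : G) * (b : G) = l := congrArg Subtype.val e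
    rw [← e', map_mul, show Φ (a : G) = 1 by rw [← MonoidHom.mem_ker, h.ker]; exact h.E_le ha, one_mul]
  · rintro _ ⟨x, hx, rfl⟩ h1
    have : x ∈ K ⊓ H := ⟨kerL _ x.2 h1, hx⟩
    rw [hH.disjoint.eq_bot, mem_bot] at this
    rw [this]; rfl

/-- Splitting off `E`. -/
theorem Torus.split (h : Torus p S g φ Φ ψ t V₀ E) (hcen : ∀ e ∈ E, ∀ k : G, Commute e k) :
    ∃ G₀ : Subgroup G, G₀ ⊓ E = ⊥ ∧ G₀ ⊔ E = ⊤ ∧ Nonempty (↥G₀ ≃* ↥(Cfsg.qdOver F)) := by
  have hVn := h.V_normal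
  obtain ⟨L₀, hLt, hLs, hLi⟩ := h.exists_complement hcen
  have hV1 : ∀ v ∈ V₀, Φ v = 1 := fun v hv =>
    h.data.lifts.core_le_ker h.data.hyp.frame (h.data.hyp.vm_le_core (h.V_le hv))
  have hdec : ∀ x : ↥(V₀ ⊔ L₀), ∃ v ∈ V₀, ∃ l ∈ L₀, (x : G) = v * l := fun x => by
    obtain ⟨v, hv, l, hl, e⟩ := mem_sup_of_normal_left.1 x.2
    exact ⟨v, hv, l, hl, e.symm⟩
  choose cv hcv cl hcl hx using hdec
  have uniq : ∀ v ∈ V₀, ∀ v' ∈ V₀, ∀ l ∈ L₀, ∀ l' ∈ L₀, v * l = v' * l' → v = v' ∧ l = l' := by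
    intro v hv v' hv' l hl l' hl' e
    have e1 : v'⁻¹ * v = l' * l⁻¹ := by
      calc v'⁻¹ * v = v'⁻¹ * (v * l) * l⁻¹ := by group
        _ = _ := by rw [e]; group
    have h1 : l' * l⁻¹ = 1 := hLi _ (mul_mem hl' (inv_mem hl)) (by
      rw [← e1, map_mul, map_inv, hV1 v hv, hV1 v' hv', inv_one, mul_one])
    rw [h1] at e1
    exact ⟨(inv_mul_eq_one.1 e1).symm, (mul_inv_eq_one.1 h1).symm⟩
  let Θ : ↥(V₀ ⊔ L₀) →* Matrix.SpecialLinearGroup (Fin 3) F :=
    MonoidHom.mk' (fun x => aff (Φ (x : G)) (ψ (cv x))) fun x y => by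
      have hm : cl x * cv y * (cl x)⁻¹ ∈ V₀ := hVn.conj_mem _ (hcv y) _
      have e := (uniq _ (hcv (x * y)) _ (mul_mem (hcv x) hm) _ (hcl (x * y)) _
        (mul_mem (hcl x) (hcl y)) (by rw [← hx (x * y), Subgroup.coe_mul, hx x, hx y]; group)).1
      show aff (Φ ((x : G) * y)) (ψ (cv (x * y))) = aff (Φ (x : G)) (ψ (cv x)) * aff (Φ (y : G)) (ψ (cv y))
      rw [aff_mul, map_mul, e, h.data.layer.map_mul _ (h.V_le (hcv x)) _ (h.V_le hm),
        h.data.layer.conj (cl x) (cv y) (h.V_le (hcv y))]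
      have : Φ (x : G) = Φ (cl x) := by rw [hx x, map_mul, hV1 _ (hcv x), one_mul]
      rw [this]
  have hinj : Function.Injective Θ := by
    rw [injective_iff_map_eq_one]
    intro x h1
    obtain ⟨h2, h3⟩ := aff_inj (show aff (Φ (x : G)) (ψ (cv x)) = 1 from h1)
    have hv1 := h.psi_inj (hcv x) h3
    have hl1 : cl x = 1 := hLi _ (hcl x) (by rwa [hx x, map_mul, hV1 _ (hcv x), one_mul] at h2)
    exact Subtype.ext (by rw [hx x, hv1, hl1, mul_one]; rfl)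
  have hsurj : ∀ M x, aff M x ∈ Θ.range := by
    intro M x
    obtain ⟨v, hv, hvx⟩ := h.psi_surj x
    obtain ⟨l, hl, hlM⟩ := hLs M
    refine ⟨⟨v * l, mul_mem (mem_sup_left hv) (mem_sup_right hl)⟩, ?_⟩
    show aff (Φ (v * l)) (ψ (cv _)) = _
    rw [(uniq _ (hcv _) _ hv _ (hcl _) _ hl (hx _).symm).1, hvx, map_mul, hV1 v hv, one_mul, hlM]
  have hrange : Θ.range = Cfsg.qdOver F := by
    refine le_antisymm ?_ ((Subgroup.closure_le _).2 ?_)
    · rintro _ ⟨x, rfl⟩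
      exact Subgroup.subset_closure ⟨rfl, rfl, rfl⟩
    · rintro M ⟨h0, h1, h2⟩
      have hd : Matrix.det !![(M : Matrix (Fin 3) (Fin 3) F) 0 0, (M : Matrix (Fin 3) (Fin 3) F) 0 1;
          (M : Matrix (Fin 3) (Fin 3) F) 1 0, (M : Matrix (Fin 3) (Fin 3) F) 1 1] = 1 := by
        have := M.2
        rw [Matrix.det_fin_three, h0, h1, h2] at this
        rw [Matrix.det_fin_two_of]
        linear_combination this
      refine SetLike.mem_coe.2 ?_
      convert hsurj ⟨_, hd⟩ ![(M : Matrix (Fin 3) (Fin 3) F) 0 2, (M : Matrix (Fin 3) (Fin 3) F) 1 2] using 1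
      apply Subtype.ext
      ext i j
      fin_cases i <;> fin_cases j <;> simp [aff, h0, h1, h2]
  refine ⟨V₀ ⊔ L₀, ?_, ?_, ⟨(MonoidHom.ofInjective hinj).trans (MulEquiv.subgroupCongr hrange)⟩⟩
  · refine le_bot_iff.1 fun x hx' => ?_
    obtain ⟨v, hv, l, hl, rfl⟩ := mem_sup_of_normal_left.1 hx'.1
    obtain ⟨hO, -⟩ := h.mem_E.1 hx'.2
    have h1 : Φ (v * l) = 1 := by rw [← MonoidHom.mem_ker, h.ker]; exact hO
    rw [map_mul, hV1 v hv, one_mul] at h1
    obtain rfl := hLi l hl h1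
    have hvE : v ∈ E := by simpa using hx'.2
    exact mem_bot.2 (by rw [mem_bot.1 (h.inf_eq.le ⟨hv, hvE⟩), mul_one])
  · refine top_unique fun x _ => ?_
    obtain ⟨w, hw, e, he, l, hl, rfl⟩ := h.decomp3 x
    obtain ⟨l', hl', e'⟩ := hLs (Φ l)
    have hlE : l * l'⁻¹ ∈ E := h.mem_E.2 ⟨by rw [← h.ker, MonoidHom.mem_ker, map_mul, map_inv, e', mul_inv_cancel],
      ((show Commute t l from (mem_centralizer_singleton_iff.1 hl.1).symm).mul_right
        (show Commute t l' from hLt l' hl').inv_right).eq⟩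
    have := mul_mem (mul_mem (mul_mem (mem_sup_left (mem_sup_left hw) : w ∈ (V₀ ⊔ L₀) ⊔ E)
      (mem_sup_right he)) (mem_sup_right hlE)) (mem_sup_left (mem_sup_right hl') : l' ∈ (V₀ ⊔ L₀) ⊔ E)
    simpa [mul_assoc] using this

/-- `E` is elementary abelian. -/
theorem Torus.pow_E (h : Torus p S g φ Φ ψ t V₀ E) {e : G} (he : e ∈ E) : e ^ p = 1 :=
  h.pow e (h.E_le_S he)

end torus

end Cfsg.Agent.PushUp2
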